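import Cfsg.Agent.Lib.A8Sylow.NonFused
import Cfsg.Agent.Lib.Bender.Q.Main
import Cfsg.Agent.Lib.Bender.Q.General

/-!
The unfused case does not occur.

Blueprint: `blueprint/S2918.md`, step 4.
-/

set_option autoImplicit false
set_option maxRecDepth 100000
set_option linter.style.haveILetI false
set_option linter.unusedSectionVars false

open Cfsg

namespace CfsgLib.A8Sylow

open CfsgLib.L34Sylow (oddC oddC_le oddC_comm oddC_conj oddC_normal odd_oddC Wf oddC_le_Wf Wf_le Wf_spec le_oddC)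
open CfsgLib.Bender.TwoClosed (IsInv)

universe u

namespace W

theorem reach_zz : ∀ x : W, x ≠ 1 → x = zz ∨ (∃ u : W, u * x * u⁻¹ * x⁻¹ = zz) ∨
    ∃ u v : W, v * (u * x * u⁻¹ * x⁻¹) * v⁻¹ * (u * x * u⁻¹ * x⁻¹)⁻¹ = zz := by decide +kernel

theorem op_class : ∀ x : W, inA x = false → ∃ (j : Fin 3) (a : W), inA a ∧ x * a = gg j := by decide +kernel

end W

open scoped Pointwise

namespace Base

variable {G : Type u} [Group G] [Finite G] (B : Base G)

/-- The kernel of the odd part on sixteen points. -/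
theorem fix_all_of_five {r : MulAut B.A} {k : ℕ} (hr : r ^ 5 ^ k = 1) {a : B.A} (ha : a ≠ 1) (hfix : r a = a) :
    r = 1 := by
  classical
  haveI : Fact (Nat.Prime 5) := ⟨by norm_num⟩
  have hP : IsPGroup 5 (Subgroup.zpowers r) := fun ⟨y, hy⟩ => by
    obtain ⟨i, rfl⟩ := Subgroup.mem_zpowers_iff.mp hy
    refine ⟨k, Subtype.ext ?_⟩
    show (r ^ i) ^ 5 ^ k = 1
    rw [← zpow_natCast, zpow_comm, zpow_natCast, hr, one_zpow]
  have hmod := hP.card_modEq_card_fixedPoints (α := B.A)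
  rw [B.card_A] at hmod
  let Fr : Subgroup B.A :=
    { carrier := {x | r x = x}
      one_mem' := map_one r
      mul_mem' := fun {x y} hx hy => by show r (x * y) = x * y; rw [map_mul, hx, hy]
      inv_mem' := fun {x} hx => by show r x⁻¹ = x⁻¹; rw [map_inv, hx] }
  have hcard : Nat.card (MulAction.fixedPoints (Subgroup.zpowers r) B.A) = Nat.card Fr := by
    refine Nat.card_congr (Equiv.subtypeEquivRight fun x => ⟨fun h => h ⟨r, Subgroup.mem_zpowers r⟩, fun h g => ?_⟩)
    obtain ⟨i, hi⟩ := Subgroup.mem_zpowers_iff.mp g.2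
    show (g : MulAut B.A) x = x
    rw [← hi]
    exact MulAction.mem_stabilizer_iff.mp (zpow_mem (MulAction.mem_stabilizer_iff.mpr h : r ∈ MulAction.stabilizer _ x) i)
  rw [hcard] at hmod
  have hdvd : Nat.card Fr ∣ 16 := B.card_A ▸ Subgroup.card_subgroup_dvd_card Fr
  have h1 : 1 < Nat.card Fr := by
    haveI : Nontrivial Fr := ⟨⟨⟨a, hfix⟩, 1, fun e => ha (congrArg Subtype.val e)⟩⟩
    exact Finite.one_lt_card
  have htop : Fr = ⊤ := Subgroup.eq_top_of_card_eq Fr (by
    rw [B.card_A]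
    have hle := Nat.le_of_dvd (by norm_num) hdvd
    revert hmod hdvd h1 hle
    generalize Nat.card Fr = m
    intro hmod hdvd h1 hle
    unfold Nat.ModEq at hmod
    interval_cases m <;> omega)
  exact MulEquiv.ext fun x => show x ∈ Fr from htop ▸ Subgroup.mem_top x

/-- **The subgroup of order sixteen is fused with an outer involution.** -/
theorem fused : B.Fused := by
  classical
  by_contra hF
  haveI : Fact (Nat.Prime 2) := ⟨Nat.prime_two⟩
  haveI h5 : Fact (Nat.Prime 5) := ⟨by norm_num⟩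
  have hEA : IsElementaryAbelian 2 B.A := by
    refine ⟨⟨⟨fun a b => Subtype.ext (B.comm_A a.2 b.2)⟩⟩, fun a ha => ?_⟩
    rw [pow_two]; exact B.sq_A ha
  set W' := Wf B.A
  have hWodd : Odd (Nat.card W') := Wf_spec hEA (by rw [B.card_A]; norm_num) fun a ha _ b hb hb1 r hr hrb =>
    B.bal_none hF hb hb1 a (B.sq_A ha) (B.comm_A ha hb) r hr hrb
  -- a proper local subgroup containing the centralisers
  obtain ⟨M, hM, hNA, hOM⟩ : ∃ M : Subgroup G, M ≠ ⊤ ∧ Subgroup.normalizer (B.A : Set G) ≤ M ∧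
      ∀ a ∈ B.A, a ≠ 1 → oddC a ≤ M := by
    by_cases hW : W' = ⊥
    · refine ⟨Subgroup.normalizer (B.A : Set G), fun e => ?_, le_rfl, fun a ha ha1 => ?_⟩
      · haveI : B.A.Normal := Subgroup.normalizer_eq_top_iff.mp e
        have := CfsgLib.le_pCore (N := B.A) B.isPGroup_A B.z_mem_A
        rw [B.h2, Subgroup.mem_bot] at this
        exact B.z_ne this
      · exact (oddC_le_Wf ha ha1).trans (hW.le.trans bot_le)
    · refine ⟨Subgroup.normalizer (W' : Set G), fun e => hW ?_, fun n hn => CfsgLib.L34Sylow.mem_normalizer_Wf hn,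
        fun a ha ha1 => (oddC_le_Wf ha ha1).trans Subgroup.le_normalizer⟩
      haveI : W'.Normal := Subgroup.normalizer_eq_top_iff.mp e
      exact le_bot_iff.mp (B.hO ▸ CfsgLib.le_oddCore hWodd)
  have hC : ∀ a ∈ B.A, a ≠ 1 → Subgroup.centralizer ({a} : Set G) ≤ M := fun a ha ha1 =>
    B.cent_le_none hF hNA hOM ha ha1
  have hSM : (B.S : Subgroup G) ≤ M := B.S_le_N.trans hNA
  have hclosed : IsStronglyClosed B.A (B.S : Subgroup G) := ⟨B.A_le_S, fun x hx g hg => by
    obtain ⟨w, hw, rfl⟩ := B.mem_A.mp hx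
    exact B.closed_A hF hw hg⟩
  have hzi : IsInv B.z := ⟨B.z_ne, B.z_sq⟩
  have hcrit : CfsgLib.Bender.Q.Crit M (conjugatesOf B.z) :=
    CfsgLib.Bender.Q.crit_closed hM hclosed
      (fun g hg => hNA (B.mem_normalizer_of_conj_mem fun a ha =>
        (Subgroup.mem_normalizer_iff.mp hg a).mp (B.A_le_S ha)))
      hSM (fun t ht hti => hC t ht hti.1) B.z_mem_A hzi (fun s hs => B.z_comm_S hs)
  set L := Subgroup.closure (conjugatesOf B.z) with hL
  have hse : IsStronglyEmbedded (M.subgroupOf L) := by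
    refine CfsgLib.Bender.Q.stronglyEmbedded_closure CfsgLib.Bender.Q.theoremQ hcrit fun x _ hx hxN => ?_
    obtain ⟨m, -, hm⟩ := CfsgLib.L34Sylow.exists_conj_mem (M := M) hSM (M.normalCore_le hxN) hx.2
    obtain ⟨w, hw⟩ := B.exists_eq hm
    have hwN : B.ι w ∈ M.normalCore := hw ▸ M.normalCore_normal.conj_mem x hxN m
    have hcom : ∀ u v : W, B.ι v ∈ M.normalCore → B.ι (u * v * u⁻¹ * v⁻¹) ∈ M.normalCore := fun u v hv => by
      simp only [map_mul, map_inv]
      exact mul_mem (M.normalCore_normal.conj_mem _ hv _) (inv_mem hv)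
    have hzN : B.z ∈ M.normalCore := by
      rcases W.reach_zz w (fun e => hx.1 (conj_eq_one_iff.mp (hw.symm.trans (by rw [e, map_one])))) with
        h1 | ⟨u, h1⟩ | ⟨u, v, h1⟩
      · have := hwN; rwa [h1] at this
      · have := hcom u w hwN; rwa [h1] at this
      · have := hcom v _ (hcom u w hwN); rwa [h1] at this
    exact hM ((Subgroup.eq_top_iff' M).mpr fun g => hcrit.fix B.z mem_conjugatesOf_self (hSM (B.mem_S _)) g
      (M.normalCore_le (M.normalCore_normal.conj_mem _ hzN g)))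
  have hzL : B.z ∈ L := Subgroup.subset_closure mem_conjugatesOf_self
  haveI hLn : L.Normal := by
    refine ⟨fun x hx g => ?_⟩
    have h : L ≤ L.comap (MulAut.conj g).toMonoidHom := (Subgroup.closure_le _).mpr fun y hy =>
      Subgroup.subset_closure (hcrit.conj y hy g)
    exact h hx
  obtain ⟨u, hu, huM⟩ : ∃ u : L, orderOf u = 2 ∧ u ∉ M.subgroupOf L := by
    by_contra hc
    push Not at hc
    refine hse.1 (Subgroup.subgroupOf_eq_top.mpr ((Subgroup.closure_le _).mpr fun y hy => ?_))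
    have hyL : y ∈ L := Subgroup.subset_closure hy
    refine hc ⟨y, hyL⟩ ?_
    rw [Subgroup.orderOf_mk]
    obtain ⟨g, rfl⟩ := isConj_iff.mp hy
    rw [Involutions.orderOf_conj, B.orderOf_z]
  have hconj : ∀ t ∈ L, t * t = 1 → t ≠ 1 → ∃ l ∈ L, l * B.z * l⁻¹ = t := by
    intro t ht ht2 ht1
    have ho : orderOf (⟨B.z, hzL⟩ : L) = 2 := by rw [Subgroup.orderOf_mk, B.orderOf_z]
    obtain ⟨l, hl⟩ := isConj_iff.mp ((Cfsg.Agent.S1225.result _ hse u hu huM ⟨B.z, hzL⟩ ⟨B.z, hzL⟩ ho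
      (hSM (B.mem_S _)) ho (hSM (B.mem_S _))).2 ⟨B.z, hzL⟩ ⟨t, ht⟩ ho
      (by rw [Subgroup.orderOf_mk]; exact orderOf_eq_prime (by rw [pow_two]; exact ht2) ht1))
    exact ⟨l, l.2, congrArg Subtype.val hl⟩
  have hzcL : ∀ a, B.ZC a → a ∈ L := fun a ⟨g, hg⟩ => Subgroup.subset_closure (isConj_iff.mpr ⟨g, hg⟩)
  -- all involutions of the subgroup of order sixteen are of central type
  have hallzc : ∀ a ∈ B.A, a ≠ 1 → B.ZC a := by
    by_contra hc
    push Not at hc
    obtain ⟨a, ha, ha1, haz⟩ := hc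
    obtain ⟨n, -, j, e⟩ := (B.exists_pp_none hF ha ha1).resolve_left haz
    have hpz : ¬ B.ZC (B.ι (W.pp j)) := e ▸ B.not_zc_conj haz n
    have hnone : ∀ i : Fin 3, ¬ B.ZC (B.ι (W.pp i)) := fun i hi => hpz (B.zc_pp_all hF ⟨i, hi⟩ j)
    obtain ⟨b, hb, hbz⟩ := B.caseA_of_none_gen hnone (fun w hw h => by
      obtain ⟨g, hg⟩ := h
      have := B.closed_A hF W.zz_facts.2.2.1 (g := g) (hg ▸ B.mem_S w)
      rw [hg, B.mem_A_iff] at this
      simp [W.outer, this] at hw) (f := B.ι (W.pp j)) ⟨1, one_mem _, j, by group⟩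
    -- the involution of the column is a product of two of central type
    obtain ⟨v, hv, rfl⟩ := B.mem_A.mp hb.1
    have hor : ∃ x : W, B.ι (W.pp j) * B.ι v = B.ι x ∧ W.inA x := ⟨W.pp j * v, (map_mul _ _ _).symm,
      W.inA_facts.2.1 _ _ (W.P_inA _ (W.pp_facts j).1) hv⟩
    refine hpz ?_
    have hppL : B.ι (W.pp j) ∈ L := by
      by_contra hnL
      -- otherwise the subgroup of order sixteen contains a section outside
      have hP : ∀ y : W, W.inP y → y ≠ W.zz → ¬ B.ZC (B.ι y) := by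
        intro y hy hyz h
        rcases W.P_cases y hy with rfl | h1 | ⟨i, c, rfl⟩
        · exact B.zc_ne_one h (map_one _)
        · exact hyz h1
        · refine hnone i ?_
          have := B.zc_S h c⁻¹
          rwa [show c⁻¹ * (c * W.pp i * c⁻¹) * c⁻¹⁻¹ = W.pp i by group] at this
      by_cases hvz : v = W.zz
      · -- then the central involution would be fixed, and the column involution is a commutator
        obtain ⟨m, hm, hmc⟩ : ∃ m : W, W.inA m ∧ B.ZC (B.ι m) ∧ m.c = true := by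
          by_contra hcm
          push Not at hcm
          have hiso : IsIsolated B.z := CfsgLib.ZStar.isolated_of_sylow B.S B.orderOf_z (B.mem_S _) fun g hg => by
            obtain ⟨y, hy⟩ := B.exists_eq hg
            have hyA : W.inA y := B.mem_A_iff.mp (hy ▸ B.closed_A hF W.zz_facts.2.2.1 hg)
            by_cases hyz : y = W.zz
            · rw [← hy, hyz]
            · exact absurd ⟨g, hy.symm⟩ (hP y (by
                rw [W.inP_iff y hyA, Bool.not_eq_true', Bool.eq_false_iff]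
                exact hcm y hyA ⟨g, hy.symm⟩) hyz)
          have hcent : B.z ∈ Subgroup.center G := Subgroup.mem_center_iff.mpr fun g => by
            have h := CfsgLib.ZStar.inZStar B.orderOf_z hiso g
            rw [show pPrimeCore 2 G = ⊥ from B.hO, Subgroup.mem_bot, mul_inv_eq_one] at h
            exact mul_inv_eq_iff_eq_mul.mp h
          haveI : (Subgroup.zpowers B.z).Normal := ⟨fun n hn g => by
            rw [Subgroup.mem_center_iff.mp (Subgroup.zpowers_le.mpr hcent hn) g, mul_inv_cancel_right]; exact hn⟩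
          have := CfsgLib.le_pCore (N := Subgroup.zpowers B.z) (IsPGroup.of_card (n := 1)
            (by rw [Nat.card_zpowers, B.orderOf_z, pow_one]) : IsPGroup 2 _) (Subgroup.mem_zpowers B.z)
          rw [B.h2, Subgroup.mem_bot] at this
          exact B.z_ne this
        obtain ⟨c, hc⟩ := W.comm_mid m hm (by rw [W.inP_iff m hm, hmc.2]; rfl) j
        have hmL : B.ι m ∈ L := hzcL _ hmc.1
        rcases hc with hc | hc
        · refine hnL ?_
          rw [← hc]; simp only [map_mul, map_inv]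
          exact mul_mem (hLn.conj_mem _ hmL _) (inv_mem hmL)
        · refine hnL ?_
          have : B.ι (W.pp j * W.zz) ∈ L := by
            rw [← hc]; simp only [map_mul, map_inv]
            exact mul_mem (hLn.conj_mem _ hmL _) (inv_mem hmL)
          have := mul_mem this hzL
          rwa [map_mul, mul_assoc, B.z_sq, mul_one] at this
      · have hvL : B.ι v ∈ L := hzcL _ hbz
        have hvc : v.c = true := by
          by_contra hc
          exact hP v (by rw [W.inP_iff v hv]; simp [Bool.eq_false_iff.mpr hc]) hvz hbz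
        obtain ⟨c, hc⟩ := W.comm_mid v hv (by rw [W.inP_iff v hv, hvc]; rfl) j
        rcases hc with hc | hc
        · refine hnL ?_
          rw [← hc]; simp only [map_mul, map_inv]
          exact mul_mem (hLn.conj_mem _ hvL _) (inv_mem hvL)
        · refine hnL ?_
          have : B.ι (W.pp j * W.zz) ∈ L := by
            rw [← hc]; simp only [map_mul, map_inv]
            exact mul_mem (hLn.conj_mem _ hvL _) (inv_mem hvL)
          have := mul_mem this hzL
          rwa [map_mul, mul_assoc, B.z_sq, mul_one] at this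
    have hppA := B.mem_A_iff.mpr (W.P_inA _ (W.pp_facts j).1)
    obtain ⟨l, -, hl⟩ := hconj _ hppL (B.sq_A hppA) fun e1 => (W.pp_facts j).2.1 (B.ι_eq_one.mp e1)
    exact ⟨l, hl⟩
  have hAL : B.A ≤ L := fun a ha => by
    rcases eq_or_ne a 1 with rfl | ha1
    · exact one_mem _
    · exact hzcL a (hallzc a ha ha1)
  have hSL : ∀ w : W, B.ι w ∈ L → W.inA w := fun w hw => by
    by_contra hA
    obtain ⟨j, a, ha, hj⟩ := W.op_class w (Bool.eq_false_iff.mpr hA)
    have hg : B.ι (W.gg j) ∈ L := by rw [← hj, map_mul]; exact mul_mem hw (hAL (B.mem_A_iff.mpr ha))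
    obtain ⟨l, -, hl⟩ := hconj _ hg (by rw [← map_mul, (W.gg_sq j).1, map_one])
      fun e => (W.gg_sq j).2.1 (B.ι_eq_one.mp e)
    have := B.closed_A hF W.zz_facts.2.2.1 (g := l) (hl ▸ B.mem_S _)
    rw [hl, B.mem_A_iff] at this
    have ho := (W.pp_facts j).2.2.2.1
    simp [W.outer, this] at ho
  -- the automorphisms induced from the normal subgroup
  set N := Subgroup.normalizer (B.A : Set G) with hN
  let φ : N →* MulAut B.A := B.A.normalizerMonoidHom
  have happ : ∀ (n : N) (a : B.A), ((φ n a : B.A) : G) = (n : G) * a * (n : G)⁻¹ := fun _ _ => rfl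
  set R := (L.subgroupOf N).map φ with hR
  have hRorder : ∀ r ∈ R, Odd (orderOf r) := by
    rintro _ ⟨n, hn, rfl⟩
    obtain ⟨v, hv, w, -, ⟨k, hk⟩, hwo, e⟩ := CfsgLib.U34Char.exists_parts n
    have hvL : (v : G) ∈ L := Subgroup.zpowers_le.mpr hn hv
    have hp : IsPGroup 2 ↥(Subgroup.zpowers (v : G) ⊔ B.A) := IsPGroup.to_sup_of_normal_right'
      (IsPGroup.of_card (n := k) (by rw [Nat.card_zpowers, Subgroup.orderOf_coe, hk])) B.isPGroup_A
      (Subgroup.zpowers_le.mpr v.2)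
    obtain ⟨q, hq⟩ := B.exists_conj_S hp
    have hqN : q ∈ Subgroup.normalizer (B.A : Set G) :=
      B.mem_normalizer_of_conj_mem fun a ha => hq a (Subgroup.mem_sup_right ha)
    obtain ⟨y, hy⟩ := B.exists_eq (hq _ (Subgroup.mem_sup_left (Subgroup.mem_zpowers (v : G))))
    have hyA : W.inA y := hSL y (hy ▸ hLn.conj_mem _ hvL q)
    have hvA : (v : G) ∈ B.A := (Subgroup.mem_normalizer_iff.mp hqN _).mpr (hy ▸ B.mem_A_iff.mpr hyA)
    have hv1 : φ v = 1 := MulEquiv.ext fun x => Subtype.ext (by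
      rw [happ]; show (v : G) * x * (v : G)⁻¹ = x
      rw [B.comm_A hvA x.2, mul_inv_cancel_right])
    rw [e, map_mul, hv1, one_mul]
    exact hwo.of_dvd_nat (orderOf_map_dvd φ w)
  -- transitivity
  have htrans : ∀ a : B.A, a ≠ 1 → ∃ r ∈ R, r ⟨B.z, B.z_mem_A⟩ = a := by
    intro a ha
    have ha' : (a : G) ≠ 1 := fun e => ha (Subtype.ext e)
    obtain ⟨l, hl, hle⟩ := hconj _ (hAL a.2) (B.sq_A a.2) ha'
    obtain ⟨n, hn, hnL, hne⟩ := B.control hAL hl B.z_mem_A (by rw [hle]; exact a.2)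
    exact ⟨φ ⟨n, hn⟩, ⟨⟨n, hn⟩, hnL, rfl⟩, Subtype.ext (hne.trans hle)⟩
  have h5R : 5 ∣ Nat.card R := by
    set zA : B.A := ⟨B.z, B.z_mem_A⟩ with hzA
    have horb : MulAction.orbit R zA = {a | a ≠ 1} := by
      ext a
      constructor
      · rintro ⟨r, rfl⟩ h
        exact B.z_ne (congrArg Subtype.val ((r : MulAut B.A).injective (h.trans (map_one _).symm) : zA = 1))
      · intro ha
        obtain ⟨r, hr, e⟩ := htrans a ha
        exact ⟨⟨r, hr⟩, e⟩
    have h15 : Nat.card (MulAction.orbit R zA) = 15 := by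
      rw [horb, Nat.card_coe_set_eq, show {a : B.A | a ≠ 1} = ({1} : Set B.A)ᶜ from rfl, Set.ncard_compl,
        Set.ncard_singleton, B.card_A]
    exact (Dvd.intro 3 rfl : 5 ∣ 15).trans (h15 ▸ Dvd.intro _ (by
      rw [← Nat.card_prod, Nat.card_congr (MulAction.orbitProdStabilizerEquivGroup R zA)]))
  -- the action of the Sylow subgroup
  let ψ : W →* MulAut R :=
    { toFun := fun w =>
        { toFun := fun r => ⟨φ ⟨B.ι w, B.S_le_N (B.mem_S w)⟩ * r * (φ ⟨B.ι w, B.S_le_N (B.mem_S w)⟩)⁻¹, by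
            obtain ⟨n, hn, e⟩ := r.2
            refine ⟨⟨B.ι w, B.S_le_N (B.mem_S w)⟩ * n * ⟨B.ι w, B.S_le_N (B.mem_S w)⟩⁻¹, hLn.conj_mem _ hn _, ?_⟩
            rw [map_mul, map_mul, map_inv, e]⟩
          invFun := fun r => ⟨(φ ⟨B.ι w, B.S_le_N (B.mem_S w)⟩)⁻¹ * r * φ ⟨B.ι w, B.S_le_N (B.mem_S w)⟩, by
            obtain ⟨n, hn, e⟩ := r.2
            refine ⟨⟨B.ι w, B.S_le_N (B.mem_S w)⟩⁻¹ * n * ⟨B.ι w, B.S_le_N (B.mem_S w)⟩, ?_, ?_⟩
            · have := hLn.conj_mem _ hn (B.ι w)⁻¹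
              simpa [Subgroup.mem_subgroupOf] using this
            · rw [map_mul, map_mul, map_inv, e]⟩
          left_inv := fun r => Subtype.ext (by simp [mul_assoc])
          right_inv := fun r => Subtype.ext (by simp [mul_assoc])
          map_mul' := fun r s => Subtype.ext (by simp [mul_assoc]) }
      map_one' := MulEquiv.ext fun r => Subtype.ext (by
        have : (⟨B.ι 1, B.S_le_N (B.mem_S 1)⟩ : N) = 1 := Subtype.ext (map_one B.ι)
        show φ _ * _ * (φ _)⁻¹ = _
        rw [this, map_one, one_mul, inv_one, mul_one]; rfl)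
      map_mul' := fun v w => MulEquiv.ext fun r => Subtype.ext (by
        have : (⟨B.ι (v * w), B.S_le_N (B.mem_S _)⟩ : N) =
            ⟨B.ι v, B.S_le_N (B.mem_S v)⟩ * ⟨B.ι w, B.S_le_N (B.mem_S w)⟩ := Subtype.ext (map_mul B.ι v w)
        show φ _ * _ * (φ _)⁻¹ = φ _ * (φ _ * _ * (φ _)⁻¹) * (φ _)⁻¹
        rw [this, map_mul]; group) }
  letI : MulAction W (Sylow 5 R) :=
    { smul := fun w P => (ψ w) • P
      one_smul := fun P => by show ψ 1 • P = P; rw [map_one, one_smul]
      mul_smul := fun v w P => by show ψ (v * w) • P = ψ v • ψ w • P; rw [map_mul, mul_smul] }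
  have hW2 : IsPGroup 2 W := IsPGroup.of_card (n := 6) W.card
  have hodd : ¬ 2 ∣ Nat.card (Sylow 5 R) := fun h2 => by
    have hRodd : Odd (Nat.card R) := Nat.not_even_iff_odd.mp fun he => by
      obtain ⟨⟨r, hr⟩, hr2⟩ := exists_prime_orderOf_dvd_card' (G := R) 2 (even_iff_two_dvd.mp he)
      rw [Subgroup.orderOf_mk] at hr2
      have := hRorder r hr
      rw [hr2] at this
      exact absurd this (by decide)
    obtain ⟨P⟩ : Nonempty (Sylow 5 R) := inferInstance
    exact Nat.not_even_iff_odd.mpr hRodd (even_iff_two_dvd.mpr (h2.trans (P.card_dvd_index.trans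
      (Subgroup.index_dvd_card _))))
  obtain ⟨P, hP⟩ := hW2.nonempty_fixed_point_of_prime_not_dvd_card (Sylow 5 R) hodd
  have hP' : ∀ (w : W) (r : R), r ∈ (P : Subgroup R) → ψ w r ∈ (P : Subgroup R) := fun w r hr => by
    have h : ψ w • (P : Subgroup R) = (P : Subgroup R) := congrArg Sylow.toSubgroup (hP w : ψ w • P = P)
    rw [← h]
    exact Subgroup.smul_mem_pointwise_smul r (ψ w) _ hr
  -- the four operations
  let E : Subgroup (MulAut B.A) := (((B.S : Subgroup G).subgroupOf N)).map φ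
  let PA : Subgroup (MulAut B.A) := (P : Subgroup R).map R.subtype
  have hEform : ∀ e ∈ E, e = 1 ∨ ∃ j : Fin 3, e = φ ⟨B.ι (W.gg j), B.S_le_N (B.mem_S _)⟩ := by
    rintro _ ⟨n, hn, rfl⟩
    obtain ⟨w, hw⟩ := B.exists_eq (show (n : G) ∈ (B.S : Subgroup G) from hn)
    have hA1 : ∀ a : W, W.inA a → φ ⟨B.ι a, B.S_le_N (B.mem_S a)⟩ = 1 := fun a ha =>
      MulEquiv.ext fun x => Subtype.ext (by
        rw [happ]; show B.ι a * x * (B.ι a)⁻¹ = x
        rw [B.comm_A (B.mem_A_iff.mpr ha) x.2, mul_inv_cancel_right])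
    rw [show n = ⟨B.ι w, B.S_le_N (B.mem_S w)⟩ from Subtype.ext hw.symm]
    by_cases hwA : W.inA w
    · exact .inl (hA1 w hwA)
    · obtain ⟨j, a, ha, hj⟩ := W.op_class w (Bool.eq_false_iff.mpr hwA)
      refine .inr ⟨j, ?_⟩
      rw [show (⟨B.ι (W.gg j), B.S_le_N (B.mem_S _)⟩ : N) = ⟨B.ι w, B.S_le_N (B.mem_S w)⟩ *
        ⟨B.ι a, B.S_le_N (B.mem_S a)⟩ from Subtype.ext (show B.ι (W.gg j) = B.ι w * B.ι a by rw [← hj, map_mul]),
        map_mul, hA1 a ha, mul_one]
  have hgne : ∀ j : Fin 3, φ ⟨B.ι (W.gg j), B.S_le_N (B.mem_S _)⟩ ≠ 1 := fun j e => by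
    have hfix : ∀ a : W, W.inA a → W.gg j * a = a * W.gg j := fun a ha => B.inj (by
      have := congrArg Subtype.val (congrArg (fun q : MulAut B.A => q ⟨B.ι a, B.mem_A_iff.mpr ha⟩) e)
      rw [happ] at this
      rw [map_mul, map_mul]
      exact mul_inv_eq_iff_eq_mul.mp this)
    have key : ∀ j : Fin 3, ¬ ∀ a : W, W.inA a → W.gg j * a = a * W.gg j := by decide +kernel
    exact key j hfix
  have hE4 : 4 ≤ Nat.card E := by
    refine le_of_eq_of_le ?_ (Nat.card_le_card_of_injective (fun i : Fin 4 =>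
      (⟨![1, φ ⟨B.ι (W.gg 0), B.S_le_N (B.mem_S _)⟩, φ ⟨B.ι (W.gg 1), B.S_le_N (B.mem_S _)⟩,
        φ ⟨B.ι (W.gg 2), B.S_le_N (B.mem_S _)⟩] i, by
        fin_cases i
        · exact one_mem _
        all_goals exact ⟨_, B.mem_S _, rfl⟩⟩ : E)) ?_)
    · rw [Nat.card_eq_fintype_card, Fintype.card_fin]
    · have hd : ∀ i k : Fin 3, φ ⟨B.ι (W.gg i), B.S_le_N (B.mem_S _)⟩ = φ ⟨B.ι (W.gg k), B.S_le_N (B.mem_S _)⟩ →
          i = k := fun i k e => by
        by_contra hne
        obtain ⟨j, a, ha, hj⟩ := W.op_class (W.gg i * W.gg k)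
          (Bool.eq_false_iff.mpr fun h => hne (W.gg_index i k h))
        refine hgne j ?_
        rw [show (⟨B.ι (W.gg j), B.S_le_N (B.mem_S _)⟩ : N) = ⟨B.ι (W.gg i), B.S_le_N (B.mem_S _)⟩ *
          ⟨B.ι (W.gg k), B.S_le_N (B.mem_S _)⟩ * ⟨B.ι a, B.S_le_N (B.mem_S a)⟩ from Subtype.ext (show B.ι (W.gg j) =
            B.ι (W.gg i) * B.ι (W.gg k) * B.ι a by rw [← hj, map_mul, map_mul]), map_mul, map_mul, e, ← map_mul,
            ← map_mul]
        refine MulEquiv.ext fun x => Subtype.ext ?_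
        rw [happ]
        have h2 : B.ι (W.gg k) * B.ι (W.gg k) = 1 := by rw [← map_mul, (W.gg_sq k).1, map_one]
        show B.ι (W.gg k) * B.ι (W.gg k) * B.ι a * x * (B.ι (W.gg k) * B.ι (W.gg k) * B.ι a)⁻¹ = x
        rw [h2, one_mul, B.comm_A (B.mem_A_iff.mpr ha) x.2, mul_inv_cancel_right]
      intro i k e
      have e' := congrArg (fun q : E => (q : MulAut B.A)) e
      fin_cases i <;> fin_cases k <;> simp at e' ⊢ <;>
        first
        | exact hgne _ e' | exact hgne _ e'.symm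
        | exact absurd (hd _ _ e') (by decide)
  have hEnc : IsMulCommutative E := ⟨⟨fun a b => Subtype.ext (by
    have hsq : ∀ e ∈ E, e * e = 1 := fun e he => by
      rcases hEform e he with rfl | ⟨j, rfl⟩
      · exact one_mul 1
      · have h : (⟨B.ι (W.gg j), B.S_le_N (B.mem_S _)⟩ : N) * ⟨B.ι (W.gg j), B.S_le_N (B.mem_S _)⟩ = 1 :=
          Subtype.ext (show B.ι (W.gg j) * B.ι (W.gg j) = 1 by rw [← map_mul, (W.gg_sq j).1, map_one])
        rw [← map_mul, h, map_one]
    have ha := hsq _ a.2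
    have hb := hsq _ b.2
    have hab := hsq _ (mul_mem a.2 b.2)
    show (a : MulAut B.A) * b = b * a
    rw [← inv_eq_of_mul_eq_one_right hab, mul_inv_rev, inv_eq_of_mul_eq_one_right ha,
      inv_eq_of_mul_eq_one_right hb])⟩⟩
  have hEcyc : ¬ IsCyclic E := fun h => by
    obtain ⟨g, hg⟩ := h.exists_generator
    have hsq : g ^ 2 = 1 := Subtype.ext (by
      rcases hEform _ g.2 with e | ⟨j, e⟩
      · rw [Subgroup.coe_pow, e, one_pow]; rfl
      · have h : (⟨B.ι (W.gg j), B.S_le_N (B.mem_S _)⟩ : N) ^ 2 = 1 :=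
          Subtype.ext (show B.ι (W.gg j) ^ 2 = 1 by rw [pow_two, ← map_mul, (W.gg_sq j).1, map_one])
        rw [Subgroup.coe_pow, e, ← map_pow, h, map_one]; rfl)
    have h2 := Nat.le_of_dvd (by norm_num) (orderOf_dvd_of_pow_eq_one hsq)
    rw [orderOf_eq_card_of_forall_mem_zpowers hg] at h2
    omega
  obtain ⟨k5, hk5⟩ := (P.isPGroup'.map R.subtype).exists_card_eq
  have hcop : (Nat.card E).Coprime (Nat.card PA) := by
    obtain ⟨m, hm⟩ := (((B.S.isPGroup').comap_of_injective N.subtype N.subtype_injective).map φ).exists_card_eq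
    rw [show Nat.card E = 2 ^ m from hm, show Nat.card PA = 5 ^ k5 from hk5]
    exact (by norm_num : Nat.Coprime 2 5).pow _ _
  have hEn : E ≤ Subgroup.normalizer (PA : Set (MulAut B.A)) := by
    rintro _ ⟨n, hn, rfl⟩
    obtain ⟨w, hw⟩ := B.exists_eq (show (n : G) ∈ (B.S : Subgroup G) from hn)
    rw [show n = ⟨B.ι w, B.S_le_N (B.mem_S w)⟩ from Subtype.ext hw.symm]
    refine CfsgLib.L34Sylow.mem_normalizer_of_forall ?_
    rintro _ ⟨r, hr, rfl⟩
    exact ⟨ψ w r, hP' w r hr, rfl⟩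
  have hgen := coprime_generated_by_centralizers hEcyc hEn hcop
  have hbot : PA ≤ ⊥ := by
    rw [← hgen]
    refine iSup₂_le fun e he x hx => ?_
    obtain ⟨hxP, hxC⟩ := Subgroup.mem_inf.mp hx
    rcases hEform e he.1 with h1 | ⟨j, rfl⟩
    · exact absurd h1 he.2
    rw [Subgroup.mem_bot]
    obtain ⟨i, hi⟩ := P.isPGroup'.map R.subtype ⟨x, hxP⟩
    have hx5 : x ^ 5 ^ i = 1 := congrArg Subtype.val hi
    -- the four-group fixed by the operation is invariant
    set g := φ ⟨B.ι (W.gg j), B.S_le_N (B.mem_S _)⟩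
    have hcomm : x * g = g * x := Subgroup.mem_centralizer_singleton_iff.mp hxC
    have himg : ∀ a : W, W.inV j a → ∀ (ha : W.inA a), ∃ v : W, W.inV j v ∧ W.inA v ∧
        ((x ⟨B.ι a, B.mem_A_iff.mpr ha⟩ : B.A) : G) = B.ι v := by
      intro a haV ha
      obtain ⟨v, hv, hve⟩ := B.mem_A.mp (x ⟨B.ι a, B.mem_A_iff.mpr ha⟩).2
      refine ⟨v, W.cent_gg j v hv ?_, hv, hve.symm⟩
      have h1 : g ⟨B.ι a, B.mem_A_iff.mpr ha⟩ = ⟨B.ι a, B.mem_A_iff.mpr ha⟩ := Subtype.ext (by
        rw [happ]; show B.ι (W.gg j) * B.ι a * (B.ι (W.gg j))⁻¹ = B.ι a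
        rw [← map_mul, W.inV_inA_comm j a haV ha, map_mul, mul_inv_cancel_right])
      have h2 : g (x ⟨B.ι a, B.mem_A_iff.mpr ha⟩) = x ⟨B.ι a, B.mem_A_iff.mpr ha⟩ := by
        have := congrArg (fun q : MulAut B.A => q ⟨B.ι a, B.mem_A_iff.mpr ha⟩) hcomm
        simp only [MulAut.mul_apply, h1] at this
        exact this.symm
      have h3 := congrArg Subtype.val h2
      rw [happ, ← hve] at h3
      exact B.inj (by rw [map_mul, map_mul]; exact mul_inv_eq_iff_eq_mul.mp h3)
    -- an orbit of five-power length on three points is a fixed point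
    haveI : Fintype {w : W // W.inV j w ∧ W.inA w ∧ w ≠ 1} := Fintype.ofFinite _
    choose f hfV hfA hfe using fun w : {w : W // W.inV j w ∧ W.inA w ∧ w ≠ 1} => himg w.1 w.2.1 w.2.2.1
    have hfne : ∀ w, f w ≠ 1 := fun w e => w.2.2.2 (by
      have h := hfe w
      rw [e, map_one] at h
      have h1 : x ⟨B.ι w.1, B.mem_A_iff.mpr w.2.2.1⟩ = x 1 := (Subtype.ext h).trans (map_one x).symm
      exact B.ι_eq_one.mp (congrArg Subtype.val (x.injective h1)))
    let σ : Equiv.Perm {w : W // W.inV j w ∧ W.inA w ∧ w ≠ 1} :=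
      Equiv.ofBijective (fun w => ⟨f w, hfV w, hfA w, hfne w⟩) (Finite.injective_iff_bijective.mp fun v w e => by
        have e1 : f v = f w := congrArg Subtype.val e
        have h1 := hfe v
        rw [e1, ← hfe w] at h1
        exact Subtype.ext (B.inj (congrArg Subtype.val (x.injective (Subtype.ext h1)))))
    have hpow : ∀ (n : ℕ) (w), ((x ^ n) ⟨B.ι w.1, B.mem_A_iff.mpr w.2.2.1⟩ : G) = B.ι ((σ ^ n) w).1 := by
      intro n
      induction n with
      | zero => intro w; rfl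
      | succ n ih =>
        intro w
        rw [pow_succ', pow_succ', MulAut.mul_apply, Equiv.Perm.mul_apply]
        rw [show (x ^ n) ⟨B.ι w.1, B.mem_A_iff.mpr w.2.2.1⟩ =
          ⟨B.ι ((σ ^ n) w).1, B.mem_A_iff.mpr ((σ ^ n) w).2.2.1⟩ from Subtype.ext (ih w)]
        exact hfe _
    have hσ : σ = 1 := by
      have h5 : σ ^ 5 ^ i = 1 := Equiv.ext fun w => Subtype.ext (B.inj (by
        rw [← hpow, hx5]; rfl))
      have h3 : Fintype.card {w : W // W.inV j w ∧ W.inA w ∧ w ≠ 1} = 3 := by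
        have key : ∀ j : Fin 3, (Finset.univ.filter fun w : W => W.inV j w ∧ W.inA w ∧ w ≠ 1).card = 3 := by
          decide +kernel
        rw [Fintype.card_subtype]; exact key j
      refine orderOf_eq_one_iff.mp (Nat.eq_one_of_dvd_coprimes (a := 5 ^ i) (b := 6) ?_
        (orderOf_dvd_of_pow_eq_one h5) ?_)
      · exact Nat.Coprime.pow_left i (by norm_num)
      · have := orderOf_dvd_natCard σ
        rwa [Nat.card_perm, Nat.card_eq_fintype_card, h3, show Nat.factorial 3 = 6 from rfl] at this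
    have hppA : W.inA (W.pp j) := W.P_inA _ (W.pp_facts j).1
    refine B.fix_all_of_five hx5 (a := ⟨B.ι (W.pp j), B.mem_A_iff.mpr hppA⟩)
      (fun e => (W.pp_facts j).2.1 (B.ι_eq_one.mp (congrArg Subtype.val e))) (Subtype.ext ?_)
    have h1 := hpow 1 ⟨W.pp j, (W.gg_pp_conj j).2.2, hppA, (W.pp_facts j).2.1⟩
    rw [pow_one, pow_one, hσ] at h1
    exact h1
  obtain ⟨r, hr⟩ := exists_prime_orderOf_dvd_card' (G := R) 5 h5R
  have hP1 : (P : Subgroup R) ≠ ⊥ := fun e => by
    have h1 := P.card_eq_multiplicity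
    rw [e, Subgroup.card_bot] at h1
    have h2 : 1 ≤ (Nat.card R).factorization 5 :=
      (Nat.Prime.dvd_iff_one_le_factorization h5.out Nat.card_pos.ne').mp h5R
    have h3 : 5 ≤ 5 ^ (Nat.card R).factorization 5 := Nat.le_self_pow (by omega) 5
    omega
  exact hP1 ((Subgroup.map_eq_bot_iff_of_injective _ R.subtype_injective).mp (le_bot_iff.mp hbot))

end Base

end CfsgLib.A8Sylow
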