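import Cfsg.Agent.Lib.A8Sylow.Shift
import Cfsg.Agent.Lib.A8Sylow.Unfused
import Cfsg.Agent.Lib.M12Sylow.Model
import Cfsg.Agent.Lib.SymplecticTypeP
import Cfsg.Agent.S3344

/-!
No element moves the columns: the alternating groups.

Blueprint: `blueprint/S2918.md`, step 5.
-/

set_option autoImplicit false
set_option maxRecDepth 100000
set_option linter.style.haveILetI false
set_option linter.unusedSectionVars false

open Cfsg
open scoped commutatorElement

namespace CfsgLib.A8Sylow

universe u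

namespace W

theorem R_sq : ∀ x : W, inR x → x * x = 1 ∨ x * x = zz := by decide +kernel

theorem R_comm : ∀ x y : W, inR x → inR y →
    x * y * x⁻¹ * y⁻¹ = 1 ∨ x * y * x⁻¹ * y⁻¹ = zz := by decide +kernel

theorem R_center : ∀ x : W, inR x → (∀ y, inR y → x * y = y * x) → x = 1 ∨ x = zz := by decide +kernel

theorem R_noncomm : inR g1 ∧ inR p2 ∧ g1 * p2 ≠ p2 * g1 := by decide +kernel

theorem A_mm : ∀ x : W, inA x → inR x ∨ inR (x * mm⁻¹) := by decide +kernel

theorem om_card : ∀ d : Bool, (Finset.univ.filter fun x => om d x = true).card = 5 := by decide +kernel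

theorem gg_moves : ∀ (j : Fin 3) (d : Bool), ∃ x : W, om d x ∧ gg j * x ≠ x * gg j := by decide +kernel

theorem gg_three : gg 2 = gg 0 * gg 1 := by decide +kernel

theorem cent_inA : ∀ w : W, (∀ a, inA a → w * a = a * w) → inA w := by decide +kernel

/-- An involution with elementary abelian centraliser of order sixteen. -/
theorem mm_cent : mm * mm = 1 ∧ (∀ y : W, y * mm = mm * y → y * y = 1) ∧
    (Finset.univ.filter fun y => decide (y * mm = mm * y) = true).card = 16 := by decide +kernel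

/-- The Sylow subgroup of `M₁₂` has no such involution. -/
theorem m12_cent : ∀ x : CfsgLib.G2Sylow.W 4, x * x = 1 → (∀ y, y * x = x * y → y * y = 1) →
    (Finset.univ.filter fun y => decide (y * x = x * y) = true).card ≠ 16 := by decide +kernel

end W

namespace Base

variable {G : Type u} [Group G] [Finite G] (B : Base G)

/-- No element of the centraliser moves a column. -/
def Alt (hF : B.Fused) : Prop :=
  ∀ (x : ↥(Subgroup.centralizer ({B.z} : Set G))) (j : Fin 3), (B.locC hF).σ x (W.col j) = W.col j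

theorem exists_rowHom (hF : B.Fused) (h : B.Alt hF) :
    ∃ ρ : ↥(Subgroup.centralizer ({B.z} : Set G)) →* Equiv.Perm (Fin 3),
      Function.Surjective ρ ∧ ρ.ker = pCore 2 ↥(Subgroup.centralizer ({B.z} : Set G)) := by
  set L := B.locC hF with hL
  choose f hf using fun x => L.exists_row_map x
  have hfe : ∀ (x : ↥(Subgroup.centralizer ({B.z} : Set G))) (r k : Fin 3),
      L.σ x (W.row r) = W.row k → f x r = k := fun x r k e => (W.col_row 0 _).2.2.2 k ((hf x r).symm.trans e)
  have h1 : ∀ r, f 1 r = r := fun r => hfe 1 r r (by rw [map_one, Equiv.Perm.one_apply])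
  have hm : ∀ x y r, f (x * y) r = f x (f y r) := fun x y r =>
    hfe _ r _ (by rw [map_mul, Equiv.Perm.mul_apply, hf, hf])
  let ρ : ↥(Subgroup.centralizer ({B.z} : Set G)) →* Equiv.Perm (Fin 3) :=
    { toFun := fun x => ⟨f x, f x⁻¹, fun r => by rw [← hm, inv_mul_cancel, h1],
        fun r => by rw [← hm, mul_inv_cancel, h1]⟩
      map_one' := Equiv.ext h1
      map_mul' := fun x y => Equiv.ext (hm x y) }
  have hρ : ∀ x r, L.σ x (W.row r) = W.row (ρ x r) := hf
  have hker : ρ.ker = pCore 2 ↥(Subgroup.centralizer ({B.z} : Set G)) := by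
    rw [← L.ker_σ]
    ext x
    rw [MonoidHom.mem_ker, MonoidHom.mem_ker]
    constructor
    · intro e
      refine Equiv.ext fun i => ?_
      rcases W.line_index i with ⟨j, rfl⟩ | ⟨r, rfl⟩
      · rw [h x j, Equiv.Perm.one_apply]
      · rw [hρ, e, Equiv.Perm.one_apply, Equiv.Perm.one_apply]
    · intro e
      refine Equiv.ext fun r => hfe x r r ?_
      rw [e, Equiv.Perm.one_apply]
  refine ⟨ρ, ?_, hker⟩
  obtain ⟨x0, hx3, -, -, hrow⟩ := L.exists_three
  have h2 : orderOf (ρ (L.ι W.mm)) = 2 := by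
    refine orderOf_eq_prime ?_ fun e => ?_
    · rw [← map_pow, ← map_pow, pow_two, W.mm_cent.1, map_one, map_one]
    · have := hρ (L.ι W.mm) 1
      rw [e, Equiv.Perm.one_apply, L.σ_mm] at this
      revert this; decide
  have h3 : orderOf (ρ x0) = 3 := by
    haveI : Fact (Nat.Prime 3) := ⟨Nat.prime_three⟩
    refine orderOf_eq_prime (by rw [← map_pow, hx3, map_one]) fun e => hrow 0 ?_
    rw [hρ, e, Equiv.Perm.one_apply]
  refine MonoidHom.range_eq_top.mp (Subgroup.eq_top_of_card_eq _ ?_)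
  have hd := Subgroup.card_subgroup_dvd_card ρ.range
  have d2 : 2 ∣ Nat.card ρ.range := (dvd_of_eq h2.symm).trans (Subgroup.orderOf_dvd_natCard ρ.range ⟨_, rfl⟩)
  have d3 : 3 ∣ Nat.card ρ.range := (dvd_of_eq h3.symm).trans (Subgroup.orderOf_dvd_natCard ρ.range ⟨_, rfl⟩)
  have h6 : Nat.card (Equiv.Perm (Fin 3)) = 6 := by
    rw [Nat.card_eq_fintype_card, Fintype.card_perm, Fintype.card_fin]; rfl
  rw [h6] at hd ⊢
  exact Nat.dvd_antisymm hd (Nat.Coprime.mul_dvd_of_dvd_of_dvd (by norm_num : Nat.Coprime 2 3) d2 d3)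

theorem card_pCore (hF : B.Fused) : Nat.card (pCore 2 ↥(Subgroup.centralizer ({B.z} : Set G))) = 32 := by
  rw [(B.locC hF).pCore_eq, Subgroup.card_map_of_injective (B.locC hF).inj, W.card_Rsub]

theorem card_C_alt (hF : B.Fused) (h : B.Alt hF) : Nat.card ↥(Subgroup.centralizer ({B.z} : Set G)) = 192 := by
  obtain ⟨ρ, hs, hk⟩ := B.exists_rowHom hF h
  have h1 := Subgroup.card_eq_card_quotient_mul_card_subgroup ρ.ker
  rw [Nat.card_congr (QuotientGroup.quotientKerEquivOfSurjective ρ hs).toEquiv, hk, B.card_pCore hF,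
    Nat.card_eq_fintype_card (α := Equiv.Perm (Fin 3)), Fintype.card_perm, Fintype.card_fin] at h1
  rw [h1]; rfl

theorem card_S : Nat.card (B.S : Subgroup G) = 64 := by
  rw [← B.range_eq, ← Nat.card_congr (MonoidHom.ofInjective B.inj).toEquiv, W.card]

/-- The central involution is not weakly closed. -/
theorem exists_pp_zc (hF : B.Fused) (h : B.Alt hF) : ∃ j : Fin 3, B.ZC (B.ι (W.pp j)) := by
  classical
  haveI h5 : Fact (Nat.Prime 5) := ⟨by norm_num⟩
  by_contra hnone
  push Not at hnone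
  obtain ⟨d, hd⟩ := B.zc_om hnone fun _ hw => B.out_none hF hnone hw
  set C := Subgroup.centralizer ({B.z} : Set G) with hC
  set N := Subgroup.normalizer (B.A : Set G) with hN
  -- the normaliser meets the centraliser in the Sylow subgroup
  have hCN : C ⊓ N = (B.S : Subgroup G) := by
    obtain ⟨x0, -, -, -, hrow⟩ := (B.locC hF).exists_three
    have hx0 : (x0 : G) ∉ N := fun hx => by
      obtain ⟨a, ha, hae⟩ := B.mem_A.mp ((Subgroup.mem_normalizer_iff.mp hx _).mp
        (B.mem_A_iff.mpr (show W.inA W.mm by decide)))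
      have e : (B.locC hF).ι a = x0 * (B.locC hF).ι W.mm * x0⁻¹ := Subtype.ext hae
      have hσ : (B.locC hF).σ ((B.locC hF).ι a) = Equiv.swap ((B.locC hF).σ x0 4) ((B.locC hF).σ x0 5) := by
        rw [e, map_mul, map_mul, map_inv, (B.locC hF).σ_mm, Equiv.swap_apply_apply]
      have hR : ∀ v : W, W.inR v → (B.locC hF).σ ((B.locC hF).ι v) = 1 := fun v hv =>
        (B.locC hF).σ_R ((B.locC hF).mem_range_pCore.mpr ⟨v, hv, rfl⟩)
      have key : ∀ p q : Fin 6, (Equiv.swap p q = 1 → p = q) ∧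
          (Equiv.swap p q = Equiv.swap (4 : Fin 6) 5 → p = 4 ∧ q = 5 ∨ p = 5 ∧ q = 4) := by
        decide +kernel
      rcases W.A_mm a ha with hv | hv
      · rw [hR a hv] at hσ
        exact absurd ((B.locC hF).σ x0 |>.injective ((key _ _).1 hσ.symm)) (by decide)
      · rw [show a = a * W.mm⁻¹ * W.mm by group, map_mul, map_mul, hR _ hv, one_mul, (B.locC hF).σ_mm] at hσ
        have hne : ∀ r : Fin 3, (B.locC hF).σ x0 (W.row r) ≠ W.row r := hrow
        rcases (key _ _).2 hσ.symm with ⟨e1, -⟩ | ⟨e1, e2⟩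
        · exact hne 1 (by exact e1)
        · refine hne 0 ?_
          obtain ⟨g, hg⟩ := (B.locC hF).exists_row_map x0
          have key2 : ∀ g : Fin 3 → Fin 3, (∀ i k, g i = g k → i = k) → g 1 = 2 → g 2 = 1 → g 0 = 0 := by
            decide +kernel
          have r1 : W.row (g 1) = W.row 2 := (hg 1).symm.trans e1
          have r2 : W.row (g 2) = W.row 1 := (hg 2).symm.trans e2
          rw [hg 0, key2 g (fun i k e => (W.col_row 0 i).2.2.2 k ((B.locC hF).σ x0 |>.injective (by rw [hg, hg, e])))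
            ((W.col_row 0 _).2.2.2 _ r1) ((W.col_row 0 _).2.2.2 _ r2)]
    have hle : (B.S : Subgroup G) ≤ C ⊓ N := le_inf B.S_le_cent B.S_le_N
    refine (Subgroup.eq_of_le_of_card_ge hle ?_).symm
    have d1 := Subgroup.card_dvd_of_le hle
    have d2 := Subgroup.card_dvd_of_le (inf_le_left : C ⊓ N ≤ C)
    rw [B.card_S] at d1 ⊢
    rw [hC, B.card_C_alt hF h, ← hC] at d2
    obtain ⟨m, hm⟩ := d1
    rw [hm, show 192 = 64 * 3 by norm_num] at d2
    have hm3 : m ∣ 3 := (Nat.mul_dvd_mul_iff_left (by norm_num)).mp d2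
    rcases (Nat.dvd_prime Nat.prime_three).mp hm3 with rfl | rfl
    · omega
    · exfalso
      have htop : C ⊓ N = C := Subgroup.eq_of_le_of_card_ge inf_le_left (by rw [hm, hC, B.card_C_alt hF h])
      exact hx0 ((inf_eq_left.mp htop) x0.2)
  -- the five points
  let five : Finset W := Finset.univ.filter fun x => W.om d x = true
  have hfive : ∀ a : G, (∃ n ∈ N, n * B.z * n⁻¹ = a) ↔ a ∈ five.image B.ι := by
    intro a
    constructor
    · rintro ⟨n, hn, rfl⟩
      obtain ⟨w, hw, hwe⟩ := B.mem_A.mp ((Subgroup.mem_normalizer_iff.mp hn _).mp B.z_mem_A)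
      exact Finset.mem_image.mpr ⟨w, Finset.mem_filter.mpr ⟨Finset.mem_univ _, (hd w hw).mp ⟨n, hwe.symm⟩⟩, hwe⟩
    · intro ha
      obtain ⟨w, hw, rfl⟩ := Finset.mem_image.mp ha
      have hw' := (Finset.mem_filter.mp hw).2
      have hwA := (W.om_facts d w hw').1
      obtain ⟨g, hg⟩ := (hd w hwA).mpr hw'
      obtain ⟨n, hn, -, hne⟩ := B.control (H := ⊤) le_top (g := g) (Subgroup.mem_top _) B.z_mem_A
        (by rw [hg]; exact B.mem_A_iff.mpr hwA)
      exact ⟨n, hn, hne.trans hg⟩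
  have hc5 : (five.image B.ι).card = 5 := by rw [Finset.card_image_of_injective _ B.inj, W.om_card]
  have hNcard : Nat.card N = 320 := by
    letI : MulAction N G := MulAction.compHom G (MulAut.conj.comp N.subtype)
    have hs : ∀ (n : N) (a : G), n • a = (n : G) * a * (n : G)⁻¹ := fun _ _ => rfl
    have horb : MulAction.orbit N B.z = ↑(five.image B.ι) := by
      ext a
      rw [Finset.mem_coe, ← hfive]
      constructor
      · rintro ⟨n, rfl⟩; exact ⟨n, n.2, rfl⟩
      · rintro ⟨n, hn, rfl⟩; exact ⟨⟨n, hn⟩, rfl⟩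
    have hstab : MulAction.stabilizer N B.z = (C ⊓ N).subgroupOf N := by
      ext n
      rw [MulAction.mem_stabilizer_iff, hs, Subgroup.mem_subgroupOf, Subgroup.mem_inf, hC, B.mem_C,
        mul_inv_eq_iff_eq_mul]
      exact ⟨fun e => ⟨e, n.2⟩, fun e => e.1⟩
    have h1 := Nat.card_congr (MulAction.orbitProdStabilizerEquivGroup N B.z)
    rw [Nat.card_prod, horb, hstab, Nat.card_coe_set_eq, Set.ncard_coe_finset, hc5,
      Nat.card_congr (Subgroup.subgroupOfEquivOfLe (inf_le_right : C ⊓ N ≤ N)).toEquiv, hCN, B.card_S] at h1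
    exact h1.symm
  let φ : N →* MulAut B.A := B.A.normalizerMonoidHom
  have happ : ∀ (n : N) (a : B.A), ((φ n a : B.A) : G) = (n : G) * a * (n : G)⁻¹ := fun _ _ => rfl
  have hker : φ.ker = B.A.subgroupOf N := by
    ext n
    rw [MonoidHom.mem_ker, Subgroup.mem_subgroupOf]
    constructor
    · intro e
      have hc : ∀ a ∈ B.A, (n : G) * a = a * n := fun a ha => by
        have := congrArg Subtype.val (congrArg (fun q : MulAut B.A => q ⟨a, ha⟩) e)
        rw [happ] at this
        exact mul_inv_eq_iff_eq_mul.mp this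
      have hS : (n : G) ∈ (B.S : Subgroup G) := hCN ▸ ⟨B.mem_C.mpr (hc _ B.z_mem_A), n.2⟩
      obtain ⟨w, hw⟩ := B.exists_eq hS
      rw [← hw, B.mem_A_iff]
      exact W.cent_inA w fun a ha => B.inj (by rw [map_mul, map_mul, hw]; exact hc _ (B.mem_A_iff.mpr ha))
    · intro hn
      refine MulEquiv.ext fun a => Subtype.ext ?_
      rw [happ]
      show (n : G) * a * (n : G)⁻¹ = a
      rw [B.comm_A hn a.2, mul_inv_cancel_right]
  have hΓ : Nat.card φ.range = 20 := by
    have h1 := Subgroup.card_eq_card_quotient_mul_card_subgroup φ.ker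
    rw [Nat.card_congr (QuotientGroup.quotientKerEquivRange φ).toEquiv, hker,
      Nat.card_congr (Subgroup.subgroupOfEquivOfLe (show B.A ≤ N from Subgroup.le_normalizer)).toEquiv, B.card_A,
      hNcard] at h1
    omega
  obtain ⟨n5, hn5⟩ := exists_prime_orderOf_dvd_card' (G := N) 5 (by rw [hNcard]; norm_num)
  have hz5 : (n5 : G) * B.z * (n5 : G)⁻¹ ≠ B.z := fun e => by
    have hmem : (n5 : G) ∈ (B.S : Subgroup G) := hCN ▸ ⟨B.mem_C.mpr (mul_inv_eq_iff_eq_mul.mp e), n5.2⟩
    have := Subgroup.orderOf_dvd_natCard _ hmem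
    rw [B.card_S, Subgroup.orderOf_coe, hn5] at this
    norm_num at this
  set r : φ.range := ⟨φ n5, n5, rfl⟩
  have hr5 : orderOf r = 5 := by
    refine orderOf_eq_prime (Subtype.ext ?_) fun e => hz5 ?_
    · show φ n5 ^ 5 = 1
      rw [← map_pow, ← hn5, pow_orderOf_eq_one, map_one]
    · have := congrArg Subtype.val (congrArg (fun q : φ.range => (q : MulAut B.A) ⟨B.z, B.z_mem_A⟩) e)
      simpa [r, happ] using this
  -- the normal subgroup of order five
  have hRn : (Subgroup.zpowers r).Normal := by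
    have hcz : Nat.card (Subgroup.zpowers r) = 5 ^ (Nat.card φ.range).factorization 5 := by
      rw [Nat.card_zpowers, hr5, hΓ, show (20 : ℕ) = 5 ^ 1 * 4 by norm_num, Nat.factorization_mul (by norm_num)
        (by norm_num), Finsupp.add_apply, Nat.Prime.factorization_pow h5.out, Finsupp.single_eq_same,
        Nat.factorization_eq_zero_of_not_dvd (by norm_num : ¬ 5 ∣ 4)]
      norm_num
    set P := Sylow.ofCard (Subgroup.zpowers r) hcz with hP
    haveI : Subsingleton (Sylow 5 φ.range) := by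
      refine (Nat.card_eq_one_iff_unique.mp ?_).1
      have h1 := card_sylow_modEq_one 5 φ.range
      have hsub : (P : Subgroup φ.range) = Subgroup.zpowers r := rfl
      have h2 : Nat.card (Sylow 5 φ.range) ∣ 4 := by
        have := P.card_dvd_index
        have hi := (P : Subgroup φ.range).card_mul_index
        rw [hsub] at this hi
        rw [Nat.card_zpowers, hr5, hΓ] at hi
        rwa [show (Subgroup.zpowers r).index = 4 by omega] at this
      have hle := Nat.le_of_dvd (by norm_num) h2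
      revert h1 h2 hle
      generalize Nat.card (Sylow 5 φ.range) = m
      intro h1 h2 hle
      unfold Nat.ModEq at h1
      interval_cases m <;> omega
    exact show (P : Subgroup φ.range).Normal from P.normal_of_subsingleton
  let g : Fin 3 → φ.range := fun j => ⟨φ ⟨B.ι (W.gg j), B.S_le_N (B.mem_S _)⟩, _, rfl⟩
  have hg2 : ∀ j, g j * g j = 1 := fun j => Subtype.ext (by
    show φ _ * φ _ = 1
    rw [← map_mul, show (⟨B.ι (W.gg j), B.S_le_N (B.mem_S _)⟩ : N) * ⟨B.ι (W.gg j), B.S_le_N (B.mem_S _)⟩ = 1 from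
      Subtype.ext (show B.ι (W.gg j) * B.ι (W.gg j) = 1 by rw [← map_mul, (W.gg_sq j).1, map_one]), map_one])
  have hpm : ∀ j, g j * r * (g j)⁻¹ = r ∨ g j * r * (g j)⁻¹ = r⁻¹ := by
    intro j
    obtain ⟨k, hk⟩ := Subgroup.mem_zpowers_iff.mp (hRn.conj_mem r (Subgroup.mem_zpowers r) (g j))
    have h2 : r ^ (k * k) = r := by
      rw [zpow_mul, hk, conj_zpow, hk, show g j * (g j * r * (g j)⁻¹) * (g j)⁻¹ = g j * g j * r * (g j * g j)⁻¹ by
        group, hg2, one_mul, inv_one, mul_one]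
    have h5k : (5 : ℤ) ∣ (k - 1) * (k + 1) := by
      have := (orderOf_dvd_sub_iff_zpow_eq_zpow (x := r) (a := k * k) (b := 1)).mpr (by rw [zpow_one, h2])
      rw [hr5] at this
      have e : (k - 1) * (k + 1) = k * k - 1 := by ring
      rw [e]
      exact_mod_cast this
    rcases (Nat.prime_iff_prime_int.mp h5.out).dvd_mul.mp h5k with hh | hh
    · refine .inl (hk ▸ ?_)
      have := (orderOf_dvd_sub_iff_zpow_eq_zpow (x := r) (a := k) (b := 1)).mp (by rw [hr5]; exact_mod_cast hh)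
      rw [this, zpow_one]
    · refine .inr (hk ▸ ?_)
      have := (orderOf_dvd_sub_iff_zpow_eq_zpow (x := r) (a := k) (b := -1)).mp (by
        rw [hr5, sub_neg_eq_add]; exact_mod_cast hh)
      rw [this, zpow_neg_one]
  obtain ⟨j, hj⟩ : ∃ j, g j * r = r * g j := by
    rcases hpm 0 with e0 | e0
    · exact ⟨0, mul_inv_eq_iff_eq_mul.mp e0⟩
    rcases hpm 1 with e1 | e1
    · exact ⟨1, mul_inv_eq_iff_eq_mul.mp e1⟩
    refine ⟨2, ?_⟩
    have hg : g 2 = g 0 * g 1 := Subtype.ext (by
      show φ _ = φ _ * φ _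
      rw [← map_mul]
      exact congrArg φ (Subtype.ext (by
        show B.ι (W.gg 2) = B.ι (W.gg 0) * B.ι (W.gg 1)
        rw [← map_mul, W.gg_three])))
    refine mul_inv_eq_iff_eq_mul.mp ?_
    rw [hg, show g 0 * g 1 * r * (g 0 * g 1)⁻¹ = g 0 * (g 1 * r * (g 1)⁻¹) * (g 0)⁻¹ by group, e1,
      show g 0 * r⁻¹ * (g 0)⁻¹ = (g 0 * r * (g 0)⁻¹)⁻¹ by group, e0, inv_inv]
  -- the orbit of the central involution
  set zA : B.A := ⟨B.z, B.z_mem_A⟩
  have hgz : (g j : MulAut B.A) zA = zA := Subtype.ext (by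
    show B.ι (W.gg j) * B.z * (B.ι (W.gg j))⁻¹ = B.z
    rw [B.z_comm_S (B.mem_S _), mul_inv_cancel_right])
  have hfix : ∀ i : ℕ, (g j : MulAut B.A) (((r ^ i : φ.range) : MulAut B.A) zA) = ((r ^ i : φ.range) : MulAut B.A) zA := by
    intro i
    have := congrArg Subtype.val ((show Commute (g j) r from hj).pow_right i).eq
    calc (g j : MulAut B.A) (((r ^ i : φ.range) : MulAut B.A) zA)
        = ((g j : MulAut B.A) * ((r ^ i : φ.range) : MulAut B.A)) zA := rfl
      _ = (((r ^ i : φ.range) : MulAut B.A) * (g j : MulAut B.A)) zA := by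
        rw [← Subgroup.coe_mul, ← Subgroup.coe_mul]
        exact congrArg (fun q : MulAut B.A => q zA) this
      _ = ((r ^ i : φ.range) : MulAut B.A) zA := by rw [MulAut.mul_apply, hgz]
  let pt : Fin 5 → G := fun i => ((((r ^ i.val : φ.range) : MulAut B.A) zA : B.A) : G)
  have hptmem : ∀ i, pt i ∈ five.image B.ι := fun i => by
    obtain ⟨n, hn⟩ := (r ^ i.val : φ.range).2
    refine (hfive _).mp ⟨n, n.2, ?_⟩
    show (n : G) * B.z * (n : G)⁻¹ = _
    simp only [pt]
    rw [← hn, happ]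
  have hptinj : Function.Injective pt := by
    intro i k e
    have e' : ((r ^ i.val : φ.range) : MulAut B.A) zA = ((r ^ k.val : φ.range) : MulAut B.A) zA := Subtype.ext e
    have hstab : r ^ ((i.val : ℤ) - k.val) ∈
        (MulAction.stabilizer (MulAut B.A) zA).comap φ.range.subtype := by
      show ((r ^ ((i.val : ℤ) - k.val) : φ.range) : MulAut B.A) zA = zA
      rw [sub_eq_neg_add, zpow_add, zpow_neg, zpow_natCast, zpow_natCast, Subgroup.coe_mul, MulAut.mul_apply, e',
        Subgroup.coe_inv, MulAut.inv_apply_self]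
    by_contra hne
    have hcop : IsCoprime (5 : ℤ) ((i.val : ℤ) - k.val) := by
      refine (Nat.prime_iff_prime_int.mp h5.out).coprime_iff_not_dvd.mpr fun hdvd => hne (Fin.ext ?_)
      have := i.isLt; have := k.isLt
      obtain ⟨c, hc⟩ := hdvd
      omega
    obtain ⟨a, b, hab⟩ := hcop
    have hr : r ∈ (MulAction.stabilizer (MulAut B.A) zA).comap φ.range.subtype := by
      have h1 : r = (r ^ ((i.val : ℤ) - k.val)) ^ b := by
        rw [← zpow_mul]
        nth_rw 1 [← zpow_one r]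
        rw [← hab, zpow_add, mul_comm a, zpow_mul]
        have : r ^ (5 : ℤ) = 1 := by
          show r ^ ((5 : ℕ) : ℤ) = 1
          rw [zpow_natCast, ← hr5, pow_orderOf_eq_one]
        rw [this, one_zpow, one_mul, mul_comm]
      rw [h1]
      exact zpow_mem hstab b
    refine hz5 ?_
    have := congrArg Subtype.val (show (r : MulAut B.A) zA = zA from hr)
    simpa [r, happ] using this
  have himg : Finset.univ.image pt = five.image B.ι :=
    Finset.eq_of_subset_of_card_le (fun a ha => by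
      obtain ⟨i, -, rfl⟩ := Finset.mem_image.mp ha
      exact hptmem i) (by rw [hc5, Finset.card_image_of_injective _ hptinj, Finset.card_univ, Fintype.card_fin])
  obtain ⟨x, hx, hne⟩ := W.gg_moves j d
  have hmem : B.ι x ∈ Finset.univ.image pt :=
    himg ▸ Finset.mem_image_of_mem B.ι (Finset.mem_filter.mpr ⟨Finset.mem_univ _, hx⟩)
  obtain ⟨i, -, hi⟩ := Finset.mem_image.mp hmem
  refine hne (B.inj ?_)
  have := congrArg Subtype.val (hfix i.val)
  simp only [pt] at hi
  rw [happ] at this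
  rw [map_mul, map_mul, ← hi]
  exact mul_inv_eq_iff_eq_mul.mp this

/-- **The alternating case.** -/
theorem alt_case (hF : B.Fused) (h : B.Alt hF) :
    Nonempty (G ≃* ↥(alternatingGroup (Fin 8))) ∨ Nonempty (G ≃* ↥(alternatingGroup (Fin 9))) := by
  classical
  haveI : Fact (Nat.Prime 2) := ⟨Nat.prime_two⟩
  haveI : Fact (Nat.Prime 3) := ⟨Nat.prime_three⟩
  set C := Subgroup.centralizer ({B.z} : Set G) with hC
  set L := B.locC hF with hL
  obtain ⟨ρ, hs, hk⟩ := B.exists_rowHom hF h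
  set Q : Subgroup G := (pCore 2 C).map C.subtype with hQ
  have hmem : ∀ {g : G}, g ∈ Q ↔ ∃ w, W.inR w ∧ B.ι w = g := by
    intro g
    constructor
    · rintro ⟨x, hx, rfl⟩
      obtain ⟨w, hw, rfl⟩ := L.mem_range_pCore.mp hx
      exact ⟨w, hw, rfl⟩
    · rintro ⟨w, hw, rfl⟩
      exact ⟨L.ι w, L.mem_range_pCore.mpr ⟨w, hw, rfl⟩, rfl⟩
  have hQcard : Nat.card Q = 32 := by
    rw [hQ, Subgroup.card_map_of_injective (Subgroup.subtype_injective _), B.card_pCore hF]
  set zQ : Q := ⟨B.z, hmem.mpr ⟨W.zz, W.zz_facts.2.2.2.2, rfl⟩⟩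
  have hzz : ∀ k, k = 1 ∨ k = W.zz → B.ι k ∈ Subgroup.zpowers B.z := by
    rintro k (rfl | rfl)
    · rw [map_one]; exact one_mem _
    · exact Subgroup.mem_zpowers _
  have hzQ : ∀ g : Q, (g : G) ∈ Subgroup.zpowers B.z → g ∈ Subgroup.zpowers zQ := by
    rintro g ⟨i, hi⟩
    exact ⟨i, Subtype.ext hi⟩
  have hQex : IsExtraspecial 2 Q := by
    refine CfsgLib.SymplecticTypeP.isExtraspecial_of (z := zQ) (IsPGroup.of_card (n := 5) (by rw [hQcard]; norm_num))
      ((Subgroup.orderOf_coe zQ).symm.trans B.orderOf_z) ?_ ?_ ?_ ?_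
    · intro g
      obtain ⟨k, hk', e⟩ := hmem.mp g.2
      refine hzQ _ ?_
      rw [pow_two, Subgroup.coe_mul, ← e, ← map_mul]
      exact hzz _ (W.R_sq k hk')
    · intro g g'
      obtain ⟨k, hk', e⟩ := hmem.mp g.2
      obtain ⟨l, hl, e'⟩ := hmem.mp g'.2
      refine hzQ _ ?_
      rw [commutatorElement_def, show ((g * g' * g⁻¹ * g'⁻¹ : Q) : G) = B.ι (k * l * k⁻¹ * l⁻¹) by simp [e, e']]
      exact hzz _ (W.R_comm k l hk' hl)
    · intro g hg
      obtain ⟨k, hk', e⟩ := hmem.mp g.2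
      refine hzQ _ (e ▸ hzz k (W.R_center k hk' fun v hv => B.inj ?_))
      rw [map_mul, map_mul, e]
      exact congrArg Subtype.val (hg ⟨B.ι v, hmem.mpr ⟨v, hv, rfl⟩⟩).eq
    · refine ⟨⟨_, hmem.mpr ⟨W.g1, W.R_noncomm.1, rfl⟩⟩, ⟨_, hmem.mpr ⟨W.p2, W.R_noncomm.2.1, rfl⟩⟩, fun hc => ?_⟩
      refine W.R_noncomm.2.2 (B.inj ?_)
      rw [map_mul, map_mul]
      exact congrArg Subtype.val hc.eq
  let e : C ⧸ pCore 2 C ≃* Equiv.Perm (Fin 3) :=
    (QuotientGroup.quotientMulEquivOfEq hk.symm).trans (QuotientGroup.quotientKerEquivOfSurjective ρ hs)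
  obtain ⟨x0, hx3, hx1, hcol, hrow⟩ := L.exists_three
  have hp3 : IsPGroup 3 (Subgroup.zpowers x0) := IsPGroup.of_card (n := 1) (by
    rw [Nat.card_zpowers, pow_one, orderOf_eq_prime hx3 hx1])
  obtain ⟨X, hX⟩ := hp3.exists_le_sylow
  have hCQX : Q ⊓ Subgroup.centralizer (((X : Subgroup C).map C.subtype : Subgroup G) : Set G) =
      Subgroup.zpowers B.z := by
    refine le_antisymm ?_ ?_
    · rintro g ⟨hgQ, hgC⟩
      obtain ⟨k, hk', rfl⟩ := hmem.mp hgQ
      refine hzz k (L.fix_eq hcol hrow hk' (Subtype.ext ?_))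
      exact Subgroup.mem_centralizer_iff.mp hgC _ ⟨x0, hX (Subgroup.mem_zpowers x0), rfl⟩
    · rw [Subgroup.zpowers_le]
      refine ⟨zQ.2, Subgroup.mem_centralizer_iff.mpr ?_⟩
      rintro _ ⟨l, -, rfl⟩
      exact B.mem_C.mp l.2
  obtain ⟨j, g, hg⟩ := B.exists_pp_zc hF h
  have hnwc : ∃ g : G, g * B.z * g⁻¹ ∈ Q ∧ g * B.z * g⁻¹ ≠ B.z := by
    refine ⟨g, hg ▸ hmem.mpr ⟨W.pp j, ?_, rfl⟩, hg ▸ fun e' => (W.pp_facts j).2.2.1 (B.inj e')⟩
    fin_cases j <;> decide
  rcases Cfsg.Agent.S3344.result B.z B.orderOf_z C rfl Q hQ hQex hQcard e X hCQX hnwc with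
    ⟨N, hN, -, -, hN8, -⟩ | h8 | h9 | ⟨⟨f⟩⟩
  · exfalso
    haveI := hN
    have := CfsgLib.le_pCore (N := N) (IsPGroup.of_card (n := 3) (by rw [hN8]; norm_num) : IsPGroup 2 N)
    rw [B.h2, le_bot_iff] at this
    rw [this, Subgroup.card_bot] at hN8
    norm_num at hN8
  · exact .inl h8
  · exact .inr h9
  · exfalso
    let P : Sylow 2 ↥Spor.M12 := B.S.mapSurjective (f := f.toMonoidHom) f.surjective
    obtain ⟨i4⟩ := CfsgLib.M12Sylow.exists_iso P
    have hP : (P : Subgroup ↥Spor.M12) = (B.S : Subgroup G).map f.toMonoidHom := rfl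
    let v : W ≃* CfsgLib.G2Sylow.W 4 :=
      ((((MonoidHom.ofInjective B.inj).trans (MulEquiv.subgroupCongr B.range_eq)).trans
        (f.subgroupMap (B.S : Subgroup G))).trans (MulEquiv.subgroupCongr hP.symm)).trans i4.symm
    obtain ⟨m1, m2, m3⟩ := W.mm_cent
    refine W.m12_cent (v W.mm) (by rw [← map_mul, m1, map_one]) (fun y hy => ?_) ?_
    · obtain ⟨y, rfl⟩ := v.surjective y
      rw [← map_mul, ← map_mul] at hy
      rw [← map_mul, m2 y (v.injective hy), map_one]
    · rw [← m3]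
      refine (Finset.card_nbij' v v.symm ?_ ?_ (fun y _ => v.symm_apply_apply y) (fun y _ => v.apply_symm_apply y)).symm
      · intro y hy
        simp only [Finset.coe_filter, Finset.mem_univ, true_and, Set.mem_ofPred_eq, decide_eq_true_eq] at hy ⊢
        rw [← map_mul, ← map_mul, hy]
      · intro y hy
        simp only [Finset.coe_filter, Finset.mem_univ, true_and, Set.mem_ofPred_eq, decide_eq_true_eq] at hy ⊢
        refine v.injective ?_
        rw [map_mul, map_mul, v.apply_symm_apply]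
        exact hy

end Base

end CfsgLib.A8Sylow
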