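import Cfsg.Agent.Lib.L34Sylow.Core
import Cfsg.Agent.Lib.CharTwoEarly
import Cfsg.Agent.Lib.MinSimpleOdd.Basic
import Cfsg.Agent.Lib.CoprimeGen

/-!
Balance, and subgroups generated by the cores along a four-group.

Blueprint: `blueprint/S2918.md`, step 3.
-/

set_option autoImplicit false
set_option linter.style.haveILetI false
set_option linter.unusedSectionVars false

open Cfsg

namespace CfsgLib.A8Sylow

open CfsgLib.L34Sylow (oddC oddC_le oddC_comm oddC_conj oddC_normal odd_oddC Wf oddC_le_Wf Wf_le)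

universe u

variable {G : Type u} [Group G] [Finite G]

/-- Every core meets the centraliser of `v` in the core of `v`. -/
def Bal (v : G) : Prop := ∀ t : G, t * t = 1 → t * v = v * t → ∀ y ∈ oddC t, y * v = v * y → y ∈ oddC v

theorem bal_of_solvable {v : G} (h : Group.IsSolvable ↥(Subgroup.centralizer ({v} : Set G))) : Bal v := by
  haveI : Fact (Nat.Prime 2) := ⟨Nat.prime_two⟩
  haveI := h
  exact fun t ht htv y hy hyv =>
    CfsgLib.CharTwoEarly.balance (MinSimpleOdd.isPConstrained_of_solvable 2) ht htv hy hyv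

theorem Bal.conj {v : G} (h : Bal v) (g : G) : Bal (g * v * g⁻¹) := by
  intro t ht htv y hy hyv
  have hc : ∀ a : G, a * (g * v * g⁻¹) = g * v * g⁻¹ * a → g⁻¹ * a * g⁻¹⁻¹ * v = v * (g⁻¹ * a * g⁻¹⁻¹) := by
    intro a ha
    calc g⁻¹ * a * g⁻¹⁻¹ * v = g⁻¹ * (a * (g * v * g⁻¹)) * g := by group
      _ = v * (g⁻¹ * a * g⁻¹⁻¹) := by rw [ha]; group
  have := h (g⁻¹ * t * g⁻¹⁻¹) (by
    calc g⁻¹ * t * g⁻¹⁻¹ * (g⁻¹ * t * g⁻¹⁻¹) = g⁻¹ * (t * t) * g := by group
      _ = 1 := by rw [ht]; group) (hc t htv) _ (oddC_conj (g := g⁻¹) hy) (hc y hyv)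
  have h2 := oddC_conj (g := g) this
  simpa [mul_assoc] using h2

theorem isSolvable_odd {H : Subgroup G} (h : Odd (Nat.card H)) : Group.IsSolvable H :=
  HallE8.isSolvable_of_odd (by rw [← even_iff_two_dvd, Nat.not_even_iff_odd]; exact h)

theorem not_cyclic_of_four {U : Subgroup G} (h4 : Nat.card U = 4) (hsq : ∀ u ∈ U, u * u = 1) : ¬ IsCyclic U :=
  fun h => by
    obtain ⟨g, hg⟩ := h.exists_generator
    have h2 : orderOf g ∣ 2 := orderOf_dvd_of_pow_eq_one (Subtype.ext (by rw [pow_two]; exact hsq g g.2))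
    rw [orderOf_eq_card_of_forall_mem_zpowers hg, h4] at h2
    norm_num at h2

/-- The core of an involution centralising a balanced four-group lies in the subgroup generated along it. -/
theorem oddC_le_Wf_four {U : Subgroup G} (hcomm : ∀ a ∈ U, ∀ b ∈ U, a * b = b * a) (hsq : ∀ u ∈ U, u * u = 1)
    (h4 : Nat.card U = 4) (hb : ∀ u ∈ U, u ≠ 1 → Bal u) {v : G} (hv : v * v = 1)
    (hvU : ∀ u ∈ U, u * v = v * u) : oddC v ≤ Wf U := by
  haveI : IsMulCommutative U := ⟨⟨fun a b => Subtype.ext (hcomm a a.2 b b.2)⟩⟩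
  have hcop : (Nat.card U).Coprime (Nat.card (oddC v)) := by
    rw [h4, show 4 = 2 ^ 2 by norm_num]
    exact (Nat.coprime_two_left.mpr (odd_oddC v)).pow_left 2
  have hn : U ≤ Subgroup.normalizer (oddC v : Set G) := Subgroup.le_normalizer_iff.mpr fun u hu x hx =>
    oddC_normal (Subgroup.mem_centralizer_singleton_iff.mpr (hvU u hu)) hx
  rw [← coprime_generated_by_centralizers (not_cyclic_of_four h4 hsq) hn hcop]
  refine iSup₂_le fun a ha x hx => ?_
  exact oddC_le_Wf ha.1 ha.2 (hb a ha.1 ha.2 v hv (hvU a ha.1).symm x hx.1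
    (Subgroup.mem_centralizer_singleton_iff.mp hx.2))

end CfsgLib.A8Sylow
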