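import Cfsg.Agent.Lib.A8Sylow.Half

/-!
Isolated elements in the centralisers of the involutions not of central type.

Blueprint: `blueprint/S2918.md`, step 3.
-/

set_option autoImplicit false
set_option maxRecDepth 100000
set_option linter.style.haveILetI false
set_option linter.unusedSectionVars false

open Cfsg

namespace CfsgLib.A8Sylow

open CfsgLib.L34Sylow (oddC oddC_le oddC_comm oddC_conj oddC_normal odd_oddC Wf oddC_le_Wf Wf_le Wf_spec le_oddC)

universe u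

namespace W

theorem cent_gg : ∀ (j : Fin 3) (a : W), inA a → gg j * a = a * gg j → inV j a := by decide +kernel

end W

namespace Base

variable {G : Type u} [Group G] [Finite G] (B : Base G)

/-- Fixed by the elements of odd order normalising the subgroup of order sixteen and centralising `f`. -/
def Fixd (f a : G) : Prop :=
  a ∈ B.A ∧ ∀ n ∈ Subgroup.normalizer (B.A : Set G), Odd (orderOf n) → n * f = f * n → n * a = a * n

/-- Some such element is of central type. -/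
def CaseA (f : G) : Prop := ∃ a, B.Fixd f a ∧ B.ZC a

theorem Half.core_le {B : Base G} {f : G} {D0 : Subgroup G} (h : B.Half f D0) :
    (pPrimeCore 2 D0).map D0.subtype ≤ oddC f := by
  set R := (pPrimeCore 2 D0).map D0.subtype
  have hR : Odd (Nat.card R) := by
    rw [Subgroup.card_map_of_injective D0.subtype_injective]
    exact Nat.coprime_two_right.mp (CfsgLib.card_pPrimeCore_coprime 2)
  refine le_oddC ((Subgroup.map_subtype_le _).trans h.le) hR fun c hc r hr => ?_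
  have hle : R.map (MulAut.conj c).toMonoidHom ≤ D0 := by
    rintro _ ⟨x, hx, rfl⟩
    exact h.normal c hc x (Subgroup.map_subtype_le _ hx)
  have hn : ((R.map (MulAut.conj c).toMonoidHom).subgroupOf D0).Normal := ⟨fun y hy d => by
    obtain ⟨x, hx, e⟩ := hy
    have hci : c⁻¹ ∈ Subgroup.centralizer ({f} : Set G) := inv_mem hc
    have hd : c⁻¹ * d * c⁻¹⁻¹ ∈ D0 := h.normal _ hci d d.2
    obtain ⟨x', hx', rfl⟩ := hx
    refine ⟨c⁻¹ * d * c⁻¹⁻¹ * x' * (c⁻¹ * d * c⁻¹⁻¹)⁻¹, ⟨⟨_, hd⟩ * x' * ⟨_, hd⟩⁻¹,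
      (inferInstance : (pPrimeCore 2 D0).Normal).conj_mem x' hx' _, rfl⟩, ?_⟩
    have e' : c * (x' : G) * c⁻¹ = (y : G) := e
    show c * (c⁻¹ * d * c⁻¹⁻¹ * x' * (c⁻¹ * d * c⁻¹⁻¹)⁻¹) * c⁻¹ = (d : G) * y * (d : G)⁻¹
    rw [← e']; group⟩
  have hsub : (R.map (MulAut.conj c).toMonoidHom).subgroupOf D0 ≤ pPrimeCore 2 D0 := CfsgLib.le_pPrimeCore (by
    rw [Nat.card_congr (Subgroup.subgroupOfEquivOfLe hle).toEquiv,
      ← Nat.card_congr (R.equivMapOfInjective (MulAut.conj c).toMonoidHom (MulAut.conj c).injective).toEquiv]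
    exact Nat.coprime_two_right.mpr hR)
  exact ⟨⟨_, hle ⟨r, hr, rfl⟩⟩, hsub ⟨r, hr, rfl⟩, rfl⟩

theorem Half.oddC_le {B : Base G} {f : G} {D0 : Subgroup G} (h : B.Half f D0) : oddC f ≤ D0 := fun _ hx =>
  h.odd _ (CfsgLib.L34Sylow.oddC_le f hx) (CfsgLib.L34Sylow.odd_order_oddC hx)

/-- A fixed element is central modulo the core. -/
theorem Half.decomp {B : Base G} {f : G} {D0 : Subgroup G} (h : B.Half f D0) {a : G} (ha : B.Fixd f a) (ha1 : a ≠ 1)
    {x : G} (hx : x ∈ D0) : ∃ o ∈ oddC f, ∃ y ∈ D0, y * a = a * y ∧ x = o * y := by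
  haveI : Fact (Nat.Prime 2) := ⟨Nat.prime_two⟩
  have haD : a ∈ D0 := h.A_le ha.1
  obtain ⟨T, hT⟩ := (B.isPGroup_A.comap_of_injective D0.subtype D0.subtype_injective).exists_le_sylow
  have hTA : ∀ t : D0, t ∈ (T : Subgroup D0) → (t : G) ∈ B.A := fun t ht =>
    h.two _ (T.isPGroup'.map _) (fun y hy => ⟨⟨y, h.A_le hy⟩, hT hy, rfl⟩) (Subgroup.map_subtype_le _) ⟨t, ht, rfl⟩
  set a' : D0 := ⟨a, haD⟩
  have hord : orderOf a' = 2 := by
    rw [Subgroup.orderOf_mk]
    exact orderOf_eq_prime (by rw [pow_two]; exact B.sq_A ha.1) ha1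
  have hiso : IsIsolated a' := CfsgLib.ZStar.isolated_of_sylow T hord (hT ha.1) fun g hg => by
    obtain ⟨n, hn, hnD, hne⟩ := B.control h.A_le (g := (g : G)) g.2 ha.1 (hTA _ hg)
    obtain ⟨v, hv, w, hw, ⟨k, hk⟩, hwo, e⟩ := CfsgLib.U34Char.exists_parts n
    have hvN : v ∈ Subgroup.normalizer (B.A : Set G) := Subgroup.zpowers_le.mpr hn hv
    have hwN : w ∈ Subgroup.normalizer (B.A : Set G) := Subgroup.zpowers_le.mpr hn hw
    have hvA : v ∈ B.A := by
      have hp : IsPGroup 2 ↥(Subgroup.zpowers v ⊔ B.A) := IsPGroup.to_sup_of_normal_right'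
        (IsPGroup.of_card (n := k) (by rw [Nat.card_zpowers, hk])) B.isPGroup_A (Subgroup.zpowers_le.mpr hvN)
      exact h.two _ hp le_sup_right (sup_le (Subgroup.zpowers_le.mpr (Subgroup.zpowers_le.mpr hnD hv)) h.A_le)
        (Subgroup.mem_sup_left (Subgroup.mem_zpowers v))
    have hwa : w * a = a * w := ha.2 w hwN hwo
      (Subgroup.mem_centralizer_singleton_iff.mp (h.le (Subgroup.zpowers_le.mpr hnD hw)))
    have hna : n * a * n⁻¹ = a := by
      rw [e, show v * w * a * (v * w)⁻¹ = v * (w * a * w⁻¹) * v⁻¹ by group, mul_inv_eq_iff_eq_mul.mpr hwa,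
        B.comm_A hvA ha.1, mul_inv_cancel_right]
    refine Subtype.ext ?_
    rw [hna] at hne
    exact hne.symm
  have hg := CfsgLib.ZStar.inZStar hord hiso ⟨x, hx⟩
  have hgR : (x * a * x⁻¹ * a⁻¹) ∈ (pPrimeCore 2 D0).map D0.subtype := ⟨_, hg, rfl⟩
  have hz : IsPGroup 2 ↥(Subgroup.zpowers a) := B.isPGroup_A.to_le (Subgroup.zpowers_le.mpr ha.1)
  obtain ⟨o, ho, hoP⟩ := exists_conj_odd (O := oddC f) (odd_oddC f) (hz.map (MulAut.conj x).toMonoidHom) hz
    (Subgroup.zpowers_le.mpr (CfsgLib.L34Sylow.mem_normalizer_of_forall fun r hr =>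
      oddC_normal (h.le haD) hr)) (by
      rw [MonoidHom.map_zpowers, Subgroup.zpowers_le]
      show x * a * x⁻¹ ∈ oddC f ⊔ Subgroup.zpowers a
      rw [← inv_mul_cancel_right (x * a * x⁻¹) a]
      exact mul_mem (Subgroup.mem_sup_left (h.core_le hgR)) (Subgroup.mem_sup_right (Subgroup.mem_zpowers a)))
  refine ⟨o⁻¹, inv_mem ho, o * x, mul_mem (h.oddC_le ho) hx, ?_, by group⟩
  obtain ⟨n, hn⟩ := Subgroup.mem_zpowers_iff.mp (hoP _ ⟨a, Subgroup.mem_zpowers a, rfl⟩)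
  have hn' : a ^ n = o * x * a * (o * x)⁻¹ := by rw [hn]; simp [mul_assoc]
  rcases Int.even_or_odd n with ⟨k, rfl⟩ | ⟨k, rfl⟩
  · rw [← two_mul, zpow_mul, zpow_two, B.sq_A ha.1, one_zpow, eq_comm, conj_eq_one_iff] at hn'
    exact absurd hn' ha1
  · rw [zpow_add, zpow_mul, zpow_two, B.sq_A ha.1, one_zpow, one_mul, zpow_one] at hn'
    exact (mul_inv_eq_iff_eq_mul.mp hn'.symm)

theorem solvable_of_zc {a : G} (h : B.ZC a) : Group.IsSolvable ↥(Subgroup.centralizer ({a} : Set G)) := by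
  obtain ⟨g, rfl⟩ := h
  haveI : Group.IsSolvable ↥(Subgroup.centralizer ({B.z} : Set G)) := B.hsol
  refine Group.isSolvable_of_isSolvable_injective (f :=
    ({ toFun := fun x => ⟨g⁻¹ * x * g, ?_⟩
       map_one' := Subtype.ext (by simp)
       map_mul' := fun x y => Subtype.ext (by simp [mul_assoc]) } :
      ↥(Subgroup.centralizer ({g * B.z * g⁻¹} : Set G)) →* ↥(Subgroup.centralizer ({B.z} : Set G))))
    fun x y e => Subtype.ext (mul_left_cancel (mul_right_cancel (congrArg Subtype.val e)))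
  have h' := Subgroup.mem_centralizer_singleton_iff.mp x.2
  rw [Subgroup.mem_centralizer_singleton_iff]
  calc g⁻¹ * x * g * B.z = g⁻¹ * ((x : G) * (g * B.z * g⁻¹)) * g := by group
    _ = B.z * (g⁻¹ * x * g) := by rw [h']; group

theorem zc_ne_one {a : G} (h : B.ZC a) : a ≠ 1 := fun e => by
  obtain ⟨g, rfl⟩ := h
  exact B.z_ne (conj_eq_one_iff.mp e)

/-- With a fixed element of central type the centraliser is solvable. -/
theorem solvable_caseA {f : G} {D0 : Subgroup G} (h : B.Half f D0) (hA : B.CaseA f) :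
    Group.IsSolvable ↥(Subgroup.centralizer ({f} : Set G)) := by
  obtain ⟨a, ha, haz⟩ := hA
  refine h.solv ?_
  set O := (oddC f).subgroupOf D0
  haveI hOn : O.Normal := ⟨fun y hy d => oddC_normal (h.le d.2) hy⟩
  haveI := isSolvable_odd (odd_oddC f)
  haveI : Group.IsSolvable O := Group.isSolvable_of_isSolvable_injective
    (f := (Subgroup.subgroupOfEquivOfLe h.oddC_le).toMonoidHom) (MulEquiv.injective _)
  set K := (Subgroup.centralizer ({a} : Set G)).subgroupOf D0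
  haveI := B.solvable_of_zc haz
  haveI : Group.IsSolvable K := Group.isSolvable_of_isSolvable_injective
    (f := ({ toFun := fun x => ⟨_, x.2⟩, map_one' := rfl, map_mul' := fun _ _ => rfl } :
      K →* ↥(Subgroup.centralizer ({a} : Set G))))
    fun x y e => Subtype.ext (Subtype.ext (congrArg (fun u : ↥(Subgroup.centralizer ({a} : Set G)) => (u : G)) e))
  haveI : Group.IsSolvable (D0 ⧸ O) := Group.isSolvable_of_surjective
    (f := (QuotientGroup.mk' O).comp K.subtype) fun q => by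
      obtain ⟨⟨x, hx⟩, rfl⟩ := QuotientGroup.mk'_surjective O q
      obtain ⟨o, ho, y, hy, hya, rfl⟩ := h.decomp ha (B.zc_ne_one haz) hx
      refine ⟨⟨⟨y, hy⟩, Subgroup.mem_centralizer_singleton_iff.mpr hya⟩, ?_⟩
      have ho' : (⟨o, h.oddC_le ho⟩ : D0) ∈ O := ho
      rw [show (⟨o * y, hx⟩ : D0) = ⟨o, h.oddC_le ho⟩ * ⟨y, hy⟩ from rfl, map_mul,
        show QuotientGroup.mk' O ⟨o, h.oddC_le ho⟩ = 1 from (QuotientGroup.eq_one_iff _).mpr ho', one_mul]
      rfl
  exact Group.isSolvable_of_ker_le_range O.subtype (QuotientGroup.mk' O) (by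
    rw [QuotientGroup.ker_mk', Subgroup.range_subtype])

/-- With a fixed element of central type the centraliser normalises the subgroup generated by the cores. -/
theorem le_caseA (hF : B.Fused) {k : Fin 3} (hk : B.Good k) {f : G} (hf : f ∈ B.A) {D0 : Subgroup G}
    (h : B.Half f D0) (hA : B.CaseA f) :
    Subgroup.centralizer ({f} : Set G) ≤ Subgroup.normalizer (Wf (B.U k) : Set G) := by
  obtain ⟨a, ha, haz⟩ := hA
  refine h.gen _ (fun x hx => ?_) (B.normalizer_le hk)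
  obtain ⟨o, ho, y, -, hya, rfl⟩ := h.decomp ha (B.zc_ne_one haz) hx
  obtain ⟨g, hg⟩ := haz
  exact mul_mem (Subgroup.le_normalizer (B.core_le_A hk hf ho))
    (B.cent_conj_le hF hk ha.1 hg (Subgroup.mem_centralizer_singleton_iff.mpr hya))

/-- The fixed elements as a subgroup. -/
def Fx (f : G) : Subgroup G where
  carrier := {a | B.Fixd f a}
  one_mem' := ⟨one_mem _, fun n _ _ _ => by simp⟩
  mul_mem' := fun {a c} ha hc => ⟨mul_mem ha.1 hc.1, fun n hn ho hf => by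
    rw [← mul_assoc, ha.2 n hn ho hf, mul_assoc, hc.2 n hn ho hf, ← mul_assoc]⟩
  inv_mem' := fun {a} ha => ⟨inv_mem ha.1, fun n hn ho hf => ((show Commute n a from ha.2 n hn ho hf).inv_right).eq⟩

theorem mem_Fx {f a : G} : a ∈ B.Fx f ↔ B.Fixd f a := Iff.rfl

theorem self_mem_Fx {f : G} (hf : f ∈ B.A) : f ∈ B.Fx f := ⟨hf, fun _ _ _ h => h⟩

theorem Fx_le_A (f : G) : B.Fx f ≤ B.A := fun _ h => h.1

/-- Four elements bound the fixed points of the involution, so sixteen bound the subgroup. -/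
theorem card_le_sq {X : Subgroup G} (hX : X ≤ B.A) {g : G} (hg : g * g = 1) (hgX : ∀ x ∈ X, g * x * g⁻¹ ∈ X)
    {m : ℕ} (hm : Nat.card ↥(X ⊓ Subgroup.centralizer ({g} : Set G)) ≤ m) : Nat.card X ≤ m * m := by
  set C := X ⊓ Subgroup.centralizer ({g} : Set G) with hC
  let φ : X →* G :=
    { toFun := fun x => (x : G) * (g * x * g⁻¹)
      map_one' := by simp
      map_mul' := fun x y => by
        have e : (y : G) * (g * x * g⁻¹) = g * x * g⁻¹ * y := B.comm_A (hX y.2) (hX (hgX x x.2))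
        simp only [Subgroup.coe_mul]
        calc (x : G) * y * (g * ((x : G) * y) * g⁻¹) = x * (y * (g * x * g⁻¹)) * (g * y * g⁻¹) := by group
          _ = x * (g * x * g⁻¹) * (y * (g * y * g⁻¹)) := by rw [e]; group }
  have hgi : g⁻¹ = g := inv_eq_of_mul_eq_one_left hg
  have hrange : φ.range ≤ C := by
    rintro _ ⟨x, rfl⟩
    refine Subgroup.mem_inf.mpr ⟨mul_mem x.2 (hgX x x.2), Subgroup.mem_centralizer_singleton_iff.mpr ?_⟩
    show (x : G) * (g * x * g⁻¹) * g = g * ((x : G) * (g * x * g⁻¹))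
    rw [← B.comm_A (hX (hgX x x.2)) (hX x.2), hgi]
    calc g * x * g * x * g = g * (x * (g * x * g)) := by group
      _ = _ := by rw [B.comm_A (hX x.2) (hX (by have := hgX x x.2; rwa [hgi] at this : g * x * g ∈ X))]
  have hker : φ.ker.map X.subtype ≤ C := by
    rintro _ ⟨x, hx, rfl⟩
    refine Subgroup.mem_inf.mpr ⟨x.2, Subgroup.mem_centralizer_singleton_iff.mpr ?_⟩
    have h1 : g * x * g⁻¹ = (x : G) := (inv_eq_of_mul_eq_one_right (MonoidHom.mem_ker.mp hx)).symm.trans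
      (inv_eq_of_mul_eq_one_right (B.sq_A (hX x.2)))
    show (x : G) * g = g * x
    exact (mul_inv_eq_iff_eq_mul.mp h1).symm
  have h1 : φ.ker.index ≤ m := by
    rw [Subgroup.index_ker]
    exact (Nat.le_of_dvd Nat.card_pos (Subgroup.card_dvd_of_le hrange)).trans hm
  have h2 : Nat.card φ.ker ≤ m := by
    rw [← Subgroup.card_map_of_injective X.subtype_injective]
    exact (Nat.le_of_dvd Nat.card_pos (Subgroup.card_dvd_of_le hker)).trans hm
  rw [← φ.ker.card_mul_index]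
  exact Nat.mul_le_mul h2 h1

/-- An outer involution centralising `f`. -/
theorem exists_outer (hF : B.Fused) {f : G} (hf : f ∈ B.A) (hf1 : f ≠ 1) (hz : ¬ B.ZC f) :
    ∃ g z' : G, g * g = 1 ∧ g * f = f * g ∧ g ∈ Subgroup.normalizer (B.A : Set G) ∧ z' ∈ B.A ∧ B.ZC z' ∧
      ¬ B.ZC (z' * f) ∧ ∀ a ∈ B.A, g * a = a * g → a = 1 ∨ a = z' ∨ a = f ∨ a = z' * f := by
  obtain ⟨n, hn, j, e⟩ := B.exists_pp hF hf hf1 hz
  have hpz : ¬ B.ZC (B.ι (W.pp j)) := e ▸ B.not_zc_conj hz n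
  have hnA : ∀ a ∈ B.A, n⁻¹ * a * n ∈ B.A := fun a ha => by
    have := (Subgroup.mem_normalizer_iff.mp (inv_mem hn) a).mp ha
    rwa [inv_inv] at this
  have hf' : n⁻¹ * B.ι (W.pp j) * n = f := by rw [← e]; group
  refine ⟨n⁻¹ * B.ι (W.gg j) * n, n⁻¹ * B.z * n, ?_, ?_, ?_, hnA _ B.z_mem_A, ⟨n⁻¹, by group⟩, ?_, fun a ha hga => ?_⟩
  · calc n⁻¹ * B.ι (W.gg j) * n * (n⁻¹ * B.ι (W.gg j) * n) = n⁻¹ * (B.ι (W.gg j) * B.ι (W.gg j)) * n := by group
      _ = 1 := by rw [← map_mul, (W.gg_sq j).1, map_one]; group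
  · rw [← hf', show n⁻¹ * B.ι (W.gg j) * n * (n⁻¹ * B.ι (W.pp j) * n) = n⁻¹ * (B.ι (W.gg j) * B.ι (W.pp j)) * n by
      group, ← map_mul, (W.pp_facts j).2.2.2.2.1, map_mul]
    group
  · exact mul_mem (mul_mem (inv_mem hn) (B.S_le_N (B.mem_S _))) hn
  · intro h
    obtain ⟨c, hc⟩ := (W.pp_facts j).2.2.2.2.2
    have h1 := (h.conj n).conj (B.ι c)⁻¹
    refine hpz ?_
    rw [← hf', show n * (n⁻¹ * B.z * n * (n⁻¹ * B.ι (W.pp j) * n)) * n⁻¹ = B.z * B.ι (W.pp j) by group,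
      ← B.comm_z (W.pp j), ← map_mul, ← hc, map_mul, map_mul, map_inv] at h1
    simpa [mul_assoc] using h1
  · obtain ⟨w, hw, hwe⟩ := B.mem_A.mp ((Subgroup.mem_normalizer_iff.mp hn a).mp ha)
    have hcm : W.gg j * w = w * W.gg j := B.inj (by
      rw [map_mul, map_mul, hwe]
      calc B.ι (W.gg j) * (n * a * n⁻¹) = n * (n⁻¹ * B.ι (W.gg j) * n * a) * n⁻¹ := by group
        _ = n * a * n⁻¹ * B.ι (W.gg j) := by rw [hga]; group)
    have ha' : a = n⁻¹ * B.ι w * n := by rw [hwe]; group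
    rcases W.inV_pp j w (W.cent_gg j w hw hcm) hw with rfl | rfl | rfl | rfl
    · exact .inl (by rw [ha', map_one]; group)
    · exact .inr (.inl ha')
    · exact .inr (.inr (.inl (ha'.trans hf')))
    · exact .inr (.inr (.inr (by rw [ha', ← hf', map_mul, B.comm_z]; group)))

open scoped IsMulCommutative in
/-- Without a fixed element of central type the fixed elements form a four-group. -/
theorem card_Fx (hF : B.Fused) {f : G} (hf : f ∈ B.A) (hf1 : f ≠ 1) (hz : ¬ B.ZC f) {D0 : Subgroup G}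
    (h : B.Half f D0) (hA : ¬ B.CaseA f) : Nat.card (B.Fx f) = 4 := by
  classical
  haveI : Fact (Nat.Prime 2) := ⟨Nat.prime_two⟩
  obtain ⟨g, z', hg, hgf, hgN, hz'A, hz', hzf, hgC⟩ := B.exists_outer hF hf hf1 hz
  have hz'F : z' ∉ B.Fx f := fun h' => hA ⟨z', h', hz'⟩
  have hgFx : ∀ x ∈ B.Fx f, g * x * g⁻¹ ∈ B.Fx f := fun x hx =>
    ⟨(Subgroup.mem_normalizer_iff.mp hgN x).mp hx.1, fun n hn ho hnf => by
      have h1 : g⁻¹ * n * g * x = x * (g⁻¹ * n * g) := hx.2 _ (mul_mem (mul_mem (inv_mem hgN) hn) hgN)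
        (by rw [show g⁻¹ * n * g = g⁻¹ * n * g⁻¹⁻¹ by group, CfsgLib.ZStar.orderOf_conj]; exact ho) (by
          calc g⁻¹ * n * g * f = g⁻¹ * n * (g * f) := by group
            _ = g⁻¹ * (n * f) * g := by rw [hgf]; group
            _ = g⁻¹ * f * n * g := by rw [hnf]; group
            _ = g⁻¹ * (f * g) * (g⁻¹ * n * g) := by group
            _ = f * (g⁻¹ * n * g) := by rw [← hgf]; group)
      calc n * (g * x * g⁻¹) = g * (g⁻¹ * n * g * x) * g⁻¹ := by group
        _ = g * x * g⁻¹ * n := by rw [h1]; group⟩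
  have hbound : ∀ X : Subgroup G, X ≤ B.A → z' ∉ X → z' * f ∉ X ∨ f ∉ X →
      Nat.card ↥(X ⊓ Subgroup.centralizer ({g} : Set G)) ≤ 2 := by
    intro X hX h1 h2
    obtain ⟨t, ht⟩ : ∃ t : G, ∀ a ∈ X ⊓ Subgroup.centralizer ({g} : Set G), a = 1 ∨ a = t := by
      rcases h2 with h2 | h2
      · refine ⟨f, fun a ha => ?_⟩
        obtain ⟨haX, haC⟩ := Subgroup.mem_inf.mp ha
        rcases hgC a (hX haX) (Subgroup.mem_centralizer_singleton_iff.mp haC).symm with e | e | e | e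
        · exact .inl e
        · exact absurd (e ▸ haX) h1
        · exact .inr e
        · exact absurd (e ▸ haX) h2
      · refine ⟨z' * f, fun a ha => ?_⟩
        obtain ⟨haX, haC⟩ := Subgroup.mem_inf.mp ha
        rcases hgC a (hX haX) (Subgroup.mem_centralizer_singleton_iff.mp haC).symm with e | e | e | e
        · exact .inl e
        · exact absurd (e ▸ haX) h1
        · exact absurd (e ▸ haX) h2
        · exact .inr e
    refine (Nat.card_le_card_of_injective (fun a : ↥(X ⊓ Subgroup.centralizer ({g} : Set G)) =>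
      decide ((a : G) = 1)) fun a c e => Subtype.ext ?_).trans (by rw [Nat.card_eq_fintype_card, Fintype.card_bool])
    have e' : ((a : G) = 1) ↔ ((c : G) = 1) := decide_eq_decide.mp e
    rcases ht a a.2 with ha | ha <;> rcases ht c c.2 with hc | hc
    · rw [ha, hc]
    · rw [ha, e'.mp ha]
    · rw [hc, e'.mpr hc]
    · rw [ha, hc]
  have hzfF : z' * f ∉ B.Fx f := fun h' => hz'F (by
    have := mul_mem h' (B.self_mem_Fx hf)
    rwa [mul_assoc, B.sq_A hf, mul_one] at this)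
  have hle : Nat.card (B.Fx f) ≤ 2 * 2 :=
    B.card_le_sq (B.Fx_le_A f) hg hgFx (hbound _ (B.Fx_le_A f) hz'F (.inl hzfF))
  have hdvd : Nat.card (B.Fx f) ∣ 2 ^ 4 := (Subgroup.card_dvd_of_le (B.Fx_le_A f)).trans (by rw [B.card_A]; norm_num)
  obtain ⟨i, -, hi⟩ := (Nat.dvd_prime_pow Nat.prime_two).mp hdvd
  have hlt : 1 < Nat.card (B.Fx f) := by
    haveI : Nontrivial (B.Fx f) := ⟨⟨⟨f, B.self_mem_Fx hf⟩, 1, fun e => hf1 (congrArg Subtype.val e)⟩⟩
    exact Finite.one_lt_card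
  rcases i with _ | _ | _ | i
  · rw [hi] at hlt; omega
  rotate_left
  · exact hi
  · exfalso
    rw [hi, pow_succ, pow_succ, pow_succ] at hle
    have := Nat.one_le_two_pow (n := i)
    omega
  -- only `f` is fixed: average over the automorphisms of odd order
  exfalso
  haveI : IsMulCommutative B.A := ⟨⟨fun a c => Subtype.ext (B.comm_A a.2 c.2)⟩⟩
  set N := Subgroup.normalizer (B.A : Set G)
  let φ : N →* MulAut B.A := B.A.normalizerMonoidHom
  have happ : ∀ (n : N) (a : B.A), ((φ n a : B.A) : G) = (n : G) * a * (n : G)⁻¹ := fun _ _ => rfl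
  set R := (D0.subgroupOf N).map φ with hR
  have hRodd : ∀ r ∈ R, Odd (orderOf r) := by
    rintro _ ⟨n, hn, rfl⟩
    obtain ⟨v, hv, w, -, ⟨k, hk⟩, hwo, e⟩ := CfsgLib.U34Char.exists_parts n
    have hvD : (v : G) ∈ D0 := Subgroup.zpowers_le.mpr hn hv
    have hp : IsPGroup 2 ↥(Subgroup.zpowers (v : G) ⊔ B.A) := IsPGroup.to_sup_of_normal_right'
      (IsPGroup.of_card (n := k) (by rw [Nat.card_zpowers, Subgroup.orderOf_coe, hk])) B.isPGroup_A
      (Subgroup.zpowers_le.mpr v.2)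
    have hvA : (v : G) ∈ B.A := h.two _ hp le_sup_right (sup_le (Subgroup.zpowers_le.mpr hvD) h.A_le)
      (Subgroup.mem_sup_left (Subgroup.mem_zpowers _))
    have hv1 : φ v = 1 := MulEquiv.ext fun x => Subtype.ext (by
      rw [happ]; show (v : G) * x * (v : G)⁻¹ = x
      rw [B.comm_A hvA x.2, mul_inv_cancel_right])
    rw [e, map_mul, hv1, one_mul]
    exact hwo.of_dvd_nat (orderOf_map_dvd φ w)
  have hRcard : Odd (Nat.card R) := Nat.not_even_iff_odd.mp fun he => by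
    obtain ⟨⟨r, hr⟩, hr2⟩ := exists_prime_orderOf_dvd_card' (G := R) 2 (even_iff_two_dvd.mp he)
    rw [Subgroup.orderOf_mk] at hr2
    have := hRodd r hr
    rw [hr2] at this
    exact absurd this (by decide)
  haveI := Fintype.ofFinite R
  let e : B.A →* B.A :=
    { toFun := fun a => ∏ r : R, (r : MulAut B.A) a
      map_one' := Finset.prod_eq_one fun r _ => map_one _
      map_mul' := fun a c => by rw [← Finset.prod_mul_distrib]; exact Finset.prod_congr rfl fun r _ => map_mul _ _ _ }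
  have hinv : ∀ r : R, ∀ a : B.A, (r : MulAut B.A) (e a) = e a := fun r a => by
    show (r : MulAut B.A) (∏ s : R, (s : MulAut B.A) a) = ∏ s : R, (s : MulAut B.A) a
    rw [map_prod]
    exact Fintype.prod_equiv (Equiv.mulLeft r) _ _ fun s => rfl
  have hef : e ⟨f, hf⟩ = ⟨f, hf⟩ := by
    show ∏ r : R, (r : MulAut B.A) ⟨f, hf⟩ = _
    have h1 : ∀ r : R, (r : MulAut B.A) ⟨f, hf⟩ = ⟨f, hf⟩ := by
      rintro ⟨_, n, hn, rfl⟩
      refine Subtype.ext ?_
      rw [happ]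
      exact mul_inv_eq_iff_eq_mul.mpr (Subgroup.mem_centralizer_singleton_iff.mp (h.le hn))
    rw [Finset.prod_congr rfl fun r _ => h1 r, Finset.prod_const, Finset.card_univ, ← Nat.card_eq_fintype_card]
    obtain ⟨m, hm⟩ := hRcard
    rw [hm, pow_succ, pow_mul, show (⟨f, hf⟩ : B.A) ^ 2 = 1 from Subtype.ext (by
      push_cast; rw [pow_two, B.sq_A hf]), one_pow, one_mul]
  have hrange : e.range.map B.A.subtype ≤ B.Fx f := by
    rintro _ ⟨_, ⟨a, rfl⟩, rfl⟩
    refine ⟨(e a).2, fun n hn ho hnf => ?_⟩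
    have hnD : n ∈ D0 := h.odd n (Subgroup.mem_centralizer_singleton_iff.mpr hnf) ho
    have h1 := congrArg Subtype.val (hinv ⟨φ ⟨n, hn⟩, ⟨n, hn⟩, hnD, rfl⟩ a)
    rw [happ] at h1
    exact mul_inv_eq_iff_eq_mul.mp h1
  set U := e.ker.map B.A.subtype with hU
  have hU8 : 8 ≤ Nat.card U := by
    rw [hU, Subgroup.card_map_of_injective B.A.subtype_injective]
    have h1 := e.ker.card_mul_index
    rw [Subgroup.index_ker, B.card_A] at h1
    have h2 : Nat.card e.range ≤ 2 := by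
      rw [← Subgroup.card_map_of_injective B.A.subtype_injective]
      exact (Nat.le_of_dvd Nat.card_pos (Subgroup.card_dvd_of_le hrange)).trans_eq hi
    nlinarith
  have hUA : U ≤ B.A := Subgroup.map_subtype_le _
  have hfU : f ∉ U := by
    rintro ⟨a, ha, hae⟩
    rw [show a = ⟨f, hf⟩ from Subtype.ext hae, SetLike.mem_coe, MonoidHom.mem_ker, hef] at ha
    exact hf1 (congrArg Subtype.val ha)
  have hnorm : ∀ r : MulAut B.A, r ∈ R → φ ⟨g, hgN⟩ * r * (φ ⟨g, hgN⟩)⁻¹ ∈ R := by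
    rintro _ ⟨n, hn, rfl⟩
    exact ⟨⟨g, hgN⟩ * n * ⟨g, hgN⟩⁻¹, h.normal g (Subgroup.mem_centralizer_singleton_iff.mpr hgf) n hn,
      by rw [map_mul, map_mul, map_inv]⟩
  have hgU : ∀ x ∈ U, g * x * g⁻¹ ∈ U := by
    rintro _ ⟨a, ha, rfl⟩
    refine ⟨φ ⟨g, hgN⟩ a, ?_, rfl⟩
    rw [SetLike.mem_coe, MonoidHom.mem_ker]
    show ∏ r : R, (r : MulAut B.A) (φ ⟨g, hgN⟩ a) = 1
    have hg2 : φ ⟨g, hgN⟩ * φ ⟨g, hgN⟩ = 1 := by
      rw [← map_mul, show (⟨g, hgN⟩ : N) * ⟨g, hgN⟩ = 1 from Subtype.ext hg, map_one]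
    let σ : R ≃ R := Equiv.ofBijective (fun r => ⟨_, hnorm r r.2⟩)
      (Finite.injective_iff_bijective.mp fun r s hrs =>
        Subtype.ext (mul_left_cancel (mul_right_cancel (congrArg Subtype.val hrs))))
    have h2 : ∏ r : R, (r : MulAut B.A) (φ ⟨g, hgN⟩ a) = φ ⟨g, hgN⟩ (∏ r : R, (r : MulAut B.A) a) := by
      rw [map_prod]
      refine Fintype.prod_equiv σ _ _ fun r => ?_
      show _ = φ ⟨g, hgN⟩ ((φ ⟨g, hgN⟩ * r * (φ ⟨g, hgN⟩)⁻¹) a)
      rw [inv_eq_of_mul_eq_one_left hg2]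
      show _ = φ ⟨g, hgN⟩ (φ ⟨g, hgN⟩ ((r : MulAut B.A) (φ ⟨g, hgN⟩ a)))
      exact ((congrArg (fun q : MulAut B.A => q ((r : MulAut B.A) (φ ⟨g, hgN⟩ a))) hg2).trans rfl).symm
    rw [h2, show ∏ r : R, (r : MulAut B.A) a = e a from rfl, MonoidHom.mem_ker.mp ha, map_one]
  by_cases hzU : z' ∈ U
  · have hzfU : z' * f ∉ U := fun h' => hfU (by
      have := mul_mem (inv_mem hzU) h'
      rwa [inv_mul_cancel_left] at this)
    have h2 : Nat.card ↥(U ⊓ Subgroup.centralizer ({g} : Set G)) ≤ 2 := by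
      refine (Nat.card_le_card_of_injective (fun a : ↥(U ⊓ Subgroup.centralizer ({g} : Set G)) =>
        decide ((a : G) = 1)) fun a c e' => Subtype.ext ?_).trans (by rw [Nat.card_eq_fintype_card, Fintype.card_bool])
      have e'' : ((a : G) = 1) ↔ ((c : G) = 1) := decide_eq_decide.mp e'
      have key : ∀ x ∈ U ⊓ Subgroup.centralizer ({g} : Set G), x = 1 ∨ x = z' := fun x hx => by
        obtain ⟨hxU, hxC⟩ := Subgroup.mem_inf.mp hx
        rcases hgC x (hUA hxU) (Subgroup.mem_centralizer_singleton_iff.mp hxC).symm with e | e | e | e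
        · exact .inl e
        · exact .inr e
        · exact absurd (e ▸ hxU) hfU
        · exact absurd (e ▸ hxU) hzfU
      rcases key a a.2 with ha | ha <;> rcases key c c.2 with hc | hc
      · rw [ha, hc]
      · rw [ha, e''.mp ha]
      · rw [hc, e''.mpr hc]
      · rw [ha, hc]
    have := B.card_le_sq hUA hg hgU h2
    omega
  · have := B.card_le_sq hUA hg hgU (hbound U hUA hzU (.inr hfU))
    omega

/-- Outside the fixed elements each coset contains an element of central type. -/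
theorem coset_zc (hF : B.Fused) {f : G} (hf : f ∈ B.A) (hf1 : f ≠ 1) (hz : ¬ B.ZC f) {D0 : Subgroup G}
    (h : B.Half f D0) (hA : ¬ B.CaseA f) {a : G} (ha : a ∈ B.A) (haF : a ∉ B.Fx f) :
    ∃ e ∈ B.Fx f, B.ZC (a * e) := by
  classical
  obtain ⟨-, z', -, -, -, hzA, hz', -, -⟩ := B.exists_outer hF hf hf1 hz
  have hzF : z' ∉ B.Fx f := fun h' => hA ⟨z', h', hz'⟩
  obtain ⟨n, hnN, hno, hnf, hnz⟩ : ∃ n ∈ Subgroup.normalizer (B.A : Set G), Odd (orderOf n) ∧ n * f = f * n ∧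
      n * z' ≠ z' * n := by
    by_contra hc
    push Not at hc
    exact hzF ⟨hzA, hc⟩
  have hFfix : ∀ x ∈ B.Fx f, n * x * n⁻¹ = x := fun x hx => mul_inv_eq_iff_eq_mul.mpr (hx.2 n hnN hno hnf)
  -- an element moved within its coset is fixed
  have hcoset : ∀ m : G, Odd (orderOf m) → (∀ x ∈ B.Fx f, m * x * m⁻¹ = x) → ∀ y ∈ B.A,
      y⁻¹ * (m * y * m⁻¹) ∈ B.Fx f → m * y = y * m := by
    intro m hm hfix y hy hc
    set c := y⁻¹ * (m * y * m⁻¹)
    refine Loc.comm_of_odd (e := c) hm (B.sq_A (B.Fx_le_A f hc)) (mul_inv_eq_iff_eq_mul.mp (hfix c hc)) ?_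
    rw [B.comm_A (B.Fx_le_A f hc) hy, mul_inv_cancel_left]
  set y1 := z'
  set y2 := n * z' * n⁻¹ with hy2
  have hy2A : y2 ∈ B.A := (Subgroup.mem_normalizer_iff.mp hnN z').mp hzA
  have h12 : y1⁻¹ * y2 ∉ B.Fx f := fun hc => hnz (hcoset n hno hFfix z' hzA hc)
  set y3 := n * y2 * n⁻¹ with hy3
  have hy3A : y3 ∈ B.A := (Subgroup.mem_normalizer_iff.mp hnN _).mp hy2A
  have hmove : ∀ x ∈ B.A, x ∉ B.Fx f → n * x * n⁻¹ ∉ B.Fx f := fun x _ hx hc => hx (by
    have h1 : n * x * n⁻¹ = x := by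
      have h2 := hFfix _ hc
      exact mul_left_cancel (mul_right_cancel h2)
    rwa [h1] at hc)
  have h23 : y2⁻¹ * y3 ∉ B.Fx f := by
    have := hmove _ (mul_mem (inv_mem hzA) hy2A) h12
    rwa [show n * (y1⁻¹ * y2) * n⁻¹ = y2⁻¹ * y3 by simp only [y1, y2, y3]; group] at this
  have h13 : y1⁻¹ * y3 ∉ B.Fx f := fun hc => hnz (by
    have hodd2 : Odd (orderOf (n * n)) := hno.of_dvd_nat (by rw [← pow_two]; exact orderOf_pow_dvd 2)
    have h1 := hcoset (n * n) hodd2 (fun x hx => by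
      rw [show n * n * x * (n * n)⁻¹ = n * (n * x * n⁻¹) * n⁻¹ by group, hFfix x hx, hFfix x hx]) z' hzA (by
      rw [show n * n * z' * (n * n)⁻¹ = y3 by rw [hy3, hy2]; group]; exact hc)
    obtain ⟨k, hk⟩ := hno
    have h2 : n = (n * n) ^ (k + 1) := by
      rw [← pow_two, ← pow_mul, show 2 * (k + 1) = 2 * k + 1 + 1 by ring, pow_succ, ← hk, pow_orderOf_eq_one, one_mul]
    rw [h2]
    exact ((show Commute (n * n) z' from h1).pow_left (k + 1)).eq)
  have hy2z : B.ZC y2 := hz'.conj n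
  have hy3z : B.ZC y3 := hy2z.conj n
  have hy2F : y2 ∉ B.Fx f := hmove _ hzA hzF
  have hy3F : y3 ∉ B.Fx f := hmove _ hy2A hy2F
  -- the four cosets
  let ys : Fin 4 → G := ![1, y1, y2, y3]
  have hys : ∀ i, ys i ∈ B.A := fun i => by fin_cases i; exacts [one_mem _, hzA, hy2A, hy3A]
  have hdist : ∀ i k, (ys i)⁻¹ * ys k ∈ B.Fx f → i = k := by
    intro i k hc
    have hsym : ∀ p q : G, p⁻¹ * q ∈ B.Fx f → q⁻¹ * p ∈ B.Fx f := fun p q h => by
      have := inv_mem h; rwa [mul_inv_rev, inv_inv] at this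
    fin_cases i <;> fin_cases k <;> simp only [ys] at hc <;> simp at hc ⊢
    all_goals first
      | exact hzF hc | exact hy2F hc | exact hy3F hc | exact h12 hc | exact h23 hc | exact h13 hc
      | exact h12 (hsym _ _ hc) | exact h23 (hsym _ _ hc) | exact h13 (hsym _ _ hc)
  let Ψ : Fin 4 × B.Fx f → B.A := fun p => ⟨ys p.1 * p.2, mul_mem (hys p.1) (B.Fx_le_A f p.2.2)⟩
  have hΨ : Function.Injective Ψ := fun p q e => by
    have e' : ys p.1 * p.2 = ys q.1 * q.2 := congrArg Subtype.val e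
    have h1 : p.1 = q.1 := hdist _ _ (by
      rw [show (ys p.1)⁻¹ * ys q.1 = (p.2 : G) * (q.2 : G)⁻¹ by
        rw [inv_mul_eq_iff_eq_mul, ← mul_assoc, e', mul_inv_cancel_right]]
      exact mul_mem p.2.2 (inv_mem q.2.2))
    rw [h1] at e'
    exact Prod.ext h1 (Subtype.ext (mul_left_cancel e'))
  have hsurj : Function.Surjective Ψ := (hΨ.bijective_of_nat_card_le (by
    rw [B.card_A, Nat.card_prod, B.card_Fx hF hf hf1 hz h hA, Nat.card_eq_fintype_card, Fintype.card_fin])).2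
  obtain ⟨⟨i, x⟩, hx⟩ := hsurj ⟨a, ha⟩
  have hx' : ys i * x = a := congrArg Subtype.val hx
  refine ⟨(x : G)⁻¹, inv_mem x.2, ?_⟩
  rw [← hx', mul_inv_cancel_right]
  fin_cases i
  · simp [ys] at hx'
    exact absurd (hx' ▸ x.2) haF
  · exact hz'
  · exact hy2z
  · exact hy3z

end Base

end CfsgLib.A8Sylow
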