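import Cfsg.Agent.Lib.A8Sylow.Points
import Cfsg.Agent.S1221
import Cfsg.Agent.Lib.ExtremelyClosed.Descent

/-!
The core of the centraliser of the central involution is trivial, in the fused case.

Blueprint: `blueprint/S2918.md`, step 3.
-/

set_option autoImplicit false
set_option maxRecDepth 100000
set_option linter.style.haveILetI false
set_option linter.unusedSectionVars false

open Cfsg

namespace CfsgLib.A8Sylow

open CfsgLib.L34Sylow (oddC oddC_le oddC_comm oddC_conj oddC_normal odd_oddC Wf oddC_le_Wf Wf_le Wf_spec le_oddC)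

universe u

/-- An element of odd order in the core modulo a central two-subgroup lies in the core. -/
theorem mem_core_of_quotient {K : Type u} [Group K] [Finite K] (Z : Subgroup K) [Z.Normal] (hZ : IsPGroup 2 Z)
    (hc : Z ≤ Subgroup.center K) {x : K} (hx : Odd (orderOf x)) (h : (x : K ⧸ Z) ∈ pPrimeCore 2 (K ⧸ Z)) :
    x ∈ pPrimeCore 2 K := by
  haveI : Fact (Nat.Prime 2) := ⟨Nat.prime_two⟩
  set π := QuotientGroup.mk' (pPrimeCore 2 K)
  have hπ : Function.Surjective π := QuotientGroup.mk'_surjective _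
  haveI hZn : (Z.map π).Normal := Subgroup.Normal.map inferInstance π hπ
  have hbot : pPrimeCore 2 ((K ⧸ pPrimeCore 2 K) ⧸ Z.map π) = ⊥ :=
    CfsgLib.ExtClosed.pPrimeCore_quotient_central _ (hZ.map π) (fun y hy => Subgroup.mem_center_iff.mpr fun g => by
      obtain ⟨y, hy, rfl⟩ := hy
      obtain ⟨g, rfl⟩ := hπ g
      rw [← map_mul, ← map_mul, Subgroup.mem_center_iff.mp (hc hy) g]) (CfsgLib.pPrimeCore_quotient_eq_bot 2)
  let F : K ⧸ Z →* (K ⧸ pPrimeCore 2 K) ⧸ Z.map π := QuotientGroup.lift Z ((QuotientGroup.mk' (Z.map π)).comp π)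
    fun y hy => (QuotientGroup.eq_one_iff _).mpr ⟨y, hy, rfl⟩
  have hF : Function.Surjective F := fun q => by
    obtain ⟨q, rfl⟩ := QuotientGroup.mk'_surjective _ q
    obtain ⟨g, rfl⟩ := hπ q
    exact ⟨(g : K ⧸ Z), rfl⟩
  haveI : ((pPrimeCore 2 (K ⧸ Z)).map F).Normal := Subgroup.Normal.map inferInstance F hF
  have hle := CfsgLib.le_pPrimeCore (N := (pPrimeCore 2 (K ⧸ Z)).map F)
    ((CfsgLib.card_pPrimeCore_coprime 2).coprime_dvd_left (Subgroup.card_map_dvd _ _)) (Subgroup.mem_map_of_mem F h)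
  rw [hbot, Subgroup.mem_bot] at hle
  obtain ⟨y, hy, hye⟩ := (QuotientGroup.eq_one_iff _).mp (show QuotientGroup.mk' (Z.map π) (π x) = 1 from hle)
  obtain ⟨i, hi⟩ := hZ ⟨y, hy⟩
  have h1 : (π x) ^ 2 ^ i = 1 := by
    rw [← hye, ← map_pow, show y ^ 2 ^ i = 1 from congrArg Subtype.val hi, map_one]
  exact (QuotientGroup.eq_one_iff x).mp (orderOf_eq_one_iff.mp (Nat.eq_one_of_dvd_coprimes
    ((Nat.coprime_two_left.mpr hx).pow_left i) (orderOf_dvd_of_pow_eq_one h1) (orderOf_map_dvd π x)))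

namespace Base

variable {G : Type u} [Group G] [Finite G] (B : Base G)

/-- A four-group is generated by two of its involutions. -/
theorem mem_cent_four {F : Subgroup G} (hF4 : Nat.card F = 4) (hFA : F ≤ B.A) {a c y : G} (ha : a ∈ F) (hc : c ∈ F)
    (ha1 : a ≠ 1) (hc1 : c ≠ 1) (hac : a ≠ c) (h1 : y * a = a * y) (h2 : y * c = c * y) :
    y ∈ Subgroup.centralizer (F : Set G) := by
  classical
  rw [Subgroup.mem_centralizer_iff]
  intro x hx
  have hac' : a * c ≠ 1 := fun e => hac (by rw [eq_inv_of_mul_eq_one_left e, inv_eq_of_mul_eq_one_right (B.sq_A (hFA hc))])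
  have ha2 : a * c ≠ a := fun e => hc1 (mul_eq_left.mp e)
  have hc2 : a * c ≠ c := fun e => ha1 (mul_eq_right.mp e)
  haveI := Fintype.ofFinite F
  let ψ : Fin 4 → F := ![1, ⟨a, ha⟩, ⟨c, hc⟩, ⟨a * c, mul_mem ha hc⟩]
  have hψ : Function.Bijective ψ := (Fintype.bijective_iff_injective_and_card ψ).mpr ⟨fun i k e => by
    have e' := congrArg (fun u : F => (u : G)) e
    fin_cases i <;> fin_cases k <;> simp [ψ] at e' ⊢ <;>
      first | exact ha1 e' | exact hc1 e' | exact hac' e' | exact hac e' | exact ha2 e' | exact hc2 e' |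
        exact ha1 e'.symm | exact hc1 e'.symm | exact hac' e'.symm | exact hac e'.symm | exact ha2 e'.symm |
        exact hc2 e'.symm, by
    rw [Fintype.card_fin, ← Nat.card_eq_fintype_card, hF4]⟩
  obtain ⟨i, hi⟩ := hψ.2 ⟨x, hx⟩
  rw [← show (ψ i : G) = x from congrArg Subtype.val hi]
  fin_cases i
  · simp [ψ]
  · exact h1.symm
  · exact h2.symm
  · show a * c * y = y * (a * c)
    rw [mul_assoc, ← h2, ← mul_assoc, ← h1, mul_assoc]

/-- The centraliser of an involution not of central type normalises the subgroup generated by the cores. -/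
theorem cent_le (hF : B.Fused) {k : Fin 3} (hk : B.Good k) {f : G} (hf : f ∈ B.A) (hf1 : f ≠ 1) :
    Subgroup.centralizer ({f} : Set G) ≤ Subgroup.normalizer (Wf (B.U k) : Set G) := by
  classical
  haveI : Fact (Nat.Prime 2) := ⟨Nat.prime_two⟩
  by_cases hzf : B.ZC f
  · obtain ⟨g, hg⟩ := hzf
    exact B.cent_conj_le hF hk hf hg
  obtain ⟨D0, h⟩ := B.exists_half hF hf hf1 hzf
  by_cases hA : B.CaseA f
  · exact B.le_caseA hF hk hf h hA
  set W := Wf (B.U k) with hW
  set M := Subgroup.normalizer (W : Set G) with hM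
  set F := B.Fx f with hFdef
  have hF4 : Nat.card F = 4 := B.card_Fx hF hf hf1 hzf h hA
  have hFA : F ≤ B.A := B.Fx_le_A f
  have hfF : f ∈ F := B.self_mem_Fx hf
  have hnz : ∀ v ∈ F, ¬ B.ZC v := fun v hv hz => hA ⟨v, hv, hz⟩
  -- an element of the fixed four-group with fixed element of central type would be enough
  by_cases hsome : ∃ v ∈ F, v ≠ 1 ∧ B.CaseA v
  · obtain ⟨v, hv, hv1, hvA⟩ := hsome
    obtain ⟨Dv, hDv⟩ := B.exists_half hF (hFA hv) hv1 (hnz v hv)
    refine h.gen _ (fun x hx => ?_) (B.normalizer_le hk)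
    obtain ⟨o, ho, y, -, hyv, rfl⟩ := h.decomp hv hv1 hx
    exact mul_mem (Subgroup.le_normalizer (B.core_le_A hk hf ho))
      (B.le_caseA hF hk (hFA hv) hDv hvA (Subgroup.mem_centralizer_singleton_iff.mpr hyv))
  push Not at hsome
  have hD : ∀ v ∈ F, v ≠ 1 → ∃ Dv, B.Half v Dv ∧ B.Fx v = F := fun v hv hv1 => by
    obtain ⟨Dv, hDv⟩ := B.exists_half hF (hFA hv) hv1 (hnz v hv)
    refine ⟨Dv, hDv, Subgroup.eq_of_le_of_card_ge (fun a ha => ⟨ha.1, fun n hn ho hnf =>
      ha.2 n hn ho (hv.2 n hn ho hnf)⟩) ?_⟩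
    rw [hF4, B.card_Fx hF (hFA hv) hv1 (hnz v hv) hDv (hsome v hv hv1)]
  set CF := Subgroup.centralizer (F : Set G) with hCF
  have hAC : B.A ≤ CF := fun a ha => Subgroup.mem_centralizer_iff.mpr fun x hx => B.comm_A (hFA hx) ha
  have hCv : ∀ v ∈ F, CF ≤ Subgroup.centralizer ({v} : Set G) := fun v hv x hx =>
    Subgroup.mem_centralizer_singleton_iff.mpr (Subgroup.mem_centralizer_iff.mp hx v hv).symm
  -- the common part of the normal subgroups
  have hsame : ∀ v ∈ F, ∀ Dv, B.Half v Dv → ∀ w ∈ F, ∀ Dw, B.Half w Dw → CF ⊓ Dv ≤ Dw := by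
    intro v hv Dv hDv w hw Dw hDw x hx
    set Kv := CF ⊓ Dv
    obtain ⟨u, hu, o, ho, ⟨m, hm⟩, hodd, e⟩ := CfsgLib.U34Char.exists_parts x
    have huK : u ∈ Kv := Subgroup.zpowers_le.mpr hx hu
    have hoK : o ∈ Kv := Subgroup.zpowers_le.mpr hx ho
    have hoD : o ∈ Dw := hDw.odd o (hCv w hw hoK.1) hodd
    obtain ⟨T, hT⟩ := (B.isPGroup_A.comap_of_injective Kv.subtype Kv.subtype_injective).exists_le_sylow
    have hu2 : IsPGroup 2 (Subgroup.zpowers (⟨u, huK⟩ : Kv)) :=
      IsPGroup.of_card (n := m) (by rw [Nat.card_zpowers, Subgroup.orderOf_mk, hm])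
    obtain ⟨T', hT'⟩ := hu2.exists_le_sylow
    obtain ⟨d, hd⟩ := MulAction.exists_smul_eq Kv T' T
    have h1 : d * ⟨u, huK⟩ * d⁻¹ ∈ (T : Subgroup Kv) := by
      rw [← hd]
      exact Subgroup.smul_mem_pointwise_smul _ (MulAut.conj d) _ (hT' (Subgroup.mem_zpowers _))
    have h2 := hDv.two _ (T.isPGroup'.map _) (fun a ha => ⟨⟨a, Subgroup.mem_inf.mpr ⟨hAC ha, hDv.A_le ha⟩⟩, hT ha, rfl⟩)
      ((Subgroup.map_subtype_le _).trans inf_le_right) ⟨_, h1, rfl⟩
    have h3 := hDw.normal (d : G)⁻¹ (inv_mem (hCv w hw d.2.1)) _ (hDw.A_le h2)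
    simp [mul_assoc] at h3
    rw [e]
    exact mul_mem h3 hoD
  set K := CF ⊓ D0 with hK
  have hAK : B.A ≤ K := le_inf hAC h.A_le
  -- the fixed four-group, central in `K`
  set Z := F.subgroupOf K
  have hZc : Z ≤ Subgroup.center K := fun x hx => Subgroup.mem_center_iff.mpr fun y => Subtype.ext
    (Subgroup.mem_centralizer_iff.mp y.2.1 (x : G) hx).symm
  haveI : Z.Normal := ⟨fun x hx y => by rw [Subgroup.mem_center_iff.mp (hZc hx) y, mul_inv_cancel_right]; exact hx⟩
  have hZ : IsPGroup 2 Z := (B.isPGroup_A.to_le hFA).comap_of_injective K.subtype K.subtype_injective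
  have hKM : K ≤ M := by
    by_contra hKM
    set π := QuotientGroup.mk' Z
    have hπ : Function.Surjective π := QuotientGroup.mk'_surjective _
    set Mb := (M.subgroupOf K).map π
    have hback : ∀ {P : Subgroup G}, F ≤ P → ∀ {x : K}, π x ∈ (P.subgroupOf K).map π → (x : G) ∈ P := by
      intro P hP x hx
      obtain ⟨y, hy, hye⟩ := hx
      have h1 : y⁻¹ * x ∈ Z := QuotientGroup.eq.mp hye
      have h2 := mul_mem (Subgroup.mem_subgroupOf.mp hy) (hP (Subgroup.mem_subgroupOf.mp h1))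
      simpa using h2
    have hFM : F ≤ M := hFA.trans (Subgroup.le_normalizer.trans (B.normalizer_le hk))
    have hMb : Mb ≠ ⊤ := fun e => hKM fun x hx => hback hFM (x := ⟨x, hx⟩) (by rw [show (M.subgroupOf K).map π = ⊤ from e]; exact Subgroup.mem_top _)
    obtain ⟨T, hT⟩ := (B.isPGroup_A.comap_of_injective K.subtype K.subtype_injective).exists_le_sylow
    have hTA : ∀ t : K, t ∈ (T : Subgroup K) ↔ (t : G) ∈ B.A := fun t => ⟨fun ht =>
      h.two _ (T.isPGroup'.map _) (fun a ha => ⟨⟨a, hAK ha⟩, hT ha, rfl⟩)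
        ((Subgroup.map_subtype_le _).trans inf_le_right) ⟨t, ht, rfl⟩, fun ht => hT ht⟩
    set Tb := T.mapSurjective hπ
    have hTb : ∀ x : K, π x ∈ (Tb : Subgroup (K ⧸ Z)) → (x : G) ∈ B.A := by
      intro x hx
      rw [Sylow.coe_mapSurjective] at hx
      obtain ⟨y, hy, hye⟩ := hx
      have h1 : y⁻¹ * x ∈ Z := QuotientGroup.eq.mp hye
      have h2 := mul_mem ((hTA y).mp hy) (hFA (Subgroup.mem_subgroupOf.mp h1))
      simpa using h2
    have hTne : (Tb : Subgroup (K ⧸ Z)) ≠ ⊥ := fun e => by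
      have : Nat.card B.A ≤ Nat.card F := Nat.le_of_dvd Nat.card_pos (Subgroup.card_dvd_of_le fun a ha => by
        have h1 : π ⟨a, hAK ha⟩ ∈ (Tb : Subgroup (K ⧸ Z)) := by
          rw [Sylow.coe_mapSurjective]; exact ⟨_, hT ha, rfl⟩
        rw [e, Subgroup.mem_bot] at h1
        have h2 := (QuotientGroup.eq_one_iff (⟨a, hAK ha⟩ : K)).mp h1
        exact h2)
      rw [B.card_A, hF4] at this; omega
    have hse : IsStronglyEmbedded Mb := by
      refine CfsgLib.L34Sylow.isStronglyEmbedded_of Tb hMb hTne (fun q hq => ?_) fun q hq hq2 r hr => ?_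
      · obtain ⟨x, rfl⟩ := hπ q
        exact ⟨x, Subgroup.le_normalizer.trans (B.normalizer_le hk) (hTb x hq), rfl⟩
      · obtain ⟨u, rfl⟩ := hπ q
        obtain ⟨x, rfl⟩ := hπ r
        rw [← map_inv, ← map_mul, ← map_mul] at hr
        have huA := hTb u hq
        have huF : (u : G) ∉ F := fun hu => by
          rw [show π u = 1 from (QuotientGroup.eq_one_iff _).mpr hu, orderOf_one] at hq2
          omega
        have hxA : (x : G) * u * (x : G)⁻¹ ∈ B.A := hTb _ hr
        obtain ⟨n, hn, hnK, hne⟩ := B.control hAK x.2 huA hxA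
        refine ⟨x, ?_, rfl⟩
        obtain ⟨c, hc, hcz⟩ := B.coset_zc hF hf hf1 hzf h hA huA huF
        obtain ⟨g, hg⟩ := hcz
        have hy : (n⁻¹ * (x : G)) ∈ Subgroup.centralizer ({(u : G) * c} : Set G) := by
          rw [Subgroup.mem_centralizer_singleton_iff]
          have h1 : n⁻¹ * (x : G) * u = u * (n⁻¹ * x) := by
            calc n⁻¹ * (x : G) * u = n⁻¹ * ((x : G) * u * (x : G)⁻¹) * x := by group
              _ = u * (n⁻¹ * x) := by rw [← hne]; group
          have h2 : c * (n⁻¹ * (x : G)) = n⁻¹ * x * c :=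
            Subgroup.mem_centralizer_iff.mp (mul_mem (inv_mem hnK) x.2).1 c hc
          rw [← mul_assoc, h1, mul_assoc, ← h2, ← mul_assoc]
        have h3 := B.cent_conj_le hF hk (mul_mem huA (hFA hc)) hg hy
        have := mul_mem (B.normalizer_le hk hn) h3
        rwa [mul_inv_cancel_left] at this
    -- the odd part lies in the core
    set WK := ((W ⊓ K).subgroupOf K).map π
    have hWM : W ≤ M := Subgroup.le_normalizer
    have hWKodd : Odd (Nat.card WK) := by
      refine (B.odd_W hk).of_dvd_nat ((Subgroup.card_map_dvd _ _).trans ?_)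
      rw [Nat.card_congr (Subgroup.subgroupOfEquivOfLe inf_le_right).toEquiv]
      exact Subgroup.card_dvd_of_le inf_le_left
    have hWKle : WK ≤ Mb := by
      rintro _ ⟨x, hx, rfl⟩
      exact ⟨x, hWM hx.1, rfl⟩
    haveI : (WK.subgroupOf Mb).Normal := ⟨fun q hq r => by
      obtain ⟨x, hx, hxe⟩ := hq
      obtain ⟨y, hy, hye⟩ := r.2
      refine ⟨y * x * y⁻¹, Subgroup.mem_inf.mpr ⟨(Subgroup.mem_normalizer_iff.mp hy _).mp hx.1, ?_⟩, ?_⟩
      · exact mul_mem (mul_mem y.2 x.2) (inv_mem y.2)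
      · rw [map_mul, map_mul, map_inv, hxe, hye]; rfl⟩
    have h1 : WK.subgroupOf Mb ≤ oddCore Mb :=
      CfsgLib.le_oddCore (by rwa [Nat.card_congr (Subgroup.subgroupOfEquivOfLe hWKle).toEquiv])
    have h2 := Cfsg.Agent.S1221.result Mb hse
    have hWO : ∀ x ∈ W, ∀ hx : x ∈ K, (⟨x, hx⟩ : K) ∈ pPrimeCore 2 K := fun x hxW hxK => by
      refine mem_core_of_quotient Z hZ hZc ?_ ?_
      · rw [Subgroup.orderOf_mk]
        exact (B.odd_W hk).of_dvd_nat (Subgroup.orderOf_dvd_natCard _ hxW)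
      · have h3 : π ⟨x, hxK⟩ ∈ WK := ⟨_, Subgroup.mem_inf.mpr ⟨hxW, hxK⟩, rfl⟩
        exact h2 ⟨⟨_, hWKle h3⟩, h1 h3, rfl⟩
    set R := (pPrimeCore 2 K).map K.subtype
    have hR : Odd (Nat.card R) := by
      rw [Subgroup.card_map_of_injective K.subtype_injective]
      exact Nat.coprime_two_right.mp (CfsgLib.card_pPrimeCore_coprime 2)
    -- which is contained in the cores along the four-group
    have hRv : ∀ v ∈ F, v ≠ 1 → R ≤ oddC v := fun v hv hv1 => by
      obtain ⟨Dv, hDv, hFv⟩ := hD v hv hv1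
      have hRC : R ≤ CF := (Subgroup.map_subtype_le _).trans inf_le_left
      have hRD : R ≤ Dv := fun r hr =>
        hDv.odd r (hCv v hv (hRC hr)) (hR.of_dvd_nat (Subgroup.orderOf_dvd_natCard _ hr))
      obtain ⟨w, hw, hw1, hwv⟩ : ∃ w ∈ F, w ≠ 1 ∧ w ≠ v := by
        by_cases hvf : v = f
        · by_contra hc
          push Not at hc
          have : Nat.card F ≤ 2 := (Nat.card_le_card_of_injective (fun a : F => decide ((a : G) = 1))
            fun a c e => Subtype.ext (by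
              have e' : ((a : G) = 1) ↔ ((c : G) = 1) := decide_eq_decide.mp e
              by_cases ha : (a : G) = 1
              · rw [ha, e'.mp ha]
              · rw [hc a a.2 ha, hc c c.2 fun e'' => ha (e'.mpr e'')])).trans
            (by rw [Nat.card_eq_fintype_card, Fintype.card_bool])
          omega
        · exact ⟨f, hfF, hf1, fun e => hvf e.symm⟩
      set π' := QuotientGroup.mk' (pPrimeCore 2 Dv)
      have hcore : ∀ r ∈ oddC v, ∀ hr : r ∈ Dv, π' ⟨r, hr⟩ = 1 := fun r hr hrD => by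
        haveI : ((oddC v).subgroupOf Dv).Normal := ⟨fun y hy d => oddC_normal (hDv.le d.2) hy⟩
        refine (QuotientGroup.eq_one_iff _).mpr ((CfsgLib.le_pPrimeCore (N := (oddC v).subgroupOf Dv) ?_) hr)
        rw [Nat.card_congr (Subgroup.subgroupOfEquivOfLe hDv.oddC_le).toEquiv]
        exact Nat.coprime_two_right.mpr (odd_oddC v)
      haveI : ((R.subgroupOf Dv).map π').Normal := ⟨fun q hq p => by
        obtain ⟨r, hr, rfl⟩ := hq
        obtain ⟨⟨d, hd⟩, rfl⟩ := QuotientGroup.mk'_surjective _ p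
        obtain ⟨o, ho, y, hyD, hyw, hdoy⟩ := hDv.decomp (hFv.symm ▸ hw : w ∈ B.Fx v) hw1 hd
        subst hdoy
        have hyC : y ∈ CF := B.mem_cent_four hF4 hFA hv hw hv1 hw1 (Ne.symm hwv)
          (Subgroup.mem_centralizer_singleton_iff.mp (hDv.le hyD)) hyw
        have hyK : y ∈ K := Subgroup.mem_inf.mpr ⟨hyC, hsame v hv Dv hDv f hfF D0 h ⟨hyC, hyD⟩⟩
        obtain ⟨r', hr', hre⟩ := (Subgroup.mem_subgroupOf.mp hr : (r : G) ∈ R)
        refine ⟨⟨y, hyD⟩ * r * ⟨y, hyD⟩⁻¹, ⟨⟨y, hyK⟩ * r' * ⟨y, hyK⟩⁻¹,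
          (inferInstance : (pPrimeCore 2 K).Normal).conj_mem r' hr' _, by
            show y * (r' : G) * y⁻¹ = y * r * y⁻¹
            rw [show (r' : G) = r from hre]⟩, ?_⟩
        rw [show (⟨o * y, hd⟩ : Dv) = ⟨o, hDv.oddC_le ho⟩ * ⟨y, hyD⟩ from rfl]
        simp only [map_mul, map_inv, mul_inv_rev]
        rw [show QuotientGroup.mk' (pPrimeCore 2 Dv) (⟨o, hDv.oddC_le ho⟩ : Dv) = 1 from hcore o ho _]
        simp only [π', inv_one, one_mul, mul_one, mul_assoc]⟩
      have hbot := CfsgLib.pPrimeCore_quotient_eq_bot (G := Dv) 2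
      intro r hr
      have hle := CfsgLib.le_pPrimeCore (N := (R.subgroupOf Dv).map π') ((Nat.coprime_two_right.mpr (by
        rwa [Nat.card_congr (Subgroup.subgroupOfEquivOfLe hRD).toEquiv] : Odd (Nat.card (R.subgroupOf Dv)))).coprime_dvd_left
          (Subgroup.card_map_dvd _ _)) (⟨⟨r, hRD hr⟩, hr, rfl⟩ : π' ⟨r, hRD hr⟩ ∈ (R.subgroupOf Dv).map π')
      rw [hbot, Subgroup.mem_bot] at hle
      exact hDv.core_le ⟨_, (QuotientGroup.eq_one_iff _).mp hle, rfl⟩
    have hWv : ∀ v ∈ F, v ≠ 1 → W ⊓ Subgroup.centralizer ({v} : Set G) ≤ oddC v := fun v hv hv1 x hx => by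
      obtain ⟨Dv, hDv, hFv⟩ := hD v hv hv1
      obtain ⟨hxW, hxC⟩ := Subgroup.mem_inf.mp hx
      have hxD : x ∈ Dv := hDv.odd x hxC ((B.odd_W hk).of_dvd_nat (Subgroup.orderOf_dvd_natCard _ hxW))
      obtain ⟨w, hw, hw1, hwv⟩ : ∃ w ∈ F, w ≠ 1 ∧ w ≠ v := by
        by_contra hc
        push Not at hc
        have : Nat.card F ≤ 2 := (Nat.card_le_card_of_injective (fun a : F => decide ((a : G) = 1))
          fun a c e => Subtype.ext (by
            have e' : ((a : G) = 1) ↔ ((c : G) = 1) := decide_eq_decide.mp e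
            by_cases ha : (a : G) = 1
            · rw [ha, e'.mp ha]
            · rw [hc a a.2 ha, hc c c.2 fun e'' => ha (e'.mpr e'')])).trans
          (by rw [Nat.card_eq_fintype_card, Fintype.card_bool])
        omega
      obtain ⟨o, ho, y, hyD, hyw, rfl⟩ := hDv.decomp (hFv.symm ▸ hw : w ∈ B.Fx v) hw1 hxD
      have hyW : y ∈ W := by
        have := mul_mem (inv_mem (B.core_le_A hk (hFA hv) ho : o ∈ W)) hxW
        rwa [inv_mul_cancel_left] at this
      have hyC : y ∈ CF := B.mem_cent_four hF4 hFA hv hw hv1 hw1 (Ne.symm hwv)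
        (Subgroup.mem_centralizer_singleton_iff.mp (hDv.le hyD)) hyw
      have hyK : y ∈ K := Subgroup.mem_inf.mpr ⟨hyC, hsame v hv Dv hDv f hfF D0 h ⟨hyC, hyD⟩⟩
      exact mul_mem ho (hRv v hv hv1 ⟨⟨y, hyK⟩, hWO y hyW hyK, rfl⟩)
    haveI : IsMulCommutative F := ⟨⟨fun a c => Subtype.ext (B.comm_A (hFA a.2) (hFA c.2))⟩⟩
    have hWF : W = Wf F := by
      refine le_antisymm ?_ (Wf_le fun v hv _ => B.core_le_A hk (hFA hv))
      have hcop : (Nat.card F).Coprime (Nat.card W) := by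
        rw [hF4, show 4 = 2 ^ 2 by norm_num]
        exact (Nat.coprime_two_left.mpr (B.odd_W hk)).pow_left 2
      rw [← coprime_generated_by_centralizers (not_cyclic_of_four hF4 fun a ha => B.sq_A (hFA ha)) hFM hcop]
      exact iSup₂_le fun v hv => (hWv v hv.1 hv.2).trans (oddC_le_Wf hv.1 hv.2)
    refine hKM fun x hx => CfsgLib.L34Sylow.mem_normalizer_of_forall fun r hr => ?_
    have hle : Wf F ≤ (Wf F).comap (MulAut.conj x).toMonoidHom := Wf_le fun v hv hv1 r hr =>
      oddC_le_Wf hv hv1 (oddC_normal (hCv v hv hx.1) hr)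
    rw [hWF] at hr ⊢
    exact hle hr
  obtain ⟨v, hv, hv1, hvf⟩ : ∃ v ∈ F, v ≠ 1 ∧ v ≠ f := by
    by_contra hc
    push Not at hc
    have : Nat.card F ≤ 2 := (Nat.card_le_card_of_injective (fun a : F => decide ((a : G) = 1))
      fun a c e => Subtype.ext (by
        have e' : ((a : G) = 1) ↔ ((c : G) = 1) := decide_eq_decide.mp e
        by_cases ha : (a : G) = 1
        · rw [ha, e'.mp ha]
        · rw [hc a a.2 ha, hc c c.2 fun e'' => ha (e'.mpr e'')])).trans
      (by rw [Nat.card_eq_fintype_card, Fintype.card_bool])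
    omega
  refine h.gen _ (fun x hx => ?_) (B.normalizer_le hk)
  obtain ⟨o, ho, y, hyD, hyv, rfl⟩ := h.decomp hv hv1 hx
  exact mul_mem (Subgroup.le_normalizer (B.core_le_A hk hf ho)) (hKM (Subgroup.mem_inf.mpr
    ⟨B.mem_cent_four hF4 hFA hfF hv hf1 hv1 hvf.symm (Subgroup.mem_centralizer_singleton_iff.mp (h.le hyD)) hyv, hyD⟩))

/-- **The core of the centraliser of the central involution is trivial.** -/
theorem core_z_eq_bot (hF : B.Fused) : oddC B.z = ⊥ := by
  haveI : Fact (Nat.Prime 2) := ⟨Nat.prime_two⟩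
  obtain ⟨k, hk⟩ := B.exists_good hF
  set W' := Wf (B.U k)
  set M := Subgroup.normalizer (W' : Set G) with hM
  have hbot : W' ≤ ⊥ := by
    by_cases hMt : M = ⊤
    · haveI : W'.Normal := Subgroup.normalizer_eq_top_iff.mp hMt
      exact B.hO ▸ CfsgLib.le_oddCore (B.odd_W hk)
    have hCz := B.cent_z_le hF hk
    have hNA := B.normalizer_le hk
    have hSM : (B.S : Subgroup G) ≤ M := B.S_le_cent.trans hCz
    have hS1 : (B.S : Subgroup G) ≠ ⊥ := fun e => B.z_ne (by
      have := B.mem_S W.zz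
      rwa [e, Subgroup.mem_bot] at this)
    have hse := CfsgLib.L34Sylow.isStronglyEmbedded_of B.S hMt hS1 hSM fun t ht ht2 g hg => by
      obtain ⟨w, rfl⟩ := B.exists_eq ht
      obtain ⟨w', hw'⟩ := B.exists_eq hg
      have hw2 : w * w = 1 := B.inj (by
        rw [map_mul, map_one]; exact Involutions.mul_self_eq_one_of_orderOf ht2)
      have hw1 : w ≠ 1 := fun e => by rw [e, map_one, orderOf_one] at ht2; omega
      obtain ⟨m, hm, hr⟩ := B.exists_rep hF hCz hNA hw2 hw1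
      obtain ⟨m', hm', hr'⟩ := B.exists_rep hF hCz hNA (B.sq_of_conj hw2 hw'.symm) (B.ne_one_of_conj hw1 hw'.symm)
      have hrr : m' * g * m⁻¹ * (m * B.ι w * m⁻¹) * (m' * g * m⁻¹)⁻¹ = m' * B.ι w' * m'⁻¹ := by rw [hw']; group
      obtain ⟨n, hn, -, hne⟩ := B.control (H := ⊤) le_top (g := m' * g * m⁻¹) (Subgroup.mem_top _) hr.mem_A
        (by rw [hrr]; exact hr'.mem_A)
      rw [hrr] at hne
      have hr1 : m * B.ι w * m⁻¹ ≠ 1 := fun e => hw1 (B.ι_eq_one.mp (conj_eq_one_iff.mp e))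
      have hc : n⁻¹ * (m' * g * m⁻¹) ∈ M := B.cent_le hF hk hr.mem_A hr1 (by
        rw [Subgroup.mem_centralizer_singleton_iff]
        calc n⁻¹ * (m' * g * m⁻¹) * (m * B.ι w * m⁻¹) =
            n⁻¹ * (m' * g * m⁻¹ * (m * B.ι w * m⁻¹) * (m' * g * m⁻¹)⁻¹) * (m' * g * m⁻¹) := by group
          _ = m * B.ι w * m⁻¹ * (n⁻¹ * (m' * g * m⁻¹)) := by rw [hrr, ← hne]; group)
      have h1 := mul_mem (mul_mem (inv_mem hm') (mul_mem (hNA hn) hc)) hm
      simpa [mul_assoc] using h1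
    haveI : (W'.subgroupOf M).Normal := Subgroup.normal_in_normalizer
    have h1 : W'.subgroupOf M ≤ oddCore M := CfsgLib.le_oddCore (by
      rw [Nat.card_congr (Subgroup.subgroupOfEquivOfLe Subgroup.le_normalizer).toEquiv]
      exact B.odd_W hk)
    have h2 := Cfsg.Agent.S1221.result M hse
    rw [B.hO] at h2
    exact fun x hx => h2 ⟨⟨x, Subgroup.le_normalizer hx⟩, h1 hx, rfl⟩
  exact le_bot_iff.mp (B.core_z_le.trans hbot)

end Base

end CfsgLib.A8Sylow
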