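import Cfsg.Agent.Lib.A8Sylow.Model

/-!
Finite facts about the model.

Blueprint: `blueprint/S2918.md`.
-/

set_option autoImplicit false
set_option maxRecDepth 100000

namespace CfsgLib.A8Sylow

namespace W

/-- The involutions in the matrices fixed by one operation. -/
def pp : Fin 3 → W := ![p1, p2, p3]

/-- The operations: `gg j` fixes `pp j`. -/
def gg : Fin 3 → W := ![g1, g2, g3]

/-- Outer involution. -/
def outer (x : W) : Bool := decide (x * x = 1) && !inA x

/-- The number of elements commuting with a given one. -/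
def cw (x : W) : ℕ := (Finset.univ.filter fun y => y * x = x * y).card

theorem zz_comm : ∀ x : W, x * zz = zz * x := by decide +kernel

theorem center_eq : ∀ x : W, (∀ y, x * y = y * x) → x = 1 ∨ x = zz := by decide +kernel

theorem zz_facts : zz * zz = 1 ∧ zz ≠ 1 ∧ inA zz ∧ inP zz ∧ inR zz := by decide +kernel

theorem inA_facts : inA 1 ∧ (∀ x y : W, inA x → inA y → inA (x * y)) ∧ (∀ x : W, inA x → x * x = 1) ∧
    (∀ x y : W, inA x → inA (y * x * y⁻¹)) := by decide +kernel

theorem inA_comm : ∀ x y : W, inA x → inA y → x * y = y * x := by decide +kernel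

theorem inR_facts : inR 1 ∧ (∀ x y : W, inR x → inR y → inR (x * y)) ∧
    (∀ x y : W, inR x → inR (y * x * y⁻¹)) ∧ (∀ x : W, inP x = (inA x && inR x)) := by decide +kernel

theorem card_parts : (Finset.univ.filter fun x => inA x = true).card = 16 ∧
    (Finset.univ.filter fun x => inR x = true).card = 32 ∧ (Finset.univ.filter fun x => inP x = true).card = 8 := by
  decide +kernel

/-- No other elementary abelian subgroup of order sixteen. -/
theorem few_outer : ∀ x : W, outer x →
    (Finset.univ.filter fun y => y * y = 1 ∧ y * x = x * y).card < 16 := by decide +kernel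

theorem cw_zz : cw zz = 64 := by decide +kernel

theorem cw_pp : ∀ x : W, inP x → x ≠ 1 → x ≠ zz → cw x = 32 := by decide +kernel

theorem cw_mid : ∀ x : W, inA x → inP x = false → cw x = 16 ∧ ∀ y, y * x = x * y → inA y := by decide +kernel

theorem cw_outer : ∀ x : W, outer x → cw x = 16 ∧ inR x ∧
    ∃ u v : W, u * x = x * u ∧ v * x = x * v ∧ u * v * u⁻¹ * v⁻¹ = zz := by decide +kernel

theorem comm_inP : ∀ u v : W, inP (u * v * u⁻¹ * v⁻¹) := by decide +kernel

theorem outer_conj : ∀ x : W, outer x → ∃ j : Fin 3, ∃ c : W, c * gg j * c⁻¹ = x := by decide +kernel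

theorem P_cases : ∀ x : W, inP x → x = 1 ∨ x = zz ∨ ∃ j : Fin 3, ∃ c : W, c * pp j * c⁻¹ = x := by decide +kernel

theorem pp_facts : ∀ j : Fin 3, inP (pp j) ∧ pp j ≠ 1 ∧ pp j ≠ zz ∧ outer (gg j) ∧ gg j * pp j = pp j * gg j ∧
    (∃ c : W, c * pp j * c⁻¹ = pp j * zz) := by decide +kernel

theorem cent_pp : ∀ j : Fin 3, ∀ y : W, y * pp j = pp j * y → inA y ∨ inA (y * gg j) := by decide +kernel

theorem gg_index : ∀ j k : Fin 3, inA (gg j * gg k) → j = k := by decide +kernel

end W

end CfsgLib.A8Sylow
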