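import Cfsg.Agent.Lib.A8Sylow.Setup
import Cfsg.Agent.Lib.TransferExtremal

/-!
The dichotomy for the involutions outside the subgroup of order sixteen.

Blueprint: `blueprint/S2918.md`, steps 1 and 2.
-/

set_option autoImplicit false
set_option maxRecDepth 100000
set_option linter.unusedSectionVars false

namespace CfsgLib.A8Sylow

open Cfsg

universe u

namespace W

theorem inQ_outer : ∀ i : Fin 3, ∀ x : W, inQ i x → outer x → ∃ c : W, c * gg i * c⁻¹ = x := by decide +kernel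

theorem gg_notQ : ∀ i j : Fin 3, i ≠ j → inQ i (gg j) = false := by decide +kernel

theorem gg_sq : ∀ j : Fin 3, gg j * gg j = 1 ∧ gg j ≠ 1 ∧ gg j ≠ zz := by decide +kernel

theorem mid_notR : ∀ x : W, inA x → inP x = false → inR x = false := by decide +kernel

theorem exists_ne : ∀ j : Fin 3, ∃ i : Fin 3, i ≠ j := by decide

end W

namespace Base

variable {G : Type u} [Group G] [Finite G] (B : Base G)

/-- The image of a subgroup of index two has index two in the Sylow subgroup. -/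
theorem relIndex_map {Q : Subgroup W} (hQ : Nat.card Q = 32) :
    (Q.map B.ι).relIndex (B.S : Subgroup G) = 2 := by
  rw [← B.range_eq, MonoidHom.range_eq_map, Subgroup.relIndex_map_map_of_injective _ _ B.inj,
    Subgroup.relIndex_top_right]
  have := Q.card_mul_index
  rw [hQ, W.card] at this
  omega

/-- The transfer step. -/
theorem transfer_step (Q : Subgroup W) (hQ : Nat.card Q = 32) (x : W) (hx : x * x = 1) :
    ∃ h : G, ∃ y : W, y ∈ Q ∧ h * B.ι x * h⁻¹ = B.ι y := by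
  obtain ⟨h, hh, -⟩ := CfsgLib.TransferExtremal.exists_conj B.noIdx B.S (Q.map B.ι)
    (B.range_eq ▸ MonoidHom.range_eq_map B.ι ▸ Subgroup.map_mono le_top) (B.relIndex_map hQ) (B.ι x)
    (by rw [pow_two, ← map_mul, hx, map_one])
  obtain ⟨y, hy, e⟩ := hh
  exact ⟨h, y, hy, e.symm⟩

/-- Some involution outside the subgroup of order sixteen is fused into it. -/
def Fused : Prop := ∃ (j : Fin 3) (h : G), h * B.ι (W.gg j) * h⁻¹ ∈ B.A

theorem sq_of_conj {x y : W} {h : G} (hx : x * x = 1) (e : h * B.ι x * h⁻¹ = B.ι y) : y * y = 1 := B.inj (by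
  rw [map_mul, map_one, ← e]
  calc h * B.ι x * h⁻¹ * (h * B.ι x * h⁻¹) = h * (B.ι x * B.ι x) * h⁻¹ := by group
    _ = 1 := by rw [← map_mul, hx, map_one]; group)

theorem ne_one_of_conj {x y : W} {h : G} (hx : x ≠ 1) (e : h * B.ι x * h⁻¹ = B.ι y) : y ≠ 1 := fun h1 => by
  rw [h1, map_one, conj_eq_one_iff] at e
  exact hx (B.ι_eq_one.mp e)

theorem fuse_step {i j : Fin 3} (hij : i ≠ j) :
    (∃ h : G, h * B.ι (W.gg j) * h⁻¹ ∈ B.A) ∨ ∃ h : G, h * B.ι (W.gg j) * h⁻¹ = B.ι (W.gg i) := by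
  obtain ⟨h, y, hy, e⟩ := B.transfer_step (W.Qsub i) (W.card_Qsub i) (W.gg j) (W.gg_sq j).1
  by_cases hA : W.inA y
  · exact .inl ⟨h, e ▸ B.mem_A_iff.mpr hA⟩
  · have ho : W.outer y := by
      simp [W.outer, B.sq_of_conj (W.gg_sq j).1 e, Bool.eq_false_iff.mpr hA]
    obtain ⟨c, hc⟩ := W.inQ_outer i y hy ho
    refine .inr ⟨(B.ι c)⁻¹ * h, ?_⟩
    calc (B.ι c)⁻¹ * h * B.ι (W.gg j) * ((B.ι c)⁻¹ * h)⁻¹ = (B.ι c)⁻¹ * (h * B.ι (W.gg j) * h⁻¹) * B.ι c := by group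
      _ = B.ι (W.gg i) := by rw [e, ← hc, map_mul, map_mul, map_inv]; group

/-- All of the operations are fused or none. -/
theorem fused_all (hF : B.Fused) (j : Fin 3) : ∃ h : G, h * B.ι (W.gg j) * h⁻¹ ∈ B.A := by
  obtain ⟨i, k, hk⟩ := hF
  rcases eq_or_ne i j with rfl | hij
  · exact ⟨k, hk⟩
  rcases B.fuse_step hij with h | ⟨h, hh⟩
  · exact h
  · refine ⟨k * h, ?_⟩
    rw [show k * h * B.ι (W.gg j) * (k * h)⁻¹ = k * (h * B.ι (W.gg j) * h⁻¹) * k⁻¹ by group, hh]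
    exact hk

/-- Without fusion the operations are conjugate to each other. -/
theorem conj_gg (hF : ¬ B.Fused) (i j : Fin 3) : ∃ h : G, h * B.ι (W.gg j) * h⁻¹ = B.ι (W.gg i) := by
  rcases eq_or_ne i j with rfl | hij
  · exact ⟨1, by group⟩
  exact (B.fuse_step hij).resolve_left fun ⟨h, hh⟩ => hF ⟨j, h, hh⟩

/-- Without fusion the subgroup of order sixteen is strongly closed in the Sylow subgroup. -/
theorem closed_A (hF : ¬ B.Fused) {w : W} (hw : W.inA w) {g : G} (hg : g * B.ι w * g⁻¹ ∈ (B.S : Subgroup G)) :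
    g * B.ι w * g⁻¹ ∈ B.A := by
  obtain ⟨y, hy⟩ := B.exists_eq hg
  rw [← hy, B.mem_A_iff]
  by_contra hA
  have ho : W.outer y := by
    simp [W.outer, B.sq_of_conj (W.inA_facts.2.2.1 w hw) hy.symm, Bool.eq_false_iff.mpr hA]
  obtain ⟨j, c, hc⟩ := W.outer_conj y ho
  refine hF ⟨j, g⁻¹ * B.ι c, ?_⟩
  have e : B.ι c * B.ι (W.gg j) * (B.ι c)⁻¹ = g * B.ι w * g⁻¹ := by
    rw [← map_inv, ← map_mul, ← map_mul, hc, hy]
  rw [show g⁻¹ * B.ι c * B.ι (W.gg j) * (g⁻¹ * B.ι c)⁻¹ = g⁻¹ * (B.ι c * B.ι (W.gg j) * (B.ι c)⁻¹) * g by group, e,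
    show g⁻¹ * (g * B.ι w * g⁻¹) * g = B.ι w by group]
  exact B.mem_A_iff.mpr hw

/-- An element outside the extraspecial subgroup is fused to one in it. -/
theorem fuse_mid {x : W} (hA : W.inA x) (hP : W.inP x = false) :
    ∃ h : G, ∃ y : W, W.inR y ∧ y ≠ 1 ∧ h * B.ι x * h⁻¹ = B.ι y ∧ (W.inP y ∨ B.Fused) := by
  have hx2 := W.inA_facts.2.2.1 x hA
  obtain ⟨h, y, hy, e⟩ := B.transfer_step W.Rsub W.card_Rsub x hx2
  refine ⟨h, y, hy, B.ne_one_of_conj (fun h1 => ?_) e, e, ?_⟩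
  · exact absurd hP (by rw [h1]; decide)
  by_cases hyA : W.inA y
  · refine .inl ?_
    rw [W.inR_facts.2.2.2 y, hyA, show W.inR y = true from hy]
    rfl
  · refine .inr (by_contra fun hF => hyA ?_)
    exact B.mem_A_iff.mp (e ▸ B.closed_A hF hA (e.symm ▸ B.mem_S y))

/-- An operation conjugate into the subgroup of order sixteen inside `H` goes to an element of the commutator. -/
theorem fused_step {H : Subgroup G} (hS : (B.S : Subgroup G) ≤ H) {j : Fin 3}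
    (hf : ∃ h ∈ H, h * B.ι (W.gg j) * h⁻¹ ∈ B.A) :
    ∃ h ∈ H, ∃ y w : W, W.inP y ∧ y ≠ 1 ∧ W.inP w ∧ h * B.ι (W.gg j) * h⁻¹ = B.ι y ∧ h * B.z * h⁻¹ = B.ι w := by
  obtain ⟨h, hh, hhA⟩ := hf
  obtain ⟨x, hx, hxe⟩ := B.mem_A.mp hhA
  obtain ⟨k, hk, y, hy, hext⟩ := B.exists_ext hS (B.sq_A (hxe.symm ▸ hhA : B.ι x ∈ B.A)) (hS (B.mem_S x))
  have hyA : W.inA y := hext.mem_A hS hx ⟨k, hk, hy⟩
  obtain ⟨l, hl, e, hu⟩ := hext.image hS (x := W.gg j) ⟨k * h, mul_mem hk hh, by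
    rw [show k * h * B.ι (W.gg j) * (k * h)⁻¹ = k * (h * B.ι (W.gg j) * h⁻¹) * k⁻¹ by group, ← hxe, hy]⟩
  obtain ⟨-, -, u, v, hu1, hv1, huv⟩ := W.cw_outer _ (W.pp_facts j).2.2.2.1
  obtain ⟨u', hu', hu'y⟩ := hu u hu1
  obtain ⟨v', hv', hv'y⟩ := hu v hv1
  have hwz : l * B.z * l⁻¹ = B.ι (u' * v' * u'⁻¹ * v'⁻¹) := by
    show l * B.ι W.zz * l⁻¹ = _
    rw [← huv]
    simp only [map_mul, map_inv, ← hu', ← hv']
    group
  refine ⟨l, hl, y, _, ?_, B.ne_one_of_conj (W.gg_sq j).2.1 e, W.comm_inP u' v', e, hwz⟩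
  by_contra hyP
  have hm := (W.cw_mid y hyA (Bool.eq_false_iff.mpr hyP)).2
  have h1 : u' * v' * u'⁻¹ * v'⁻¹ = 1 := by
    rw [W.inA_comm u' v' (hm _ hu'y) (hm _ hv'y)]; group
  rw [h1, map_one, conj_eq_one_iff] at hwz
  exact B.z_ne hwz

theorem S_le_cent : (B.S : Subgroup G) ≤ Subgroup.centralizer ({B.z} : Set G) :=
  fun _ hg => Subgroup.mem_centralizer_singleton_iff.mpr (B.z_comm_S hg)

/-- In the fused case each operation is conjugate in `C(z)` to an element of the commutator. -/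
theorem fused_cent (hF : B.Fused) (j : Fin 3) :
    ∃ h : G, h * B.z = B.z * h ∧
      ∃ y : W, W.inP y ∧ y ≠ 1 ∧ y ≠ W.zz ∧ h * B.ι (W.gg j) * h⁻¹ = B.ι y := by
  obtain ⟨k, hk⟩ := B.fused_all hF j
  obtain ⟨h, -, y, w, hy, -, hw, e, ew⟩ :=
    B.fused_step (H := ⊤) le_top ⟨k, Subgroup.mem_top _, hk⟩
  have hyA : B.ι y ∈ B.A := B.mem_A_iff.mpr (by rw [W.inR_facts.2.2.2 y, Bool.and_eq_true] at hy; exact hy.1)
  have hwA : B.ι w ∈ B.A := B.mem_A_iff.mpr (by rw [W.inR_facts.2.2.2 w, Bool.and_eq_true] at hw; exact hw.1)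
  have hz : h⁻¹ * B.ι w * h⁻¹⁻¹ = B.z := by rw [← ew]; group
  obtain ⟨n, hn, -, hne⟩ := B.control (H := ⊤) le_top (g := h⁻¹) (Subgroup.mem_top _) hwA
    (by rw [hz]; exact B.z_mem_A)
  rw [hz] at hne
  have hnh : n * h ∈ Subgroup.centralizer ({B.z} : Set G) := by
    rw [Subgroup.mem_centralizer_singleton_iff]
    have : n * h * B.z * (n * h)⁻¹ = B.z := by
      rw [show n * h * B.z * (n * h)⁻¹ = n * (h * B.z * h⁻¹) * n⁻¹ by group, ew, hne]
    exact mul_inv_eq_iff_eq_mul.mp this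
  obtain ⟨l, hl, y', -, hy', hy'1, -, e', -⟩ := B.fused_step B.S_le_cent (j := j) ⟨n * h, hnh, by
    rw [show n * h * B.ι (W.gg j) * (n * h)⁻¹ = n * (h * B.ι (W.gg j) * h⁻¹) * n⁻¹ by group, e]
    exact (Subgroup.mem_normalizer_iff.mp hn _).mp hyA⟩
  have hlz : l * B.z = B.z * l := Subgroup.mem_centralizer_singleton_iff.mp hl
  refine ⟨l, hlz, y', hy', hy'1, fun h1 => ?_, e'⟩
  rw [h1] at e'
  have : B.ι (W.gg j) = B.z := by
    calc B.ι (W.gg j) = l⁻¹ * (l * B.ι (W.gg j) * l⁻¹) * l := by group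
      _ = l⁻¹ * (B.z * l) := by rw [e', mul_assoc]
      _ = B.z := by rw [← hlz]; group
  exact (W.gg_sq j).2.2 (B.inj this)

end Base

end CfsgLib.A8Sylow
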