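import Cfsg.Agent.Lib.A8Sylow.Sub

/-!
The six elementary abelian subgroups of order eight of the extraspecial subgroup.

Blueprint: `blueprint/S2918.md`, step 2.
-/

set_option autoImplicit false
set_option maxRecDepth 100000

namespace CfsgLib.A8Sylow

namespace W

/-- The six lines: three columns and three rows, the first row being the commutator subgroup. -/
def line (i : Fin 6) (x : W) : Bool :=
  !x.c && (match i with
    | 0 => !x.d && !x.t
    | 1 => !x.a && !x.s
    | 2 => (x.a == x.d) && (x.s == x.t)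
    | 3 => !x.s && !x.t
    | 4 => !x.a && !x.d
    | _ => (x.a == x.s) && (x.d == x.t))

/-- The column as a line. -/
def col (j : Fin 3) : Fin 6 := ⟨j.val, by omega⟩

/-- The row as a line. -/
def row (r : Fin 3) : Fin 6 := ⟨r.val + 3, by omega⟩

/-- The point on a column and a row. -/
def pt (j r : Fin 3) : W :=
  match r with
  | 0 => pp j
  | 1 => gg j
  | _ => gg j * pp j

/-- A non-central involution of the extraspecial subgroup. -/
def isPt (x : W) : Bool := inR x && decide (x * x = 1 ∧ x ≠ 1 ∧ x ≠ zz)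

/-- An involution of the extraspecial subgroup commuting with two elements. -/
def inCent (u v w : W) : Bool := inR w && decide (w * w = 1 ∧ w * u = u * w ∧ w * v = v * w)

theorem line_facts : ∀ i : Fin 6, line i zz ∧ (∀ x : W, line i x → inR x ∧ x * x = 1) ∧
    (∀ x y : W, line i x → line i y → x * y = y * x) ∧
    ∃ u v : W, line i u ∧ line i v ∧ u ≠ 1 ∧ u ≠ zz ∧ v ≠ 1 ∧ v ≠ zz ∧ u ≠ v ∧ u ≠ v * zz := by decide +kernel

theorem line_unique : ∀ i k : Fin 6, (∀ x : W, line i x → line k x) → i = k := by decide +kernel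

theorem line_span : ∀ u : W, isPt u → ∀ v : W, isPt v → u * v = v * u ∧ u ≠ v ∧ u ≠ v * zz →
    ∃ i : Fin 6, ∀ w : W, inCent u v w → line i w := by decide +kernel

theorem line_meet : ∀ i k : Fin 6, (∀ w : W, line i w → line k w → w = 1 ∨ w = zz) ↔
    (i ≠ k ∧ (i.val < 3 ↔ k.val < 3)) := by decide +kernel

theorem line_col : ∀ j : Fin 3, ∀ x : W, line (col j) x = inV j x := by decide +kernel

theorem line_row : ∀ x : W, line (row 0) x = inP x := by decide +kernel

theorem line_pt : ∀ j r : Fin 3, line (col j) (pt j r) ∧ line (row r) (pt j r) ∧ pt j r ≠ 1 ∧ pt j r ≠ zz ∧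
    (∀ w : W, line (col j) w → line (row r) w → w = 1 ∨ w = zz ∨ w = pt j r ∨ w = pt j r * zz) := by decide +kernel

theorem line_conj : ∀ (j : Fin 3) (w x : W), line (col j) x → line (col j) (w * x * w⁻¹) := by decide +kernel

theorem line_mm : ∀ (i : Fin 6) (x : W), line i x → line (Equiv.swap (4 : Fin 6) 5 i) (mm * x * mm⁻¹) := by
  decide +kernel

theorem R_gen : ∀ w : W, inR w → w = (if w.a then p1 else 1) * (if w.b then zz else 1) * (if w.d then p2 else 1) *
    (if w.s then g1 else 1) * (if w.t then g2 else 1) := by decide +kernel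

theorem R_pow : ∀ w : W, inR w → w * w * (w * w) = 1 := by decide +kernel

theorem pattern : ∀ w : W, inR w → ∀ a b c : Fin 3, a ≠ 0 → b ≠ 1 → c ≠ 2 → a ≠ b → b ≠ c → a ≠ c →
    (∀ j r : Fin 3, decide (w * pt j r = pt j r * w) = decide (w * pt j (![a, b, c] r) = pt j (![a, b, c] r) * w)) →
    w = 1 ∨ w = zz := by decide +kernel

theorem swap_facts : ∀ a b : Fin 6, 3 ≤ a.val → 3 ≤ b.val → a ≠ b →
    (∀ i, (Equiv.swap a b * Equiv.swap (4 : Fin 6) 5) i = i) ∨
    ((∀ i : Fin 6, i.val < 3 → (Equiv.swap a b * Equiv.swap (4 : Fin 6) 5) i = i) ∧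
    (∀ i : Fin 6, 3 ≤ i.val → (Equiv.swap a b * Equiv.swap (4 : Fin 6) 5) i ≠ i) ∧
    (∀ i : Fin 6, (Equiv.swap a b * Equiv.swap (4 : Fin 6) 5) ((Equiv.swap a b * Equiv.swap (4 : Fin 6) 5)
      ((Equiv.swap a b * Equiv.swap (4 : Fin 6) 5) i)) = i)) := by decide +kernel

/-- An operation outside the elementary abelian subgroup produces a four group by commutators. -/
theorem comm_outer : ∀ x : W, inA x = false → ∃ j : Fin 3, inA (x * gg j) ∧
    (∃ a : W, a * x * a⁻¹ * x⁻¹ = pp j) ∧ ∃ a : W, a * x * a⁻¹ * x⁻¹ = zz := by decide +kernel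

theorem comm_mid : ∀ x : W, inA x → inP x = false → ∀ j : Fin 3, ∃ c : W,
    c * x * c⁻¹ * x⁻¹ = pp j ∨ c * x * c⁻¹ * x⁻¹ = pp j * zz := by decide +kernel

theorem P_gen : ∀ j k : Fin 3, j ≠ k → ∀ y : W, inP y →
    y = 1 ∨ y = zz ∨ y = pp j ∨ y = pp j * zz ∨ y = pp k ∨ y = pp k * zz ∨ y = pp j * pp k ∨ y = pp j * pp k * zz := by
  decide +kernel

theorem P_four : ∀ j : Fin 3, ∀ y : W, inP y →
    y = 1 ∨ y = zz ∨ y = pp j ∨ y = pp j * zz ∨ (∀ y' : W, inP y' → ∃ e : W,
      (e = 1 ∨ e = zz ∨ e = pp j ∨ e = pp j * zz) ∧ (y' = e ∨ y' = e * y)) := by decide +kernel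

theorem small_core : ∀ j : Fin 3, ∀ x : W, inA x = false → inA (x * gg j) → ∃ w : W,
    (∀ e : W, (e = 1 ∨ e = zz ∨ e = pp j ∨ e = pp j * zz) → w ≠ e ∧ w ≠ e * x) ∧
    (w * x * w⁻¹ = x ∨ w * x * w⁻¹ = x * zz) ∧ (w * pp j * w⁻¹ = pp j ∨ w * pp j * w⁻¹ = pp j * zz) := by
  decide +kernel

theorem R_cases : ∀ x : W, inR x → inP x ∨ ∃ j : Fin 3, inP (x * gg j) := by decide +kernel

theorem notR_gen : ∀ x y : W, inR x = false → inR y = false → inR (y * x⁻¹) := by decide +kernel

end W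

end CfsgLib.A8Sylow
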