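import Cfsg.Agent.Lib.A8Sylow.Reps
import Cfsg.Agent.Lib.U34Char.Basic
import Cfsg.Agent.Lib.ZStar.Main
import Cfsg.Agent.Lib.ZStar.Isolated

/-!
The centraliser of an involution not of central type has a normal subgroup with Sylow subgroup of order sixteen.

Blueprint: `blueprint/S2918.md`, step 3.
-/

set_option autoImplicit false
set_option maxRecDepth 100000
set_option linter.style.haveILetI false
set_option linter.unusedSectionVars false

open Cfsg
open scoped commutatorElement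

namespace CfsgLib.A8Sylow

open CfsgLib.L34Sylow (oddC oddC_le oddC_comm oddC_conj oddC_normal odd_oddC Wf oddC_le_Wf Wf_le Wf_spec le_oddC)

universe u

namespace W

theorem inQ_comm : ∀ (j : Fin 3) (y : W), inQ j y → y * pp j = pp j * y := by decide +kernel

theorem inQ_gg : ∀ (j : Fin 3) (x : W), inQ j x → outer x → ∃ c : W, inA c ∧ c * gg j * c⁻¹ = x := by decide +kernel

theorem inQ_cent : ∀ (j : Fin 3) (x : W), inA x → inV j x = false → ∀ y : W, inQ j y → y * x = x * y → inA y := by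
  decide +kernel

theorem gg_pp_conj : ∀ j : Fin 3, (∃ c : W, c * gg j * c⁻¹ = gg j * pp j) ∧ inV j (gg j) ∧ inV j (pp j) := by
  decide +kernel

theorem inQ_index : ∀ (j : Fin 3) (x y : W), inQ j x → inQ j y → inA x = false → inA y = false → inA (x * y) := by
  decide +kernel

theorem inQ_normal : ∀ (j : Fin 3) (x a : W), inA a → inA (x * a * x⁻¹) := by decide +kernel

end W

namespace Base

variable {G : Type u} [Group G] [Finite G] (B : Base G)

/-- A normal subgroup of the centraliser with Sylow subgroup the subgroup of order sixteen. -/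
structure Half (f : G) (D0 : Subgroup G) : Prop where
  le : D0 ≤ Subgroup.centralizer ({f} : Set G)
  normal : ∀ c ∈ Subgroup.centralizer ({f} : Set G), ∀ x ∈ D0, c * x * c⁻¹ ∈ D0
  A_le : B.A ≤ D0
  two : ∀ T : Subgroup G, IsPGroup 2 T → B.A ≤ T → T ≤ D0 → T ≤ B.A
  odd : ∀ x ∈ Subgroup.centralizer ({f} : Set G), Odd (orderOf x) → x ∈ D0
  solv : Group.IsSolvable D0 → Group.IsSolvable ↥(Subgroup.centralizer ({f} : Set G))
  gen : ∀ M : Subgroup G, D0 ≤ M → Subgroup.normalizer (B.A : Set G) ≤ M → Subgroup.centralizer ({f} : Set G) ≤ M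

theorem S_le_N : (B.S : Subgroup G) ≤ Subgroup.normalizer (B.A : Set G) := fun g hg => by
  obtain ⟨w, rfl⟩ := B.exists_eq hg
  refine B.mem_normalizer_of_conj_mem fun a ha => ?_
  obtain ⟨v, -, rfl⟩ := B.mem_A.mp ha
  rw [← map_inv, ← map_mul, ← map_mul]
  exact B.mem_S _

theorem Half.conj {B : Base G} {f : G} {D0 : Subgroup G} (h : B.Half f D0) {n : G}
    (hn : n ∈ Subgroup.normalizer (B.A : Set G)) :
    B.Half (n * f * n⁻¹) (D0.map (MulAut.conj n).toMonoidHom) := by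
  have hc : ∀ {k a x : G}, x ∈ Subgroup.centralizer ({k * a * k⁻¹} : Set G) →
      k⁻¹ * x * k ∈ Subgroup.centralizer ({a} : Set G) := fun {k a x} hx => by
    rw [Subgroup.mem_centralizer_singleton_iff] at hx ⊢
    calc k⁻¹ * x * k * a = k⁻¹ * (x * (k * a * k⁻¹)) * k := by group
      _ = a * (k⁻¹ * x * k) := by rw [hx]; group
  have hnA : ∀ a ∈ B.A, n⁻¹ * a * n ∈ B.A := fun a ha => by
    have := (Subgroup.mem_normalizer_iff.mp (inv_mem hn) a).mp ha
    rwa [inv_inv] at this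
  refine ⟨?_, ?_, fun a ha => ⟨n⁻¹ * a * n, h.A_le (hnA a ha), by simp [mul_assoc]⟩, ?_, fun x hx hodd => ?_, ?_,
    fun M hM hN x hx => ?_⟩
  · rintro _ ⟨x, hx, rfl⟩
    rw [Subgroup.mem_centralizer_singleton_iff]
    show n * x * n⁻¹ * (n * f * n⁻¹) = n * f * n⁻¹ * (n * x * n⁻¹)
    have h' := Subgroup.mem_centralizer_singleton_iff.mp (h.le hx)
    calc n * x * n⁻¹ * (n * f * n⁻¹) = n * (x * f) * n⁻¹ := by group
      _ = n * f * n⁻¹ * (n * x * n⁻¹) := by rw [h']; group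
  · rintro c hc' _ ⟨x, hx, rfl⟩
    refine ⟨_, h.normal _ (hc hc') x hx, ?_⟩
    show n * (n⁻¹ * c * n * x * (n⁻¹ * c * n)⁻¹) * n⁻¹ = c * (n * x * n⁻¹) * c⁻¹
    group
  · intro T hT hA hle t ht
    have h1 := h.two (T.map (MulAut.conj n⁻¹).toMonoidHom) (hT.map _)
      (fun a ha => ⟨n * a * n⁻¹, hA ((Subgroup.mem_normalizer_iff.mp hn a).mp ha), by simp [mul_assoc]⟩) (by
        rintro _ ⟨y, hy, rfl⟩
        obtain ⟨x, hx, e⟩ := hle hy
        show n⁻¹ * y * n⁻¹⁻¹ ∈ D0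
        rw [← show n * x * n⁻¹ = y from e]
        simpa [mul_assoc] using hx) ⟨t, ht, rfl⟩
    have h2 : n * (n⁻¹ * t * n⁻¹⁻¹) * n⁻¹ ∈ B.A := (Subgroup.mem_normalizer_iff.mp hn _).mp h1
    simpa [mul_assoc] using h2
  · refine ⟨n⁻¹ * x * n, h.odd _ (hc hx) ?_, by simp [mul_assoc]⟩
    rwa [show n⁻¹ * x * n = n⁻¹ * x * n⁻¹⁻¹ by group, CfsgLib.ZStar.orderOf_conj]
  · intro hs
    haveI := hs
    haveI := h.solv (Group.isSolvable_of_isSolvable_injective (f := (D0.equivMapOfInjective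
      (MulAut.conj n).toMonoidHom (MulAut.conj n).injective).toMonoidHom) (MulEquiv.injective _))
    let φ : ↥(Subgroup.centralizer ({n * f * n⁻¹} : Set G)) →* ↥(Subgroup.centralizer ({f} : Set G)) :=
      { toFun := fun x => ⟨n⁻¹ * x * n, hc x.2⟩
        map_one' := Subtype.ext (by simp)
        map_mul' := fun x y => Subtype.ext (by simp [mul_assoc]) }
    exact Group.isSolvable_of_isSolvable_injective (f := φ) fun x y e => Subtype.ext
      (mul_left_cancel (mul_right_cancel (congrArg Subtype.val e)))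
  · have h1 := h.gen M (fun y hy => ?_) hN (hc hx)
    · have := mul_mem (mul_mem (hN hn) h1) (inv_mem (hN hn))
      simpa [mul_assoc] using this
    · have h2 : n * y * n⁻¹ ∈ M := hM ⟨y, hy, rfl⟩
      have := mul_mem (mul_mem (inv_mem (hN hn)) h2) (hN hn)
      simpa [mul_assoc] using this

/-- The centraliser of the involution of a column. -/
theorem sylow_pp {j : Fin 3} (hz : ¬ B.ZC (B.ι (W.pp j))) {T : Subgroup G} (hT : IsPGroup 2 T)
    (hTC : T ≤ Subgroup.centralizer ({B.ι (W.pp j)} : Set G)) (hQT : (W.Qsub j).map B.ι ≤ T) :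
    T ≤ (W.Qsub j).map B.ι := by
  haveI : Fact (Nat.Prime 2) := ⟨Nat.prime_two⟩
  obtain ⟨k, hk⟩ := B.exists_conj_S hT
  set T' := T.map (MulAut.conj k).toMonoidHom
  have hT'S : T' ≤ (B.S : Subgroup G) := by rintro _ ⟨t, ht, rfl⟩; exact hk t ht
  have hcS : Nat.card (B.S : Subgroup G) = 2 ^ 6 := by
    rw [← B.range_eq, ← Nat.card_congr (MonoidHom.ofInjective B.inj).toEquiv, W.card]; norm_num
  have hcT : Nat.card T' = Nat.card T := Nat.card_congr (T.equivMapOfInjective (MulAut.conj k).toMonoidHom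
    (MulAut.conj k).injective).toEquiv.symm
  have hd : Nat.card T ∣ 2 ^ 6 := by
    rw [← hcS, ← hcT]
    exact Subgroup.card_dvd_of_le hT'S
  obtain ⟨i, hi, hie⟩ := (Nat.dvd_prime_pow Nat.prime_two).mp hd
  by_cases hi6 : i = 6
  · exfalso
    have he : T' = (B.S : Subgroup G) := Subgroup.eq_of_le_of_card_ge hT'S (by
      rw [hcS, hcT, hie, hi6])
    have hb : B.ι (W.pp j) ∈ T := hQT ⟨_, (W.inQ_facts j).2.2.1 _ (W.P_inA _ (W.pp_facts j).1), rfl⟩
    obtain ⟨y, hy⟩ := B.exists_eq (hk _ hb)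
    have hyc : ∀ w : W, y * w = w * y := fun w => B.inj (by
      obtain ⟨t, ht, e⟩ : B.ι w ∈ T' := he ▸ B.mem_S w
      have e' : k * t * k⁻¹ = B.ι w := e
      have htb := Subgroup.mem_centralizer_singleton_iff.mp (hTC ht)
      rw [map_mul, map_mul, hy, ← e']
      calc k * B.ι (W.pp j) * k⁻¹ * (k * t * k⁻¹) = k * (B.ι (W.pp j) * t) * k⁻¹ := by group
        _ = k * t * k⁻¹ * (k * B.ι (W.pp j) * k⁻¹) := by rw [← htb]; group)
    rcases W.center_eq y hyc with h1 | h1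
    · rw [h1, map_one, eq_comm, conj_eq_one_iff] at hy
      exact (W.pp_facts j).2.1 (B.ι_eq_one.mp hy)
    · exact hz ⟨k⁻¹, by
        show k⁻¹ * B.ι W.zz * k⁻¹⁻¹ = _
        rw [← h1, hy]; group⟩
  refine (Subgroup.eq_of_le_of_card_ge hQT ?_).ge
  rw [Subgroup.card_map_of_injective B.inj, W.card_Qsub, hie, show (32 : ℕ) = 2 ^ 5 by norm_num]
  exact Nat.pow_le_pow_right two_pos (by omega)

/-- The operation is not fused into the subgroup of order sixteen inside the centraliser. -/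
theorem not_fused_cent (hF : B.Fused) {j : Fin 3} (hz : ¬ B.ZC (B.ι (W.pp j))) {h : G}
    (hh : h * B.ι (W.pp j) = B.ι (W.pp j) * h) (hA : h * B.ι (W.gg j) * h⁻¹ ∈ B.A) : False := by
  haveI : Fact (Nat.Prime 2) := ⟨Nat.prime_two⟩
  set b := B.ι (W.pp j) with hb
  -- neither the operation nor its product with `b` is of central type
  obtain ⟨c, hc, hce⟩ := B.gg_pp hF j
  obtain ⟨e, he⟩ := (W.pp_facts j).2.2.2.2.2
  have hgz : ¬ B.ZC (B.ι (W.gg j)) := fun h' => by
    rcases hce with h1 | h1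
    · refine hz ?_
      have h2 := h'.conj c
      rwa [h1] at h2
    · refine hz ?_
      have h2 := (h'.conj c).conj (B.ι e)⁻¹
      rw [h1, ← he, map_mul, map_mul, map_inv] at h2
      simpa [hb, mul_assoc] using h2
  have hgbz : ¬ B.ZC (B.ι (W.gg j * W.pp j)) := by
    obtain ⟨d, hd⟩ := (W.gg_pp_conj j).1
    rw [← hd, map_mul, map_mul, map_inv]
    exact B.not_zc_conj hgz _
  have hbA : b ∈ B.A := B.mem_A_iff.mpr (W.P_inA _ (W.pp_facts j).1)
  obtain ⟨w, hw, hwe⟩ := B.mem_A.mp hA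
  -- a Sylow subgroup of the common centraliser
  set C2 := Subgroup.centralizer ({B.ι w} : Set G) ⊓ Subgroup.centralizer ({b} : Set G)
  have hAC : B.A ≤ C2 := fun a ha =>
    ⟨Subgroup.mem_centralizer_singleton_iff.mpr (B.comm_A ha (B.mem_A_iff.mpr hw)),
      Subgroup.mem_centralizer_singleton_iff.mpr (B.comm_A ha hbA)⟩
  have hQC : (W.Qsub j).map B.ι ≤ Subgroup.centralizer ({b} : Set G) := by
    rintro _ ⟨y, hy, rfl⟩
    rw [Subgroup.mem_centralizer_singleton_iff, hb, ← map_mul, ← map_mul, W.inQ_comm j y hy]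
  have hT : ∀ T : Subgroup G, IsPGroup 2 T → B.A ≤ T → T ≤ C2 → T ≤ B.A := by
    intro T hT hAT hTC
    set D := Subgroup.centralizer ({b} : Set G)
    obtain ⟨P1, hP1⟩ := (hT.comap_of_injective D.subtype D.subtype_injective).exists_le_sylow
    have h32 : IsPGroup 2 ↥((W.Qsub j).map B.ι) :=
      IsPGroup.of_card (n := 5) (by rw [Subgroup.card_map_of_injective B.inj, W.card_Qsub]; norm_num)
    obtain ⟨P2, hP2⟩ := (h32.comap_of_injective D.subtype D.subtype_injective).exists_le_sylow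
    obtain ⟨d, hd⟩ := MulAction.exists_smul_eq D P1 P2
    have hP2' : ((P2 : Subgroup D)).map D.subtype ≤ (W.Qsub j).map B.ι := B.sylow_pp hz (P2.isPGroup'.map _)
      (Subgroup.map_subtype_le _) (fun x hx => ⟨⟨x, hQC hx⟩, hP2 hx, rfl⟩)
    have hdT : ∀ t ∈ T, ∀ ht : t ∈ D, (d : G) * t * (d : G)⁻¹ ∈ (W.Qsub j).map B.ι := fun t ht htD => by
      refine hP2' ⟨d * ⟨t, htD⟩ * d⁻¹, ?_, rfl⟩
      rw [← hd]
      exact Subgroup.smul_mem_pointwise_smul _ (MulAut.conj d) _ (hP1 ht)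
    have hdN : (d : G) ∈ Subgroup.normalizer (B.A : Set G) := B.mem_normalizer_of_conj_mem fun a ha => by
      obtain ⟨y, -, hye⟩ := hdT a (hAT ha) (hTC (hAT ha)).2
      exact hye ▸ B.mem_S y
    have hwA := (Subgroup.mem_normalizer_iff.mp hdN (B.ι w)).mp (B.mem_A_iff.mpr hw)
    obtain ⟨w', hw', hwe'⟩ := B.mem_A.mp hwA
    have hdb : (d : G) * b = b * d := Subgroup.mem_centralizer_singleton_iff.mp d.2
    have hwg : B.ι w' = ((d : G) * h) * B.ι (W.gg j) * ((d : G) * h)⁻¹ := by rw [hwe', hwe]; group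
    -- it lies outside the four-group
    have hwV : W.inV j w' = false := by
      rw [Bool.eq_false_iff]
      intro hV
      rcases W.inV_pp j w' hV hw' with h1 | h1 | h1 | h1 <;> rw [h1] at hwg
      · rw [map_one, eq_comm, conj_eq_one_iff] at hwg
        exact (W.gg_sq j).2.1 (B.ι_eq_one.mp hwg)
      · refine B.not_zc_conj hgz ((d : G) * h) ⟨1, ?_⟩
        rw [← hwg]; group
      · have hdhb : ((d : G) * h)⁻¹ * b * ((d : G) * h) = b := by
          calc ((d : G) * h)⁻¹ * b * ((d : G) * h) = h⁻¹ * ((d : G)⁻¹ * (b * d)) * h := by group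
            _ = h⁻¹ * (b * h) := by rw [← hdb]; group
            _ = b := by rw [← hh]; group
        have : B.ι (W.gg j) = b := by rw [← hdhb, hb, hwg]; group
        exact absurd ((B.mem_A_iff (w := W.gg j)).mp (this ▸ hbA)) (by
          have := (W.pp_facts j).2.2.2.1; simp [W.outer] at this; simp [this.2])
      · refine B.not_zc_conj hgbz ((d : G) * h) ⟨1, ?_⟩
        have hdh : (d : G) * h * b = b * ((d : G) * h) := by rw [mul_assoc, hh, ← mul_assoc, hdb, mul_assoc]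
        rw [map_mul] at hwg ⊢
        calc 1 * B.z * 1⁻¹ = b * (b * B.z) := by rw [← mul_assoc, B.sq_A hbA]; group
          _ = (d : G) * h * B.ι (W.gg j) * ((d : G) * h)⁻¹ * b := by
            rw [← hwg, ← hb, mul_assoc b B.z b, B.comm_A B.z_mem_A hbA]
          _ = (d : G) * h * (B.ι (W.gg j) * b) * ((d : G) * h)⁻¹ := by
            rw [show (d : G) * h * B.ι (W.gg j) * ((d : G) * h)⁻¹ * b =
              (d : G) * h * B.ι (W.gg j) * (((d : G) * h)⁻¹ * (b * ((d : G) * h))) * ((d : G) * h)⁻¹ by group, ← hdh]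
            group
    intro t ht
    obtain ⟨y, hy, hye⟩ := hdT t ht (hTC ht).2
    have hyA : W.inA y := W.inQ_cent j w' hw' hwV y hy (B.inj (by
      rw [map_mul, map_mul, hwe', hye]
      have h1 := Subgroup.mem_centralizer_singleton_iff.mp (hTC ht).1
      calc (d : G) * t * (d : G)⁻¹ * ((d : G) * B.ι w * (d : G)⁻¹) = (d : G) * (t * B.ι w) * (d : G)⁻¹ := by group
        _ = (d : G) * B.ι w * (d : G)⁻¹ * ((d : G) * t * (d : G)⁻¹) := by rw [h1]; group))
    exact (Subgroup.mem_normalizer_iff.mp hdN t).mpr (hye ▸ B.mem_A_iff.mpr hyA)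
  -- the column goes into the subgroup of order sixteen
  obtain ⟨T1, hT1⟩ := (B.isPGroup_A.comap_of_injective C2.subtype C2.subtype_injective).exists_le_sylow
  set P := (B.V j).map (MulAut.conj h).toMonoidHom
  have hVP : IsPGroup 2 (B.V j) := IsPGroup.of_card (n := 3) (by rw [B.card_V]; norm_num)
  have hPC : P ≤ C2 := by
    rintro _ ⟨_, ⟨v, hv, rfl⟩, rfl⟩
    have h1 := (W.inV_facts j).2.2.2.1 v (W.gg j) hv (W.gg_pp_conj j).2.1
    have h2 := (W.inV_facts j).2.2.2.1 v (W.pp j) hv (W.gg_pp_conj j).2.2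
    have h1' : B.ι v * B.ι (W.gg j) = B.ι (W.gg j) * B.ι v := by rw [← map_mul, h1, map_mul]
    have h2' : B.ι v * b = b * B.ι v := by rw [hb, ← map_mul, h2, map_mul]
    refine Subgroup.mem_inf.mpr ⟨Subgroup.mem_centralizer_singleton_iff.mpr ?_,
      Subgroup.mem_centralizer_singleton_iff.mpr ?_⟩
    · show h * B.ι v * h⁻¹ * B.ι w = B.ι w * (h * B.ι v * h⁻¹)
      rw [hwe]
      calc h * B.ι v * h⁻¹ * (h * B.ι (W.gg j) * h⁻¹) = h * (B.ι v * B.ι (W.gg j)) * h⁻¹ := by group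
        _ = h * B.ι (W.gg j) * h⁻¹ * (h * B.ι v * h⁻¹) := by rw [h1']; group
    · show h * B.ι v * h⁻¹ * b = b * (h * B.ι v * h⁻¹)
      calc h * B.ι v * h⁻¹ * b = h * B.ι v * (h⁻¹ * (b * h)) * h⁻¹ := by group
        _ = h * (B.ι v * b) * h⁻¹ := by rw [← hh]; group
        _ = h * b * (B.ι v * h⁻¹) := by rw [h2']; group
        _ = b * (h * B.ι v * h⁻¹) := by rw [hh]; group
  obtain ⟨T2, hT2⟩ := ((hVP.map (MulAut.conj h).toMonoidHom).comap_of_injective C2.subtype
    C2.subtype_injective).exists_le_sylow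
  obtain ⟨q, hq⟩ := MulAction.exists_smul_eq C2 T2 T1
  have hin : ∀ v : W, W.inV j v → (q : G) * h * B.ι v * ((q : G) * h)⁻¹ ∈ B.A := fun v hv => by
    have hmem : (q : G) * (h * B.ι v * h⁻¹) * (q : G)⁻¹ ∈ (T1 : Subgroup C2).map C2.subtype := by
      refine ⟨q * ⟨h * B.ι v * h⁻¹, hPC ⟨_, ⟨v, hv, rfl⟩, rfl⟩⟩ * q⁻¹, ?_, rfl⟩
      rw [← hq]
      exact Subgroup.smul_mem_pointwise_smul _ (MulAut.conj q) _ (hT2 ⟨_, ⟨v, hv, rfl⟩, rfl⟩)
    have := hT _ (T1.isPGroup'.map _) (fun a ha => ⟨⟨a, hAC ha⟩, hT1 ha, rfl⟩) (Subgroup.map_subtype_le _) hmem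
    simpa [mul_assoc] using this
  obtain ⟨n, hn, -, hne⟩ := B.control (H := ⊤) le_top (g := ((q : G) * h)⁻¹) (Subgroup.mem_top _)
    (hin W.zz (W.card_Wsub j).2.1) (by simp [mul_assoc]; exact B.z_mem_A)
  have hl : n * ((q : G) * h) * B.z = B.z * (n * ((q : G) * h)) := by
    have : n * ((q : G) * h) * B.z * (n * ((q : G) * h))⁻¹ = B.z := by
      rw [show n * ((q : G) * h) * B.z * (n * ((q : G) * h))⁻¹ = n * ((q : G) * h * B.z * ((q : G) * h)⁻¹) * n⁻¹ by
        group, show (q : G) * h * B.z * ((q : G) * h)⁻¹ = (q : G) * h * B.ι W.zz * ((q : G) * h)⁻¹ from rfl, hne]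
      group
    exact mul_inv_eq_iff_eq_mul.mp this
  refine B.parity hF hl j fun v hv => ?_
  rw [show n * ((q : G) * h) * B.ι v * (n * ((q : G) * h))⁻¹ = n * ((q : G) * h * B.ι v * ((q : G) * h)⁻¹) * n⁻¹ by group]
  exact (Subgroup.mem_normalizer_iff.mp hn _).mp (hin v hv)

/-- The centraliser of the involution of a column has a normal subgroup of index two. -/
theorem half_pp_of {j : Fin 3} (hz : ¬ B.ZC (B.ι (W.pp j)))
    (hnf : ∀ h : G, h * B.ι (W.pp j) = B.ι (W.pp j) * h → h * B.ι (W.gg j) * h⁻¹ ∉ B.A) :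
    ∃ D0 : Subgroup G, B.Half (B.ι (W.pp j)) D0 := by
  classical
  haveI : Fact (Nat.Prime 2) := ⟨Nat.prime_two⟩
  set b := B.ι (W.pp j) with hb
  set D := Subgroup.centralizer ({b} : Set G) with hD
  set Q := (W.Qsub j).map B.ι with hQ
  have hQD : Q ≤ D := by
    rintro _ ⟨y, hy, rfl⟩
    rw [hD, Subgroup.mem_centralizer_singleton_iff, hb, ← map_mul, ← map_mul, W.inQ_comm j y hy]
  have h32 : IsPGroup 2 ↥Q :=
    IsPGroup.of_card (n := 5) (by rw [hQ, Subgroup.card_map_of_injective B.inj, W.card_Qsub]; norm_num)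
  obtain ⟨P, hP⟩ := (h32.comap_of_injective D.subtype D.subtype_injective).exists_le_sylow
  have hP' : ∀ x : D, x ∈ (P : Subgroup D) ↔ (x : G) ∈ Q := fun x =>
    ⟨fun hx => B.sylow_pp hz (P.isPGroup'.map D.subtype) (Subgroup.map_subtype_le _)
      (fun y hy => ⟨⟨y, hQD hy⟩, hP hy, rfl⟩) ⟨x, hx, rfl⟩, fun hx => hP hx⟩
  -- the subgroup of order sixteen is closed in the centraliser
  have hclosed : ∀ (x : D) (d : D), x ∈ (P : Subgroup D) → (x : G) ∈ B.A → d * x * d⁻¹ ∈ (P : Subgroup D) →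
      ((d * x * d⁻¹ : D) : G) ∈ B.A := by
    intro x d hx hxA hdx
    obtain ⟨y, hy, hye⟩ := (hP' _).mp hdx
    by_contra hA
    have hyA : W.inA y = false := Bool.eq_false_iff.mpr fun h => hA (hye ▸ B.mem_A_iff.mpr h)
    obtain ⟨w, hw, hwe⟩ := B.mem_A.mp hxA
    have hyy : y * y = 1 := B.sq_of_conj (h := (d : G)) (W.inA_facts.2.2.1 w hw) (by rw [hwe, hye]; rfl)
    obtain ⟨c, hc, hce⟩ := W.inQ_gg j y hy (by simp [W.outer, hyy, hyA])
    refine hnf ((d : G)⁻¹ * B.ι c) ?_ ?_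
    · have h1 : (d : G) * b = b * d := Subgroup.mem_centralizer_singleton_iff.mp d.2
      have h2 : B.ι c * b = b * B.ι c :=
        B.comm_A (B.mem_A_iff.mpr hc) (B.mem_A_iff.mpr (W.P_inA _ (W.pp_facts j).1))
      calc (d : G)⁻¹ * B.ι c * b = (d : G)⁻¹ * (b * d) * ((d : G)⁻¹ * B.ι c) := by rw [mul_assoc, h2]; group
        _ = b * ((d : G)⁻¹ * B.ι c) := by rw [← h1]; group
    · rw [show (d : G)⁻¹ * B.ι c * B.ι (W.gg j) * ((d : G)⁻¹ * B.ι c)⁻¹ =
        (d : G)⁻¹ * (B.ι c * B.ι (W.gg j) * (B.ι c)⁻¹) * d by group, ← map_inv, ← map_mul, ← map_mul, hce, hye]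
      simpa [mul_assoc] using hxA
  set AD := B.A.subgroupOf D with hAD
  have hAQ : B.A ≤ Q := fun a ha => by
    obtain ⟨w, hw, rfl⟩ := B.mem_A.mp ha
    exact ⟨w, (W.inQ_facts j).2.2.1 w hw, rfl⟩
  have hADP : AD ≤ (P : Subgroup D) := fun x hx => (hP' x).mpr (hAQ hx)
  -- the focal subgroup
  have hfoc : (P : Subgroup D).focalSubgroup ≤ AD := by
    rw [Subgroup.focalSubgroup_def, Subgroup.closure_le]
    rintro g ⟨hg, x, hx, u, rfl⟩
    set y := u * x⁻¹ * u⁻¹ with hy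
    have hgy : ⁅x, u⁆ = x * y := by rw [commutatorElement_def, hy]; group
    have hyP : y ∈ (P : Subgroup D) := by
      have := mul_mem (inv_mem hx) (hgy ▸ hg)
      rwa [inv_mul_cancel_left] at this
    obtain ⟨v, hv, hve⟩ := (hP' _).mp hx
    obtain ⟨v', hv', hve'⟩ := (hP' _).mp hyP
    have hiff : W.inA v ↔ W.inA v' := by
      constructor
      · intro h
        have := hclosed x⁻¹ u (inv_mem hx) (by rw [Subgroup.coe_inv, ← hve]; exact inv_mem (B.mem_A_iff.mpr h)) hyP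
        exact B.mem_A_iff.mp (hve'.symm ▸ this)
      · intro h
        have := hclosed y u⁻¹ hyP (hve' ▸ B.mem_A_iff.mpr h)
          (by rw [hy, show u⁻¹ * (u * x⁻¹ * u⁻¹) * u⁻¹⁻¹ = x⁻¹ by group]; exact inv_mem hx)
        rw [hy, show u⁻¹ * (u * x⁻¹ * u⁻¹) * u⁻¹⁻¹ = x⁻¹ by group, Subgroup.coe_inv, inv_mem_iff, ← hve] at this
        exact B.mem_A_iff.mp this
    show ((⁅x, u⁆ : D) : G) ∈ B.A
    rw [hgy, Subgroup.coe_mul, ← hve, ← hve', ← map_mul, B.mem_A_iff]
    by_cases h : W.inA v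
    · exact W.inA_facts.2.1 _ _ h (hiff.mp h)
    · exact W.inQ_index j v v' hv hv' (Bool.eq_false_iff.mpr h) (Bool.eq_false_iff.mpr fun h' => h (hiff.mpr h'))
  have hcom : _root_.commutator D ⊓ (P : Subgroup D) ≤ AD := (Subgroup.commutator_inf_eq_focalSubgroup P).le.trans hfoc
  set N1 := _root_.commutator D ⊔ AD with hN1
  haveI hN1n : N1.Normal := ⟨fun n hn g => by
    have h1 : g * n * g⁻¹ * n⁻¹ ∈ _root_.commutator D :=
      Subgroup.commutator_mem_commutator (Subgroup.mem_top g) (Subgroup.mem_top n)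
    have := mul_mem (Subgroup.mem_sup_left h1) hn
    rwa [inv_mul_cancel_right] at this⟩
  have hN1P : ∀ x ∈ N1, x ∈ (P : Subgroup D) → x ∈ AD := fun x hx hxP => by
    obtain ⟨c, hc, a, ha, rfl⟩ := Subgroup.mem_sup_of_normal_left.mp hx
    exact mul_mem (hcom (Subgroup.mem_inf.mpr ⟨hc, by simpa using mul_mem hxP (inv_mem (hADP ha))⟩)) ha
  have habel : ∀ x y : D ⧸ N1, x * y = y * x := fun x y => by
    induction x using QuotientGroup.induction_on with
    | H a =>
      induction y using QuotientGroup.induction_on with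
      | H c =>
        rw [← QuotientGroup.mk_mul, ← QuotientGroup.mk_mul, QuotientGroup.eq]
        refine Subgroup.mem_sup_left ?_
        have h1 := Subgroup.commutator_mem_commutator (Subgroup.mem_top c⁻¹) (Subgroup.mem_top a⁻¹)
        rw [commutatorElement_def] at h1
        rw [show (a * c)⁻¹ * (c * a) = c⁻¹ * a⁻¹ * c⁻¹⁻¹ * a⁻¹⁻¹ by group]
        exact h1
  obtain ⟨Hd, hHd⟩ : ∃ Hd : Subgroup D, ∀ x : D, x ∈ Hd ↔ Odd (orderOf (x : D ⧸ N1)) :=
    ⟨{ carrier := {x | Odd (orderOf (x : D ⧸ N1))}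
       one_mem' := by simp
       mul_mem' := fun {a c} ha hc => by
        show Odd (orderOf ((a * c : D) : D ⧸ N1))
        rw [QuotientGroup.mk_mul]
        exact (ha.mul hc).of_dvd_nat ((Commute.orderOf_mul_dvd_mul_orderOf (habel _ _)))
       inv_mem' := fun {a} ha => by
        show Odd (orderOf ((a⁻¹ : D) : D ⧸ N1))
        rwa [QuotientGroup.mk_inv, orderOf_inv] }, fun _ => Iff.rfl⟩
  have hHn : Hd.Normal := ⟨fun n hn g => by
    rw [hHd] at hn ⊢
    rw [QuotientGroup.mk_mul, QuotientGroup.mk_mul, habel (g : D ⧸ N1) n, QuotientGroup.mk_inv, mul_inv_cancel_right]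
    exact hn⟩
  have hN1H : N1 ≤ Hd := fun x hx => by
    rw [hHd, (QuotientGroup.eq_one_iff x).mpr hx, orderOf_one]
    exact odd_one
  have hHP : ∀ x ∈ Hd, x ∈ (P : Subgroup D) → (x : G) ∈ B.A := fun x hx hxP => by
    obtain ⟨k, hk⟩ := P.isPGroup' ⟨x, hxP⟩
    have hk' : (x : D ⧸ N1) ^ 2 ^ k = 1 := by
      rw [← QuotientGroup.mk_pow, show x ^ 2 ^ k = 1 from congrArg Subtype.val hk]; rfl
    have h1 := Nat.eq_one_of_dvd_coprimes ((Nat.coprime_two_left.mpr ((hHd x).mp hx)).pow_left k) (orderOf_dvd_of_pow_eq_one hk') dvd_rfl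
    exact hN1P x ((QuotientGroup.eq_one_iff x).mp (orderOf_eq_one_iff.mp h1)) hxP
  refine ⟨Hd.map D.subtype, Subgroup.map_subtype_le _, ?_, ?_, ?_, ?_, ?_, ?_⟩
  · rintro c hc _ ⟨x, hx, rfl⟩
    exact ⟨⟨c, hc⟩ * x * ⟨c, hc⟩⁻¹, hHn.conj_mem x hx _, rfl⟩
  · intro a ha
    exact ⟨⟨a, hQD (hAQ ha)⟩, hN1H (Subgroup.mem_sup_right ha), rfl⟩
  · intro T hT hAT hTle t ht
    -- a Sylow subgroup of the normal subgroup
    obtain ⟨P1, hP1⟩ := (hT.comap_of_injective D.subtype D.subtype_injective).exists_le_sylow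
    obtain ⟨d, hd⟩ := MulAction.exists_smul_eq D P1 P
    have hmv : ∀ s ∈ T, ∀ hs : s ∈ D, (d : G) * s * (d : G)⁻¹ ∈ B.A := fun s hs hsD => by
      have h1 : d * ⟨s, hsD⟩ * d⁻¹ ∈ (P : Subgroup D) := by
        rw [← hd]
        exact Subgroup.smul_mem_pointwise_smul _ (MulAut.conj d) _ (hP1 hs)
      obtain ⟨x, hx, hxe⟩ := hTle hs
      have h2 : d * ⟨s, hsD⟩ * d⁻¹ ∈ Hd := by
        rw [show (⟨s, hsD⟩ : D) = x from Subtype.ext hxe.symm]
        exact hHn.conj_mem x hx d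
      exact hHP _ h2 h1
    have hTD : T ≤ D := fun s hs => Subgroup.map_subtype_le _ (hTle hs)
    have hdN : (d : G) ∈ Subgroup.normalizer (B.A : Set G) :=
      B.mem_normalizer_of_conj_mem fun a ha => B.A_le_S (hmv a (hAT ha) (hTD (hAT ha)))
    exact (Subgroup.mem_normalizer_iff.mp hdN t).mpr (hmv t ht (hTD ht))
  · intro x hx hodd
    refine ⟨⟨x, hx⟩, (hHd _).mpr ?_, rfl⟩
    exact hodd.of_dvd_nat ((orderOf_map_dvd (QuotientGroup.mk' N1) _).trans (dvd_of_eq (Subgroup.orderOf_mk _ _)))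
  · intro hs
    haveI : Group.IsSolvable Hd := Group.isSolvable_of_isSolvable_injective
      (f := (Hd.equivMapOfInjective D.subtype D.subtype_injective).toMonoidHom) (MulEquiv.injective _)
    haveI : Group.IsSolvable (D ⧸ Hd) := Group.isSolvable_of_comm fun x y => by
      induction x using QuotientGroup.induction_on with
      | H a =>
        induction y using QuotientGroup.induction_on with
        | H c =>
          rw [← QuotientGroup.mk_mul, ← QuotientGroup.mk_mul, QuotientGroup.eq]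
          exact hN1H (QuotientGroup.eq.mp (show ((a * c : D) : D ⧸ N1) = (c * a : D) by
            rw [QuotientGroup.mk_mul, QuotientGroup.mk_mul, habel]))
    exact Group.isSolvable_of_ker_le_range Hd.subtype (QuotientGroup.mk' Hd) (by
      rw [QuotientGroup.ker_mk', Subgroup.range_subtype])
  · intro M hM hN x hx
    obtain ⟨u, -, w, -, ⟨k, hk⟩, hw, e⟩ := CfsgLib.U34Char.exists_parts (⟨x, hx⟩ : D)
    have hwM : (w : G) ∈ M := hM ⟨w, (hHd w).mpr (hw.of_dvd_nat (orderOf_map_dvd (QuotientGroup.mk' N1) w)), rfl⟩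
    -- the two-part is congruent to an element of the Sylow subgroup
    have hu2 : IsPGroup 2 (Subgroup.zpowers u) := IsPGroup.of_card (n := k) (by rw [Nat.card_zpowers, hk])
    obtain ⟨P1, hP1⟩ := hu2.exists_le_sylow
    obtain ⟨d, hd⟩ := MulAction.exists_smul_eq D P1 P
    have h1 : d * u * d⁻¹ ∈ (P : Subgroup D) := by
      rw [← hd]
      exact Subgroup.smul_mem_pointwise_smul _ (MulAut.conj d) _ (hP1 (Subgroup.mem_zpowers u))
    have h2 : u * (d * u * d⁻¹)⁻¹ ∈ Hd := hN1H (Subgroup.mem_sup_left (by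
      have := Subgroup.commutator_mem_commutator (Subgroup.mem_top u) (Subgroup.mem_top d)
      rwa [commutatorElement_def, show u * d * u⁻¹ * d⁻¹ = u * (d * u * d⁻¹)⁻¹ by group] at this))
    have h3 : ((d * u * d⁻¹ : D) : G) ∈ M := hN (B.S_le_N (by
      obtain ⟨y, -, hye⟩ := (hP' _).mp h1
      exact hye ▸ B.mem_S y))
    have h4 : (u : G) ∈ M := by
      have := mul_mem (hM ⟨_, h2, rfl⟩ : ((u * (d * u * d⁻¹)⁻¹ : D) : G) ∈ M) h3
      rw [← Subgroup.coe_mul, inv_mul_cancel_right] at this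
      exact this
    have := mul_mem h4 hwM
    rwa [← Subgroup.coe_mul, ← e] at this

theorem half_pp (hF : B.Fused) {j : Fin 3} (hz : ¬ B.ZC (B.ι (W.pp j))) :
    ∃ D0 : Subgroup G, B.Half (B.ι (W.pp j)) D0 :=
  B.half_pp_of hz fun _ hh hA => B.not_fused_cent hF hz hh hA

/-- The same for every element of the subgroup of order sixteen not of central type. -/
theorem exists_half (hF : B.Fused) {f : G} (hf : f ∈ B.A) (hf1 : f ≠ 1) (hz : ¬ B.ZC f) :
    ∃ D0 : Subgroup G, B.Half f D0 := by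
  obtain ⟨n, hn, j, e⟩ := B.exists_pp hF hf hf1 hz
  obtain ⟨D0, h⟩ := B.half_pp hF (j := j) (e ▸ B.not_zc_conj hz n)
  refine ⟨D0.map (MulAut.conj n⁻¹).toMonoidHom, ?_⟩
  have := h.conj (inv_mem hn)
  rwa [show n⁻¹ * B.ι (W.pp j) * n⁻¹⁻¹ = f by rw [← e]; group] at this

end Base

end CfsgLib.A8Sylow
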