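import Cfsg.Agent.Lib.A8Sylow.Grid
import Cfsg.Agent.Lib.Basic
import Cfsg.Agent.Lib.PLocal.Constrained
import Cfsg.Agent.Lib.PLocal.SolvableSeparable

/-!
A solvable group with trivial core, a central involution and the fusion of the fused case.

Blueprint: `blueprint/S2918.md`, step 2.
-/

set_option autoImplicit false
set_option linter.style.haveILetI false
set_option linter.unusedSectionVars false

open Cfsg

namespace CfsgLib.A8Sylow

universe u

/-- The local hypotheses. -/
structure Loc (X : Type u) [Group X] where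
  /-- the embedding of the model -/
  ι : W →* X
  inj : Function.Injective ι
  sylow : ∃ S : Sylow 2 X, ι.range = (S : Subgroup X)
  zc : ∀ x : X, x * ι W.zz = ι W.zz * x
  hsol : Group.IsSolvable X
  hO : oddCore X = ⊥
  fus : ∀ j : Fin 3, ∃ (h : X) (y : W), W.inP y ∧ h * ι (W.gg j) * h⁻¹ = ι y

namespace Loc

variable {X : Type u} [Group X] [Finite X] (L : Loc X)

theorem centralizer_le (L : Loc X) : Subgroup.centralizer (pCore 2 X : Set X) ≤ pCore 2 X := by
  haveI : Fact (Nat.Prime 2) := ⟨Nat.prime_two⟩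
  haveI := L.hsol
  exact CfsgLib.PLocal.centralizer_pCore_le_of_isPSolvable L.hO
    (CfsgLib.PLocal.isPSolvable_of_isSolvable _ _ rfl inferInstance)

theorem pCore_le_range {P : Subgroup X} (hP : IsPGroup 2 P) [P.Normal] : P ≤ L.ι.range := by
  obtain ⟨S, hS⟩ := L.sylow
  rw [hS]
  exact (S.3 (hP.to_sup_of_normal_left S.isPGroup') le_sup_right).le.trans' le_sup_left

theorem exists_pre {x : X} (hx : x ∈ pCore 2 X) : ∃ w, L.ι w = x :=
  L.pCore_le_range (CfsgLib.isPGroup_pCore 2) hx

theorem mul_mem_pre {v w : W} (hv : L.ι v ∈ pCore 2 X) (hw : L.ι w ∈ pCore 2 X) : L.ι (v * w) ∈ pCore 2 X := by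
  rw [map_mul]; exact mul_mem hv hw

theorem comm_mem_pre {c w : W} (hw : L.ι w ∈ pCore 2 X) : L.ι (c * w * c⁻¹ * w⁻¹) ∈ pCore 2 X := by
  simp only [map_mul, map_inv]
  exact mul_mem ((inferInstance : (pCore 2 X).Normal).conj_mem _ hw _) (inv_mem hw)

/-- An odd element fixing a group modulo a central involution fixes it. -/
theorem comm_of_odd {k q e : X} (hk : Odd (orderOf k)) (he : e * e = 1) (hc : k * e = e * k)
    (h : k * q * k⁻¹ = e * q) : k * q = q * k := by
  have hn : ∀ n : ℕ, k ^ n * q * (k ^ n)⁻¹ = e ^ n * q := fun n => by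
    induction n with
    | zero => simp
    | succ n ih =>
      rw [pow_succ', pow_succ, show k * k ^ n * q * (k * k ^ n)⁻¹ = k * (k ^ n * q * (k ^ n)⁻¹) * k⁻¹ by group, ih]
      have hcn : k * e ^ n = e ^ n * k := (Commute.pow_right hc n).eq
      calc k * (e ^ n * q) * k⁻¹ = k * e ^ n * q * k⁻¹ := by group
        _ = e ^ n * (k * q * k⁻¹) := by rw [hcn]; group
        _ = e ^ n * e * q := by rw [h, ← mul_assoc]
  obtain ⟨m, hm⟩ := hk
  have h1 := hn (orderOf k)
  rw [pow_orderOf_eq_one, one_mul, inv_one, mul_one, hm, pow_succ, pow_mul, pow_two, he, one_pow, one_mul,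
    right_eq_mul] at h1
  rw [h1, one_mul, mul_inv_eq_iff_eq_mul] at h
  exact h

/-- An element fixing the core modulo the centre lies in it. -/
theorem mem_pCore_of_triv {x : X}
    (h : ∀ q ∈ pCore 2 X, x * q * x⁻¹ = q ∨ x * q * x⁻¹ = L.ι W.zz * q) : x ∈ pCore 2 X := by
  haveI : Fact (Nat.Prime 2) := ⟨Nat.prime_two⟩
  set e := L.ι W.zz
  have he : e * e = 1 := by rw [← map_mul, W.zz_facts.1, map_one]
  let K : Subgroup X :=
    { carrier := {y | ∀ q ∈ pCore 2 X, y * q * y⁻¹ = q ∨ y * q * y⁻¹ = e * q}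
      one_mem' := fun q _ => .inl (by group)
      mul_mem' := fun {a b} ha hb q hq => by
        rw [show a * b * q * (a * b)⁻¹ = a * (b * q * b⁻¹) * a⁻¹ by group]
        rcases hb q hq with h1 | h1 <;> rcases ha q hq with h2 | h2 <;> rw [h1]
        · exact .inl h2
        · exact .inr h2
        · refine .inr ?_
          rw [show a * (e * q) * a⁻¹ = a * e * a⁻¹ * (a * q * a⁻¹) by group, h2, L.zc a, mul_inv_cancel_right]
        · refine .inl ?_
          rw [show a * (e * q) * a⁻¹ = a * e * a⁻¹ * (a * q * a⁻¹) by group, h2, L.zc a, mul_inv_cancel_right,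
            ← mul_assoc, he, one_mul]
      inv_mem' := fun {a} ha q hq => by
        have hq' : a⁻¹ * q * a⁻¹⁻¹ ∈ pCore 2 X := (inferInstance : (pCore 2 X).Normal).conj_mem _ hq _
        rcases ha _ hq' with h1 | h1
        · exact .inl (h1.symm.trans (by group))
        · refine .inr ?_
          rw [show a * (a⁻¹ * q * a⁻¹⁻¹) * a⁻¹ = q by group] at h1
          calc a⁻¹ * q * a⁻¹⁻¹ = e * (e * (a⁻¹ * q * a⁻¹⁻¹)) := by rw [← mul_assoc, he, one_mul]
            _ = e * q := by rw [← h1] }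
  haveI hKn : K.Normal := ⟨fun y hy g q hq => by
    have hq' : g⁻¹ * q * g⁻¹⁻¹ ∈ pCore 2 X := (inferInstance : (pCore 2 X).Normal).conj_mem _ hq _
    rw [show g * y * g⁻¹ * q * (g * y * g⁻¹)⁻¹ = g * (y * (g⁻¹ * q * g⁻¹⁻¹) * y⁻¹) * g⁻¹ by group]
    rcases hy _ hq' with h1 | h1
    · exact .inl (by rw [h1]; group)
    · refine .inr ?_
      rw [h1, show g * (e * (g⁻¹ * q * g⁻¹⁻¹)) * g⁻¹ = g * e * g⁻¹ * q by group, L.zc g, mul_inv_cancel_right]⟩
  refine CfsgLib.le_pCore (N := K) (fun ⟨y, hy⟩ => ?_) h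
  obtain ⟨a, m, hm, hord⟩ := Nat.exists_eq_two_pow_mul_odd (orderOf_pos y).ne'
  refine ⟨a, Subtype.ext ?_⟩
  show y ^ 2 ^ a = 1
  set k := y ^ 2 ^ a
  have hk : Odd (orderOf k) := by
    refine hm.of_dvd_nat (orderOf_dvd_of_pow_eq_one ?_)
    rw [← pow_mul, ← hord, pow_orderOf_eq_one]
  have hkK : k ∈ K := pow_mem hy _
  have hkC : k ∈ Subgroup.centralizer (pCore 2 X : Set X) := Subgroup.mem_centralizer_iff.mpr fun q hq => by
    rcases hkK q hq with h1 | h1
    · exact (mul_inv_eq_iff_eq_mul.mp h1).symm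
    · exact (comm_of_odd hk he (L.zc k) h1).symm
  obtain ⟨i, hi⟩ := CfsgLib.isPGroup_pCore 2 ⟨k, L.centralizer_le hkC⟩
  have hi' : orderOf k ∣ 2 ^ i := orderOf_dvd_of_pow_eq_one (congrArg Subtype.val hi)
  exact orderOf_eq_one_iff.mp
    (Nat.eq_one_of_dvd_coprimes (Nat.coprime_two_left.mpr hk |>.pow_left i) hi' dvd_rfl)

/-- The core contains the commutator subgroup. -/
theorem P_le {w : W} (hw : W.inP w) : L.ι w ∈ pCore 2 X := by
  classical
  have hn : (pCore 2 X).Normal := inferInstance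
  -- what a second piece would give
  have hPall : ∀ j k : Fin 3, j ≠ k → L.ι (W.pp j) ∈ pCore 2 X → L.ι (W.pp k) ∈ pCore 2 X →
      L.ι W.zz ∈ pCore 2 X → L.ι w ∈ pCore 2 X := fun j k hjk hj hk hz => by
    rcases W.P_gen j k hjk w hw with rfl | rfl | rfl | rfl | rfl | rfl | rfl | rfl
    · rw [map_one]; exact one_mem _
    · exact hz
    · exact hj
    · exact L.mul_mem_pre hj hz
    · exact hk
    · exact L.mul_mem_pre hk hz
    · exact L.mul_mem_pre hj hk
    · exact L.mul_mem_pre (L.mul_mem_pre hj hk) hz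
  by_cases hA : ∀ x : W, L.ι x ∈ pCore 2 X → W.inA x
  · -- the core would be the subgroup of order sixteen
    have hAQ : ∀ a : W, W.inA a → L.ι a ∈ pCore 2 X := fun a ha => L.centralizer_le
      (Subgroup.mem_centralizer_iff.mpr fun q hq => by
        obtain ⟨v, rfl⟩ := L.exists_pre hq
        rw [← map_mul, ← map_mul, W.inA_comm v a (hA v hq) ha])
    exact hAQ w (by rw [W.inR_facts.2.2.2 w, Bool.and_eq_true] at hw; exact hw.1)
  push Not at hA
  obtain ⟨x, hx, hxA⟩ := hA
  obtain ⟨j, hj, ⟨a, ha⟩, b, hb⟩ := W.comm_outer x (Bool.eq_false_iff.mpr hxA)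
  have hpj : L.ι (W.pp j) ∈ pCore 2 X := ha ▸ L.comm_mem_pre hx
  have hz : L.ι W.zz ∈ pCore 2 X := hb ▸ L.comm_mem_pre hx
  by_contra hnw
  -- every element lies over the same operation
  have hop : ∀ y : W, L.ι y ∈ pCore 2 X → W.inA y = false → W.inA (y * W.gg j) := fun y hy hyA => by
    obtain ⟨k, hk, ⟨c, hc⟩, -⟩ := W.comm_outer y hyA
    rcases eq_or_ne j k with rfl | hjk
    · exact hk
    · exact absurd (hPall j k hjk hpj (hc ▸ L.comm_mem_pre hy) hz) hnw
  -- the part in the subgroup of order sixteen is the four group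
  have hfour : ∀ e : W, L.ι e ∈ pCore 2 X → W.inA e → e = 1 ∨ e = W.zz ∨ e = W.pp j ∨ e = W.pp j * W.zz := by
    intro e he heA
    by_cases heP : W.inP e
    · rcases W.P_four j e heP with h | h | h | h | h
      · exact .inl h
      · exact .inr (.inl h)
      · exact .inr (.inr (.inl h))
      · exact .inr (.inr (.inr h))
      obtain ⟨f, hf, hwf⟩ := h w hw
      refine absurd ?_ hnw
      have hfQ : L.ι f ∈ pCore 2 X := by
        rcases hf with rfl | rfl | rfl | rfl
        · rw [map_one]; exact one_mem _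
        · exact hz
        · exact hpj
        · exact L.mul_mem_pre hpj hz
      rcases hwf with rfl | rfl
      · exact hfQ
      · exact L.mul_mem_pre hfQ he
    · obtain ⟨k, hk⟩ := (⟨if j = 0 then 1 else 0, by split_ifs with h <;> simp [h]⟩ : ∃ k : Fin 3, j ≠ k)
      obtain ⟨c, hc⟩ := W.comm_mid e heA (Bool.eq_false_iff.mpr heP) k
      refine absurd (hPall j k hk hpj ?_ hz) hnw
      rcases hc with hc | hc
      · exact hc ▸ L.comm_mem_pre he
      · have h := L.mul_mem_pre (hc ▸ L.comm_mem_pre (c := c) he : L.ι (W.pp k * W.zz) ∈ pCore 2 X) hz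
        rwa [mul_assoc, W.zz_facts.1, mul_one] at h
  have hform : ∀ y : W, L.ι y ∈ pCore 2 X →
      ∃ e : W, (e = 1 ∨ e = W.zz ∨ e = W.pp j ∨ e = W.pp j * W.zz) ∧ (y = e ∨ y = e * x) := by
    intro y hy
    by_cases hyA : W.inA y
    · exact ⟨y, hfour y hy hyA, .inl rfl⟩
    · refine ⟨y * x⁻¹, hfour _ (L.mul_mem_pre hy (by rw [map_inv]; exact inv_mem hx)) ?_, .inr (by group)⟩
      have h1 := hop y hy (Bool.eq_false_iff.mpr hyA)
      have h2 := W.inA_facts.2.1 _ _ h1 (W.inA_facts.2.2.2 _ 1 hj)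
      have h3 : (x * W.gg j) * (x * W.gg j) = 1 := W.inA_facts.2.2.1 _ hj
      have : y * W.gg j * (1 * (x * W.gg j) * 1⁻¹) = y * x⁻¹ := by
        rw [one_mul, inv_one, mul_one, eq_inv_of_mul_eq_one_left h3]
        group
      rwa [this] at h2
  obtain ⟨v, hv, hvx, hvp⟩ := W.small_core j x (Bool.eq_false_iff.mpr hxA) hj
  have hzz : ∀ c : W, c * W.zz * c⁻¹ = W.zz := fun c => by rw [W.zz_comm c]; group
  have htriv : L.ι v ∈ pCore 2 X := by
    refine L.mem_pCore_of_triv fun q hq => ?_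
    obtain ⟨y, rfl⟩ := L.exists_pre hq
    obtain ⟨e, he, hye⟩ := hform y hq
    have key : v * y * v⁻¹ = y ∨ v * y * v⁻¹ = W.zz * y := by
      have he' : v * e * v⁻¹ = e ∨ v * e * v⁻¹ = W.zz * e := by
        rcases he with rfl | rfl | rfl | rfl
        · exact .inl (by group)
        · exact .inl (hzz v)
        · exact hvp.imp_right fun h => h.trans (W.zz_comm _)
        · rw [show v * (W.pp j * W.zz) * v⁻¹ = v * W.pp j * v⁻¹ * (v * W.zz * v⁻¹) by group, hzz v]
          refine hvp.imp (fun h => by rw [h]) fun h => ?_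
          rw [h, ← mul_assoc, ← W.zz_comm (W.pp j)]
      rcases hye with rfl | rfl
      · exact he'
      rw [show v * (e * x) * v⁻¹ = v * e * v⁻¹ * (v * x * v⁻¹) by group]
      rcases he' with h1 | h1 <;> rcases hvx with h2 | h2 <;> rw [h1, h2]
      · exact .inl rfl
      · exact .inr (by rw [← mul_assoc]; exact W.zz_comm _)
      · exact .inr (by rw [mul_assoc])
      · refine .inl ?_
        rw [mul_assoc W.zz e, ← mul_assoc e x, W.zz_comm (e * x), ← mul_assoc, W.zz_facts.1, one_mul]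
    rcases key with h | h
    · exact .inl (by rw [← map_inv, ← map_mul, ← map_mul, h])
    · exact .inr (by rw [← map_inv, ← map_mul, ← map_mul, h, map_mul])
  obtain ⟨e, he, h⟩ := hform v htriv
  rcases h with h | h
  · exact (hv e he).1 h
  · exact (hv e he).2 h

/-- The core is the extraspecial subgroup. -/
theorem pCore_eq : pCore 2 X = W.Rsub.map L.ι := by
  have hn : (pCore 2 X).Normal := inferInstance
  have hR : ∀ x : W, W.inR x → L.ι x ∈ pCore 2 X := fun x hx => by
    rcases W.R_cases x hx with h | ⟨j, h⟩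
    · exact L.P_le h
    · obtain ⟨c, y, hy, e⟩ := L.fus j
      have hg : L.ι (W.gg j) ∈ pCore 2 X := by
        have := hn.conj_mem _ (L.P_le hy) c⁻¹
        rw [← e] at this
        simpa [mul_assoc] using this
      have := L.mul_mem_pre (L.P_le h) (by rw [map_inv]; exact inv_mem hg : L.ι (W.gg j)⁻¹ ∈ pCore 2 X)
      rwa [mul_inv_cancel_right] at this
  refine le_antisymm (fun x hx => ?_) (by rintro _ ⟨w, hw, rfl⟩; exact hR w hw)
  obtain ⟨w, rfl⟩ := L.exists_pre hx
  refine ⟨w, ?_, rfl⟩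
  by_contra hw
  have hall : ∀ v : W, L.ι v ∈ pCore 2 X := fun v => by
    by_cases hv : W.inR v
    · exact hR v hv
    · have h := L.mul_mem_pre (hR _ (W.notR_gen w v (Bool.eq_false_iff.mpr hw) (Bool.eq_false_iff.mpr hv))) hx
      rwa [inv_mul_cancel_right] at h
  -- the subgroup of order sixteen would be normal
  obtain ⟨c, y, hy, e⟩ := L.fus 0
  have hA : ∀ a : W, W.inA a → ∀ d : X, ∃ b : W, W.inA b ∧ d * L.ι a * d⁻¹ = L.ι b := fun a ha d => by
    choose f hf using fun v : W => L.exists_pre (hn.conj_mem _ (hall v) d)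
    refine ⟨f a, ?_, (hf a).symm⟩
    refine W.image_inA (f := f) (fun u v h => ?_) (fun u v => L.inj ?_) a ha
    · have h1 := hf u
      rw [h, hf v] at h1
      exact (L.inj (mul_left_cancel (mul_right_cancel h1))).symm
    · rw [map_mul, hf, hf, hf, map_mul]; group
  obtain ⟨b, hb, hbe⟩ := hA y (by rw [W.inR_facts.2.2.2 y, Bool.and_eq_true] at hy; exact hy.1) c⁻¹
  have : b = W.gg 0 := L.inj (by rw [← hbe, ← e]; group)
  rw [this] at hb
  exact absurd hb (by decide)

end Loc

end CfsgLib.A8Sylow
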