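import Mathlib

/-!
The Sylow 2-subgroup of `A₈` as the split extension of the `2 × 2` matrices over `F₂` by a four-group of row and
column operations.

Blueprint: `blueprint/S2918.md`.
-/

set_option autoImplicit false
set_option maxRecDepth 100000
set_option linter.style.haveILetI false

namespace CfsgLib.A8Sylow

/-- An element: the four entries, the row operation and the column operation. -/
structure W where
  /-- entry 11 -/
  a : Bool
  /-- entry 12 -/
  b : Bool
  /-- entry 21 -/
  c : Bool
  /-- entry 22 -/
  d : Bool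
  /-- row operation -/
  s : Bool
  /-- column operation -/
  t : Bool
  deriving DecidableEq, Fintype

namespace W

/-- The product. -/
def wmul (x y : W) : W :=
  ⟨x.a ^^ (y.a ^^ (x.s && y.c)), x.b ^^ ((y.b ^^ (x.s && y.d)) ^^ (x.t && (y.a ^^ (x.s && y.c)))),
    x.c ^^ y.c, x.d ^^ (y.d ^^ (x.t && y.c)), x.s ^^ y.s, x.t ^^ y.t⟩

instance : Mul W := ⟨wmul⟩

instance : One W := ⟨⟨false, false, false, false, false, false⟩⟩

instance : Inv W :=
  ⟨fun x => ⟨x.a ^^ (x.s && x.c), (x.b ^^ (x.s && x.d)) ^^ (x.t && (x.a ^^ (x.s && x.c))), x.c,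
    x.d ^^ (x.t && x.c), x.s, x.t⟩⟩

theorem mul_assoc' : ∀ x y z : W, x * y * z = x * (y * z) := by
  rintro ⟨a, b, c, d, s, t⟩ ⟨a', b', c', d', s', t'⟩ ⟨a'', b'', c'', d'', s'', t''⟩
  show wmul (wmul _ _) _ = wmul _ (wmul _ _)
  cases s <;> cases t <;> cases s' <;> cases t' <;> simp [wmul, Bool.xor_left_comm] <;>
    cases a'' <;> cases b'' <;> rfl

theorem one_mul' : ∀ x : W, 1 * x = x := by decide +kernel

theorem mul_one' : ∀ x : W, x * 1 = x := by decide +kernel

theorem inv_mul' : ∀ x : W, x⁻¹ * x = 1 := by decide +kernel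

instance : Group W where
  mul_assoc := mul_assoc'
  one_mul := one_mul'
  mul_one := mul_one'
  inv_mul_cancel := inv_mul'

theorem card : Nat.card W = 64 := by rw [Nat.card_eq_fintype_card]; decide +kernel

/-- The central involution. -/
def zz : W := ⟨false, true, false, false, false, false⟩

/-- The three involutions fixed by one operation. -/
def p1 : W := ⟨true, false, false, false, false, false⟩

/-- See `p1`. -/
def p2 : W := ⟨false, false, false, true, false, false⟩

/-- See `p1`. -/
def p3 : W := ⟨true, false, false, true, false, false⟩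

/-- The row operation. -/
def g1 : W := ⟨false, false, false, false, true, false⟩

/-- The column operation. -/
def g2 : W := ⟨false, false, false, false, false, true⟩

/-- Their product. -/
def g3 : W := ⟨false, false, false, false, true, true⟩

/-- A matrix outside the commutator subgroup. -/
def mm : W := ⟨false, false, true, false, false, false⟩

/-- The elementary abelian subgroup of order sixteen. -/
def inA (x : W) : Bool := !x.s && !x.t

/-- The commutator of the operations with the matrices. -/
def inP (x : W) : Bool := !x.s && !x.t && !x.c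

/-- The extraspecial subgroup. -/
def inR (x : W) : Bool := !x.c

/-- The operation of an element. -/
def op (x : W) : Bool × Bool := (x.s, x.t)

/-- The three fours. -/
def inW1 (x : W) : Bool := inA x && !x.c && !x.d

/-- See `inW1`. -/
def inW2 (x : W) : Bool := inA x && !x.c && !x.a

/-- See `inW1`. -/
def inW3 (x : W) : Bool := inA x && !x.c && (x.a == x.d)

/-- The permutation representation. -/
def perm (x : W) : Equiv.Perm (Fin 8) :=
  (if x.a then Equiv.swap 0 1 * Equiv.swap 2 3 else 1) *
    (if x.b then Equiv.swap 0 1 * Equiv.swap 2 3 * (Equiv.swap 4 5 * Equiv.swap 6 7) else 1) *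
    (if x.c then Equiv.swap 0 2 * Equiv.swap 1 3 else 1) *
    (if x.d then Equiv.swap 0 2 * Equiv.swap 1 3 * (Equiv.swap 4 6 * Equiv.swap 5 7) else 1) *
    (if x.s then Equiv.swap 0 1 * Equiv.swap 4 5 else 1) *
    (if x.t then Equiv.swap 0 4 * Equiv.swap 1 5 * Equiv.swap 2 6 * Equiv.swap 3 7 else 1)

theorem perm_mul : ∀ x y : W, ∀ i, perm (x * y) i = perm x (perm y i) := by decide +kernel

theorem perm_sign : ∀ x : W, Equiv.Perm.sign (perm x) = 1 := by decide +kernel

theorem perm_faithful : ∀ x : W, (∀ i, perm x i = i) → x = 1 := by decide +kernel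

/-- The embedding in `A₈`. -/
def toA8 : W →* alternatingGroup (Fin 8) where
  toFun x := ⟨perm x, Equiv.Perm.mem_alternatingGroup.mpr (perm_sign x)⟩
  map_one' := Subtype.ext (Equiv.ext (by decide +kernel))
  map_mul' x y := Subtype.ext (Equiv.ext fun i => perm_mul x y i)

theorem toA8_injective : Function.Injective toA8 := (injective_iff_map_eq_one _).mpr fun x h =>
  perm_faithful x fun i => by
    have := congrArg (fun p : alternatingGroup (Fin 8) => (p : Equiv.Perm (Fin 8)) i) h
    simpa [toA8] using this

/-- The Sylow 2-subgroups of `A₈`. -/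
theorem exists_sylow : ∃ P : Sylow 2 ↥(alternatingGroup (Fin 8)),
    Nonempty (W ≃* ↥(P : Subgroup ↥(alternatingGroup (Fin 8)))) := by
  haveI : Fact (Nat.Prime 2) := ⟨Nat.prime_two⟩
  have hA8 : Nat.card (alternatingGroup (Fin 8)) = 20160 := by
    rw [nat_card_alternatingGroup, Nat.card_eq_fintype_card, Fintype.card_fin]; rfl
  have hc : Nat.card toA8.range = 2 ^ (Nat.card (alternatingGroup (Fin 8))).factorization 2 := by
    rw [← Nat.card_congr (MonoidHom.ofInjective toA8_injective).toEquiv, card, hA8,
      show (20160 : ℕ) = 2 ^ 6 * 315 by norm_num, Nat.factorization_mul (by norm_num) (by norm_num),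
      Finsupp.add_apply, Nat.Prime.factorization_pow Nat.prime_two, Finsupp.single_eq_same,
      Nat.factorization_eq_zero_of_not_dvd (by norm_num : ¬ 2 ∣ 315)]
    norm_num
  exact ⟨Sylow.ofCard _ hc, ⟨MonoidHom.ofInjective toA8_injective⟩⟩

end W

end CfsgLib.A8Sylow
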