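import Cfsg.Agent.Lib.A8Sylow.Core

/-!
The unfused case: the centraliser of the central involution normalises the subgroup of order sixteen modulo its core,
and every centraliser of an involution of it lies in a local subgroup.

Blueprint: `blueprint/S2918.md`, step 4.
-/

set_option autoImplicit false
set_option maxRecDepth 100000
set_option linter.style.haveILetI false
set_option linter.unusedSectionVars false

open Cfsg

namespace CfsgLib.A8Sylow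

open CfsgLib.L34Sylow (oddC oddC_le oddC_comm oddC_conj oddC_normal odd_oddC Wf oddC_le_Wf Wf_le Wf_spec le_oddC)

universe u

namespace W

theorem outer_comm_zz : ∀ y : W, outer y → ∀ u v : W, u * y = y * u → v * y = y * v →
    u * v * u⁻¹ * v⁻¹ = 1 ∨ u * v * u⁻¹ * v⁻¹ = zz := by decide +kernel

theorem inV_inA_comm : ∀ (j : Fin 3) (w : W), inV j w → inA w → gg j * w = w * gg j := by decide +kernel

end W

/-- An element fixing a normal elementary subgroup of the core and the quotient lies in the core. -/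
theorem mem_pCore_of_stab {X : Type u} [Group X] [Finite X]
    (hc : Subgroup.centralizer (pCore 2 X : Set X) ≤ pCore 2 X) {Bs : Subgroup X} (hBn : Bs.Normal)
    (hBle : Bs ≤ pCore 2 X) (hBsq : ∀ b ∈ Bs, b * b = 1) {x : X} (hx1 : ∀ b ∈ Bs, x * b = b * x)
    (hx2 : ∀ q ∈ pCore 2 X, x * q * x⁻¹ * q⁻¹ ∈ Bs) : x ∈ pCore 2 X := by
  haveI : Fact (Nat.Prime 2) := ⟨Nat.prime_two⟩
  let K : Subgroup X :=
    { carrier := {y | (∀ b ∈ Bs, y * b = b * y) ∧ ∀ q ∈ pCore 2 X, y * q * y⁻¹ * q⁻¹ ∈ Bs}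
      one_mem' := ⟨fun b _ => by simp, fun q _ => by simp⟩
      mul_mem' := fun {a c} ha hc => ⟨fun b hb => by rw [mul_assoc, hc.1 b hb, ← mul_assoc, ha.1 b hb, mul_assoc],
        fun q hq => by
          rw [show a * c * q * (a * c)⁻¹ * q⁻¹ = a * (c * q * c⁻¹ * q⁻¹) * a⁻¹ * (a * q * a⁻¹ * q⁻¹) by group]
          exact mul_mem (hBn.conj_mem _ (hc.2 q hq) a) (ha.2 q hq)⟩
      inv_mem' := fun {a} ha => ⟨fun b hb => ((show Commute a b from ha.1 b hb).inv_left).eq, fun q hq => by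
        have h := hBn.conj_mem _ (inv_mem (ha.2 q hq)) a⁻¹
        rwa [show a⁻¹ * (a * q * a⁻¹ * q⁻¹)⁻¹ * a⁻¹⁻¹ = a⁻¹ * q * a⁻¹⁻¹ * q⁻¹ by group] at h⟩ }
  haveI hKn : K.Normal := ⟨fun y hy g => ⟨fun b hb => by
    have h := hy.1 _ (hBn.conj_mem b hb g⁻¹)
    calc g * y * g⁻¹ * b = g * (y * (g⁻¹ * b * g⁻¹⁻¹)) * g⁻¹ := by group
      _ = b * (g * y * g⁻¹) := by rw [h]; group, fun q hq => by
    have h := hBn.conj_mem _ (hy.2 _ ((inferInstance : (pCore 2 X).Normal).conj_mem q hq g⁻¹)) g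
    rwa [show g * (y * (g⁻¹ * q * g⁻¹⁻¹) * y⁻¹ * (g⁻¹ * q * g⁻¹⁻¹)⁻¹) * g⁻¹ =
      g * y * g⁻¹ * q * (g * y * g⁻¹)⁻¹ * q⁻¹ by group] at h⟩⟩
  refine CfsgLib.le_pCore (N := K) (fun ⟨y, hy⟩ => ?_) ⟨hx1, hx2⟩
  obtain ⟨a, m, hm, hord⟩ := Nat.exists_eq_two_pow_mul_odd (orderOf_pos y).ne'
  refine ⟨a, Subtype.ext ?_⟩
  show y ^ 2 ^ a = 1
  set k := y ^ 2 ^ a
  have hk : Odd (orderOf k) := by
    refine hm.of_dvd_nat (orderOf_dvd_of_pow_eq_one ?_)
    rw [← pow_mul, ← hord, pow_orderOf_eq_one]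
  have hkK : k ∈ K := pow_mem hy _
  have hkC : k ∈ Subgroup.centralizer (pCore 2 X : Set X) := Subgroup.mem_centralizer_iff.mpr fun q hq => by
    have h1 := hkK.2 q hq
    exact (Loc.comm_of_odd (e := k * q * k⁻¹ * q⁻¹) hk (hBsq _ h1) (hkK.1 _ h1) (by group)).symm
  obtain ⟨i, hi⟩ := CfsgLib.isPGroup_pCore 2 ⟨k, hc hkC⟩
  exact orderOf_eq_one_iff.mp (Nat.eq_one_of_dvd_coprimes (Nat.coprime_two_left.mpr hk |>.pow_left i)
    (orderOf_dvd_of_pow_eq_one (congrArg Subtype.val hi)) dvd_rfl)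

namespace Base

variable {G : Type u} [Group G] [Finite G] (B : Base G)

/-- The model in `C(z)` modulo its core. -/
noncomputable def qι : W →* ↥(Subgroup.centralizer ({B.z} : Set G)) ⧸ pPrimeCore 2 ↥(Subgroup.centralizer ({B.z} : Set G)) :=
  (QuotientGroup.mk' _).comp (B.ι.codRestrict _ fun w => B.mem_C.mpr (B.comm_z w))

theorem qι_mk (w : W) : B.qι w = QuotientGroup.mk' _ ⟨B.ι w, B.mem_C.mpr (B.comm_z w)⟩ := rfl

theorem qι_inj : Function.Injective B.qι := (injective_iff_map_eq_one _).mpr fun w hw => by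
  haveI : Fact (Nat.Prime 2) := ⟨Nat.prime_two⟩
  obtain ⟨i, hi⟩ := (IsPGroup.of_card (p := 2) (G := W) (n := 6) W.card) w
  have h1 := (QuotientGroup.eq_one_iff _).mp hw
  refine B.ι_eq_one.mp (orderOf_eq_one_iff.mp (Nat.eq_one_of_dvd_coprimes (a := 2 ^ i)
    (b := Nat.card (pPrimeCore 2 ↥(Subgroup.centralizer ({B.z} : Set G)))) ?_
    (orderOf_dvd_of_pow_eq_one (by rw [← map_pow, hi, map_one])) ?_))
  · exact Nat.Coprime.pow_left i (CfsgLib.card_pPrimeCore_coprime 2).symm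
  · rw [show B.ι w = ((B.ι.codRestrict _ fun w => B.mem_C.mpr (B.comm_z w)) w : G) from rfl, Subgroup.orderOf_coe]
    exact Subgroup.orderOf_dvd_natCard _ h1

theorem isPGroup_zpowers_ι {t : W} (ht : t * t = 1) : IsPGroup 2 (Subgroup.zpowers (B.ι t)) := fun ⟨y, hy⟩ => by
  obtain ⟨n, rfl⟩ := Subgroup.mem_zpowers_iff.mp hy
  refine ⟨1, Subtype.ext ?_⟩
  show (B.ι t ^ n) ^ 2 ^ 1 = 1
  rw [pow_one, pow_two, ← zpow_add, ← two_mul, zpow_mul, zpow_two, ← map_mul, ht, map_one, one_zpow]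

/-- Strong closure modulo the core. -/
theorem qclosed (hF : ¬ B.Fused) {a : W} (ha : W.inA a)
    (x : ↥(Subgroup.centralizer ({B.z} : Set G)) ⧸ pPrimeCore 2 ↥(Subgroup.centralizer ({B.z} : Set G))) {w : W}
    (h : x * B.qι a * x⁻¹ = B.qι w) : W.inA w := by
  haveI : Fact (Nat.Prime 2) := ⟨Nat.prime_two⟩
  obtain ⟨⟨c, hc⟩, rfl⟩ := QuotientGroup.mk'_surjective _ x
  rw [B.qι_mk, B.qι_mk, ← map_inv, ← map_mul, ← map_mul] at h
  have h' := B.mk_eq h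
  simp only [Subgroup.coe_mul, Subgroup.coe_inv] at h'
  have ha2 := W.inA_facts.2.2.1 a ha
  by_cases ha1 : a = 1
  · subst ha1
    have h1 : B.qι w = 1 := by
      rw [B.qι_mk, ← h, show (⟨B.ι (1 : W), B.mem_C.mpr (B.comm_z 1)⟩ : ↥(Subgroup.centralizer ({B.z} : Set G))) = 1 from
        Subtype.ext (map_one _), mul_one, mul_inv_cancel, map_one]
    rw [B.qι_inj (h1.trans (map_one B.qι).symm)]
    exact W.inA_facts.1
  have hw2 : w * w = 1 := by
    refine B.qι_inj ?_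
    rw [map_mul, map_one, B.qι_mk, ← h, ← map_mul]
    refine (congrArg _ ?_).trans (map_one _)
    refine Subtype.ext ?_
    show c * B.ι a * c⁻¹ * (c * B.ι a * c⁻¹) = 1
    rw [show c * B.ι a * c⁻¹ * (c * B.ι a * c⁻¹) = c * (B.ι a * B.ι a) * c⁻¹ by group, ← map_mul, ha2, map_one]
    group
  obtain ⟨o, ho, hoP⟩ := exists_conj_odd (CfsgLib.CharTwoEarly.odd_core B.z)
    ((B.isPGroup_zpowers_ι ha2).map (MulAut.conj c).toMonoidHom) (B.isPGroup_zpowers_ι hw2)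
    (B.le_normalizer_core (Subgroup.zpowers_le.mpr (B.mem_C.mpr (B.comm_z w)))) (by
      rw [MonoidHom.map_zpowers, Subgroup.zpowers_le]
      show c * B.ι a * c⁻¹ ∈ _
      rw [← inv_mul_cancel_right (c * B.ι a * c⁻¹) (B.ι w)]
      exact mul_mem (Subgroup.mem_sup_left h') (Subgroup.mem_sup_right (Subgroup.mem_zpowers _)))
  obtain ⟨n, hn⟩ := Subgroup.mem_zpowers_iff.mp (hoP _ ⟨_, Subgroup.mem_zpowers (B.ι a), rfl⟩)
  have hn' : B.ι w ^ n = o * c * B.ι a * (o * c)⁻¹ := by rw [hn]; simp [mul_assoc]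
  rcases Int.even_or_odd n with ⟨k, rfl⟩ | ⟨k, rfl⟩
  · exfalso
    rw [← two_mul, zpow_mul, zpow_two, ← map_mul, hw2, map_one, one_zpow, eq_comm, conj_eq_one_iff] at hn'
    exact ha1 (B.ι_eq_one.mp hn')
  · rw [zpow_add, zpow_mul, zpow_two, ← map_mul, hw2, map_one, one_zpow, one_mul, zpow_one] at hn'
    exact B.mem_A_iff.mp (hn' ▸ B.closed_A hF ha (g := o * c) (hn' ▸ B.mem_S w))

/-- In the unfused case `C(z)` is the product of its core and the normaliser of the subgroup of order sixteen. -/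
theorem cent_z_decomp (hF : ¬ B.Fused) {c : G} (hc : c * B.z = B.z * c) :
    ∃ o ∈ oddC B.z, o * c ∈ Subgroup.normalizer (B.A : Set G) := by
  classical
  haveI : Fact (Nat.Prime 2) := ⟨Nat.prime_two⟩
  set C := Subgroup.centralizer ({B.z} : Set G)
  set X := ↥C ⧸ pPrimeCore 2 ↥C
  haveI hsolC : Group.IsSolvable ↥C := B.hsol
  haveI : Group.IsSolvable X := Group.isSolvable_of_surjective (QuotientGroup.mk'_surjective _)
  have hCle : Subgroup.centralizer (pCore 2 X : Set X) ≤ pCore 2 X :=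
    CfsgLib.PLocal.centralizer_pCore_le_of_isPSolvable (CfsgLib.pPrimeCore_quotient_eq_bot 2)
      (CfsgLib.PLocal.isPSolvable_of_isSolvable _ _ rfl inferInstance)
  let T : Sylow 2 X := (B.S.subtype B.S_le_cent).mapSurjective (QuotientGroup.mk'_surjective _)
  have hQ : ∀ q ∈ pCore 2 X, ∃ w, B.qι w = q := fun q hq => by
    have h1 := (T.3 ((CfsgLib.isPGroup_pCore 2).to_sup_of_normal_left T.isPGroup') le_sup_right).le
      (Subgroup.mem_sup_left hq)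
    rw [Sylow.coe_mapSurjective] at h1
    obtain ⟨⟨s, hs⟩, hsS, rfl⟩ := h1
    obtain ⟨w, rfl⟩ := B.exists_eq (show s ∈ (B.S : Subgroup G) from hsS)
    exact ⟨w, rfl⟩
  set Bs := pCore 2 X ⊓ W.Asub.map B.qι
  have hQn : (pCore 2 X).Normal := inferInstance
  have hBn : Bs.Normal := ⟨fun b hb x => by
    obtain ⟨hbQ, a, ha, rfl⟩ := Subgroup.mem_inf.mp hb
    have hq := hQn.conj_mem _ hbQ x
    obtain ⟨w, hw⟩ := hQ _ hq
    exact Subgroup.mem_inf.mpr ⟨hq, w, B.qclosed hF ha x hw.symm, hw⟩⟩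
  have hAQ : ∀ a : W, W.inA a → B.qι a ∈ pCore 2 X := fun a ha => mem_pCore_of_stab hCle hBn inf_le_left
    (by rintro _ hb; obtain ⟨-, v, hv, rfl⟩ := Subgroup.mem_inf.mp hb; rw [← map_mul, W.inA_facts.2.2.1 v hv, map_one])
    (fun b hb => by obtain ⟨-, v, hv, rfl⟩ := Subgroup.mem_inf.mp hb; rw [← map_mul, ← map_mul, W.inA_comm a v ha hv])
    (fun q hq => by
      obtain ⟨w, rfl⟩ := hQ q hq
      refine Subgroup.mem_inf.mpr ⟨mul_mem (hQn.conj_mem _ hq _) (inv_mem hq), a * w * a⁻¹ * w⁻¹, ?_, by simp⟩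
      show W.inA (a * w * a⁻¹ * w⁻¹)
      rw [show a * w * a⁻¹ * w⁻¹ = a * (w * a⁻¹ * w⁻¹) by group]
      exact W.inA_facts.2.1 _ _ ha (W.inA_facts.2.2.2 _ w (by
        rw [inv_eq_of_mul_eq_one_right (W.inA_facts.2.2.1 a ha)]; exact ha)))
  obtain ⟨o, ho, hoA⟩ := exists_conj_odd (odd_oddC B.z) (B.isPGroup_A.map (MulAut.conj c).toMonoidHom) B.isPGroup_A
    (B.le_normalizer_core (fun a ha => B.S_le_cent (B.A_le_S ha))) (by
      rintro _ ⟨x, hx, rfl⟩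
      obtain ⟨a, ha, rfl⟩ := B.mem_A.mp hx
      have h1 := hQn.conj_mem _ (hAQ a ha) (QuotientGroup.mk' _ ⟨c, B.mem_C.mpr hc⟩)
      obtain ⟨w, hw⟩ := hQ _ h1
      have hwA := B.qclosed hF ha _ hw.symm
      have hw' : QuotientGroup.mk' (pPrimeCore 2 ↥C) ⟨B.ι w, B.mem_C.mpr (B.comm_z w)⟩ = QuotientGroup.mk' _
          (⟨c, B.mem_C.mpr hc⟩ * ⟨B.ι a, B.mem_C.mpr (B.comm_z a)⟩ * ⟨c, B.mem_C.mpr hc⟩⁻¹) :=
        hw.trans (by simp only [map_mul, map_inv]; rfl)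
      have h2 := B.mk_eq hw'.symm
      simp only [Subgroup.coe_mul, Subgroup.coe_inv] at h2
      show c * B.ι a * c⁻¹ ∈ oddC B.z ⊔ B.A
      rw [← inv_mul_cancel_right (c * B.ι a * c⁻¹) (B.ι w)]
      exact mul_mem (Subgroup.mem_sup_left h2) (Subgroup.mem_sup_right (B.mem_A_iff.mpr hwA)))
  refine ⟨o, ho, B.mem_normalizer_of_conj_mem fun a ha => B.A_le_S ?_⟩
  have := hoA _ ⟨a, ha, rfl⟩
  simpa [mul_assoc] using this

/-- In the unfused case the operations are conjugate under `N(A) ∩ C(z)`, so their columns are permuted. -/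
theorem move_col (hF : ¬ B.Fused) (i j : Fin 3) :
    ∃ n ∈ Subgroup.normalizer (B.A : Set G),
      (∃ v : W, (v = W.pp i ∨ v = W.pp i * W.zz) ∧ n * B.ι (W.pp j) * n⁻¹ = B.ι v) := by
  haveI : Fact (Nat.Prime 2) := ⟨Nat.prime_two⟩
  obtain ⟨h, -, y, hy, hext⟩ := B.exists_ext (H := ⊤) le_top (x := B.ι (W.gg i))
    (by rw [← map_mul, (W.gg_sq i).1, map_one]) (Subgroup.mem_top _)
  have hyA : W.inA y = false := Bool.eq_false_iff.mpr fun hA => hF ⟨i, h, hy ▸ B.mem_A_iff.mpr hA⟩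
  have hyo : W.outer y := by simp [W.outer, B.sq_of_conj (W.gg_sq i).1 hy, hyA]
  have step : ∀ k : Fin 3, ∃ l : G, l * B.z = B.z * l ∧ l * B.ι (W.gg k) * l⁻¹ = B.ι y := by
    intro k
    obtain ⟨h', hh'⟩ := B.conj_gg hF i k
    obtain ⟨l, -, e, hu⟩ := hext.image le_top (x := W.gg k) ⟨h * h', Subgroup.mem_top _, by
      rw [show h * h' * B.ι (W.gg k) * (h * h')⁻¹ = h * (h' * B.ι (W.gg k) * h'⁻¹) * h⁻¹ by group, hh', hy]⟩
    obtain ⟨-, -, u, v, hu1, hv1, huv⟩ := W.cw_outer _ (W.pp_facts k).2.2.2.1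
    obtain ⟨u', hu', hu'y⟩ := hu u hu1
    obtain ⟨v', hv', hv'y⟩ := hu v hv1
    have hwz : l * B.z * l⁻¹ = B.ι (u' * v' * u'⁻¹ * v'⁻¹) := by
      show l * B.ι W.zz * l⁻¹ = _
      rw [← huv]
      simp only [map_mul, map_inv, ← hu', ← hv']
      group
    rcases W.outer_comm_zz y hyo u' v' hu'y hv'y with h1 | h1
    · rw [h1, map_one, conj_eq_one_iff] at hwz
      exact absurd hwz B.z_ne
    · rw [h1] at hwz
      exact ⟨l, mul_inv_eq_iff_eq_mul.mp hwz, e⟩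
  obtain ⟨li, hli, ei⟩ := step i
  obtain ⟨lj, hlj, ej⟩ := step j
  set c := li⁻¹ * lj
  have hcz : c * B.z = B.z * c := ((show Commute li B.z from hli).inv_left.mul_left (show Commute lj B.z from hlj)).eq
  have hce : c * B.ι (W.gg j) * c⁻¹ = B.ι (W.gg i) := by
    rw [show c * B.ι (W.gg j) * c⁻¹ = li⁻¹ * (lj * B.ι (W.gg j) * lj⁻¹) * li by simp only [c]; group, ej, ← ei]
    group
  obtain ⟨o, ho, hn⟩ := B.cent_z_decomp hF hcz
  refine ⟨o * c, hn, ?_⟩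
  have hpA := B.mem_A_iff.mpr (W.P_inA _ (W.pp_facts j).1)
  obtain ⟨v, hv, hve⟩ := B.mem_A.mp ((Subgroup.mem_normalizer_iff.mp hn _).mp hpA)
  have hoz : o * B.z = B.z * o := Subgroup.mem_centralizer_singleton_iff.mp (oddC_le _ ho)
  -- the image commutes with the operation modulo the core
  have hcomm : W.gg i * v = v * W.gg i := by
    refine B.qι_inj ?_
    have e1 : B.qι (W.gg i) = QuotientGroup.mk' _ (⟨o * c, mul_mem (oddC_le _ ho) (B.mem_C.mpr hcz)⟩ *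
        ⟨B.ι (W.gg j), B.mem_C.mpr (B.comm_z _)⟩ * ⟨o * c, mul_mem (oddC_le _ ho) (B.mem_C.mpr hcz)⟩⁻¹) := by
      have ho1 : QuotientGroup.mk' (pPrimeCore 2 ↥(Subgroup.centralizer ({B.z} : Set G)))
          ⟨o, oddC_le _ ho⟩ = 1 := by
        obtain ⟨o', ho', e⟩ := ho
        refine (QuotientGroup.eq_one_iff _).mpr ?_
        rwa [show (⟨o, oddC_le _ ⟨o', ho', e⟩⟩ : ↥(Subgroup.centralizer ({B.z} : Set G))) = o' from Subtype.ext e.symm]
      rw [B.qι_mk, show (⟨o * c, mul_mem (oddC_le _ ho) (B.mem_C.mpr hcz)⟩ : ↥(Subgroup.centralizer ({B.z} : Set G))) =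
        ⟨o, oddC_le _ ho⟩ * ⟨c, B.mem_C.mpr hcz⟩ from rfl, show (⟨B.ι (W.gg i), B.mem_C.mpr (B.comm_z _)⟩ :
        ↥(Subgroup.centralizer ({B.z} : Set G))) = ⟨c, B.mem_C.mpr hcz⟩ * ⟨B.ι (W.gg j), B.mem_C.mpr (B.comm_z _)⟩ *
        ⟨c, B.mem_C.mpr hcz⟩⁻¹ from Subtype.ext hce.symm]
      simp only [map_mul, map_inv, mul_inv_rev, ho1, one_mul, inv_one, mul_one]
    have e2 : B.qι v = QuotientGroup.mk' _ (⟨o * c, mul_mem (oddC_le _ ho) (B.mem_C.mpr hcz)⟩ *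
        ⟨B.ι (W.pp j), B.mem_C.mpr (B.comm_z _)⟩ * ⟨o * c, mul_mem (oddC_le _ ho) (B.mem_C.mpr hcz)⟩⁻¹) :=
      congrArg _ (Subtype.ext hve)
    rw [map_mul, map_mul, e1, e2]
    refine (map_mul _ _ _).symm.trans (Eq.trans ?_ (map_mul _ _ _))
    refine congrArg _ (Subtype.ext ?_)
    have hgp : B.ι (W.gg j) * B.ι (W.pp j) = B.ι (W.pp j) * B.ι (W.gg j) := by
      rw [← map_mul, (W.pp_facts j).2.2.2.2.1, map_mul]
    show o * c * B.ι (W.gg j) * (o * c)⁻¹ * (o * c * B.ι (W.pp j) * (o * c)⁻¹) =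
      o * c * B.ι (W.pp j) * (o * c)⁻¹ * (o * c * B.ι (W.gg j) * (o * c)⁻¹)
    calc o * c * B.ι (W.gg j) * (o * c)⁻¹ * (o * c * B.ι (W.pp j) * (o * c)⁻¹) =
        o * c * (B.ι (W.gg j) * B.ι (W.pp j)) * (o * c)⁻¹ := by group
      _ = _ := by rw [hgp]; group
  have hz' : o * c * B.z * (o * c)⁻¹ = B.z := mul_inv_eq_iff_eq_mul.mpr (by
    rw [mul_assoc, hcz, ← mul_assoc, hoz, mul_assoc])
  rcases W.inV_pp i v (W.cent_gg i v hv hcomm) hv with rfl | rfl | rfl | rfl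
  · rw [map_one, eq_comm, conj_eq_one_iff] at hve
    exact absurd (B.ι_eq_one.mp hve) (W.pp_facts j).2.1
  · exact absurd (B.inj (mul_left_cancel (mul_right_cancel (hve.symm.trans hz'.symm)))) (W.pp_facts j).2.2.1
  · exact ⟨_, .inl rfl, hve.symm⟩
  · exact ⟨_, .inr rfl, hve.symm⟩

theorem zc_pp_all (hF : ¬ B.Fused) (h : ∃ j : Fin 3, B.ZC (B.ι (W.pp j))) (i : Fin 3) :
    B.ZC (B.ι (W.pp i)) := by
  obtain ⟨j, hj⟩ := h
  obtain ⟨n, -, v, hv, e⟩ := B.move_col hF i j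
  have hz := hj.conj n
  rw [e] at hz
  rcases hv with rfl | rfl
  · exact hz
  · obtain ⟨c, hc⟩ := (W.pp_facts i).2.2.2.2.2
    have := B.zc_S hz c⁻¹
    rwa [show c⁻¹ * (W.pp i * W.zz) * c⁻¹⁻¹ = W.pp i by rw [← hc]; group] at this

/-- Every element of the subgroup of order sixteen is conjugate in its normaliser to `z` or a column involution. -/
theorem exists_pp_none (hF : ¬ B.Fused) {a : G} (ha : a ∈ B.A) (ha1 : a ≠ 1) :
    B.ZC a ∨ ∃ n ∈ Subgroup.normalizer (B.A : Set G), ∃ j : Fin 3, n * a * n⁻¹ = B.ι (W.pp j) := by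
  obtain ⟨w, hw, rfl⟩ := B.mem_A.mp ha
  have hP : ∀ y : W, W.inP y → y ≠ 1 →
      B.ZC (B.ι y) ∨ ∃ n ∈ Subgroup.normalizer (B.A : Set G), ∃ j : Fin 3, n * B.ι y * n⁻¹ = B.ι (W.pp j) := by
    intro y hy hy1
    rcases W.P_cases y hy with rfl | rfl | ⟨j, c, rfl⟩
    · exact absurd rfl hy1
    · exact .inl ⟨1, by group⟩
    · refine .inr ⟨(B.ι c)⁻¹, inv_mem (B.S_le_N (B.mem_S c)), j, ?_⟩
      rw [map_mul, map_mul, map_inv]; group
  by_cases hwP : W.inP w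
  · exact hP w hwP fun e => ha1 (by rw [e, map_one])
  obtain ⟨h, y, -, hy1, e, hor⟩ := B.fuse_mid hw (Bool.eq_false_iff.mpr hwP)
  have hyP : W.inP y := hor.resolve_right hF
  obtain ⟨n, hn, -, hne⟩ := B.control (H := ⊤) le_top (g := h) (Subgroup.mem_top _) ha
    (by rw [e]; exact B.mem_A_iff.mpr (W.P_inA y hyP))
  rw [e] at hne
  rcases hP y hyP hy1 with hz | ⟨m, hm, j, hj⟩
  · left
    have h2 := hz.conj n⁻¹
    rwa [← hne, show n⁻¹ * (n * B.ι w * n⁻¹) * n⁻¹⁻¹ = B.ι w by group] at h2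
  · refine .inr ⟨m * n, mul_mem hm hn, j, ?_⟩
    rw [show m * n * B.ι w * (m * n)⁻¹ = m * (n * B.ι w * n⁻¹) * m⁻¹ by group, hne, hj]

/-- The centralisers lie in any subgroup containing the normaliser and the cores. -/
theorem cent_le_none (hF : ¬ B.Fused) {M : Subgroup G} (hN : Subgroup.normalizer (B.A : Set G) ≤ M)
    (hO : ∀ a ∈ B.A, a ≠ 1 → oddC a ≤ M) {a : G} (ha : a ∈ B.A) (ha1 : a ≠ 1) :
    Subgroup.centralizer ({a} : Set G) ≤ M := by
  have hzc : ∀ b ∈ B.A, B.ZC b → Subgroup.centralizer ({b} : Set G) ≤ M := by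
    intro b hb hbz c hc
    obtain ⟨g, hg⟩ := hbz
    obtain ⟨n, hn, -, hne⟩ := B.control (H := ⊤) le_top (g := g) (Subgroup.mem_top _) B.z_mem_A (by rw [hg]; exact hb)
    rw [hg] at hne
    have hc' : n⁻¹ * c * n * B.z = B.z * (n⁻¹ * c * n) := by
      have h' := Subgroup.mem_centralizer_singleton_iff.mp hc
      rw [← hne] at h'
      calc n⁻¹ * c * n * B.z = n⁻¹ * (c * (n * B.z * n⁻¹)) * n := by group
        _ = B.z * (n⁻¹ * c * n) := by rw [h']; group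
    obtain ⟨o, ho, hoc⟩ := B.cent_z_decomp hF hc'
    have h1 := mul_mem (inv_mem (hO _ B.z_mem_A B.z_ne ho)) (hN hoc)
    rw [inv_mul_cancel_left] at h1
    have := mul_mem (mul_mem (hN hn) h1) (inv_mem (hN hn))
    simpa [mul_assoc] using this
  by_cases hz : B.ZC a
  · exact hzc a ha hz
  obtain ⟨n, hn, j, e⟩ := (B.exists_pp_none hF ha ha1).resolve_left hz
  have hpz : ¬ B.ZC (B.ι (W.pp j)) := e ▸ B.not_zc_conj hz n
  have hnone : ∀ i : Fin 3, ¬ B.ZC (B.ι (W.pp i)) := fun i hi => hpz (B.zc_pp_all hF ⟨i, hi⟩ j)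
  obtain ⟨D0, hD⟩ := B.half_pp_of hpz fun h _ hA => hF ⟨j, h, hA⟩
  obtain ⟨b, hb, hbz⟩ := B.caseA_of_none_gen hnone (fun w hw h => by
      obtain ⟨g, hg⟩ := h
      have := B.closed_A hF W.zz_facts.2.2.1 (g := g) (hg ▸ B.mem_S w)
      rw [hg, B.mem_A_iff] at this
      simp [W.outer, this] at hw) (f := B.ι (W.pp j)) ⟨1, one_mem _, j, by group⟩
  have hppA : B.ι (W.pp j) ∈ B.A := B.mem_A_iff.mpr (W.P_inA _ (W.pp_facts j).1)
  have hle : Subgroup.centralizer ({B.ι (W.pp j)} : Set G) ≤ M := by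
    refine hD.gen _ (fun x hx => ?_) hN
    obtain ⟨o, ho, y, -, hyb, rfl⟩ := hD.decomp hb (B.zc_ne_one hbz) hx
    exact mul_mem (hO _ hppA (fun e1 => (W.pp_facts j).2.1 (B.ι_eq_one.mp e1)) ho)
      (hzc b hb.1 hbz (Subgroup.mem_centralizer_singleton_iff.mpr hyb))
  intro c hc
  have h1 : n * c * n⁻¹ ∈ Subgroup.centralizer ({B.ι (W.pp j)} : Set G) := by
    rw [Subgroup.mem_centralizer_singleton_iff, ← e]
    have h' := Subgroup.mem_centralizer_singleton_iff.mp hc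
    calc n * c * n⁻¹ * (n * a * n⁻¹) = n * (c * a) * n⁻¹ := by group
      _ = n * a * n⁻¹ * (n * c * n⁻¹) := by rw [h']; group
  have := mul_mem (mul_mem (inv_mem (hN hn)) (hle h1)) (hN hn)
  simpa [mul_assoc] using this

/-- All involutions of the subgroup of order sixteen are balanced. -/
theorem bal_none (hF : ¬ B.Fused) {a : G} (ha : a ∈ B.A) (ha1 : a ≠ 1) : Bal a := by
  by_cases hz : B.ZC a
  · exact bal_of_solvable (B.solvable_of_zc hz)
  obtain ⟨n, -, j, e⟩ := (B.exists_pp_none hF ha ha1).resolve_left hz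
  have hpz : ¬ B.ZC (B.ι (W.pp j)) := e ▸ B.not_zc_conj hz n
  have hnone : ∀ i : Fin 3, ¬ B.ZC (B.ι (W.pp i)) := fun i hi => hpz (B.zc_pp_all hF ⟨i, hi⟩ j)
  obtain ⟨D0, hD⟩ := B.half_pp_of hpz fun h _ hA => hF ⟨j, h, hA⟩
  have hb : Bal (B.ι (W.pp j)) := bal_of_solvable (B.solvable_caseA hD (B.caseA_of_none_gen hnone (fun w hw h => by
      obtain ⟨g, hg⟩ := h
      have := B.closed_A hF W.zz_facts.2.2.1 (g := g) (hg ▸ B.mem_S w)
      rw [hg, B.mem_A_iff] at this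
      simp [W.outer, this] at hw) ⟨1, one_mem _, j, by group⟩))
  have := hb.conj n⁻¹
  rwa [← e, show n⁻¹ * (n * a * n⁻¹) * n⁻¹⁻¹ = a by group] at this

end Base

end CfsgLib.A8Sylow
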