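import Cfsg.Agent.Lib.A8Sylow.Local

/-!
The action on the six lines, and an element of order three fixing the columns.

Blueprint: `blueprint/S2918.md`, step 2.
-/

set_option autoImplicit false
set_option maxRecDepth 100000
set_option linter.style.haveILetI false
set_option linter.unusedSectionVars false

open Cfsg

namespace CfsgLib.A8Sylow

universe u

namespace W

theorem col_row : ∀ j r : Fin 3, (col j).val < 3 ∧ 3 ≤ (row r).val ∧ (∀ k, col j = col k → j = k) ∧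
    ∀ s, row r = row s → r = s := by decide +kernel

theorem line_index : ∀ i : Fin 6, (∃ j : Fin 3, i = col j) ∨ ∃ r : Fin 3, i = row r := by decide +kernel

end W

namespace Loc

variable {X : Type u} [Group X] [Finite X] (L : Loc X)

theorem exists_cj (x : X) {w : W} (hw : W.inR w) : ∃ v : W, W.inR v ∧ L.ι v = x * L.ι w * x⁻¹ := by
  have h := (inferInstance : (pCore 2 X).Normal).conj_mem (L.ι w) (L.pCore_eq ▸ ⟨w, hw, rfl⟩) x
  rw [L.pCore_eq] at h
  obtain ⟨v, hv, e⟩ := h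
  exact ⟨v, hv, e⟩

open Classical in
/-- Conjugation on the extraspecial subgroup. -/
noncomputable def cj (x : X) (w : W) : W := if h : W.inR w then (L.exists_cj x h).choose else 1

theorem cj_spec (x : X) {w : W} (hw : W.inR w) : W.inR (L.cj x w) ∧ L.ι (L.cj x w) = x * L.ι w * x⁻¹ := by
  rw [cj, dif_pos hw]
  exact (L.exists_cj x hw).choose_spec

theorem cj_eq (x : X) {w v : W} (hw : W.inR w) (h : L.ι v = x * L.ι w * x⁻¹) : L.cj x w = v :=
  L.inj ((L.cj_spec x hw).2.trans h.symm)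

theorem cj_one {w : W} (hw : W.inR w) : L.cj 1 w = w := L.cj_eq 1 hw (by group)

theorem cj_cj (x y : X) {w : W} (hw : W.inR w) : L.cj (x * y) w = L.cj x (L.cj y w) := by
  obtain ⟨h1, h2⟩ := L.cj_spec y hw
  refine L.cj_eq _ hw ?_
  rw [(L.cj_spec x h1).2, h2]; group

theorem cj_mul (x : X) {v w : W} (hv : W.inR v) (hw : W.inR w) : L.cj x (v * w) = L.cj x v * L.cj x w :=
  L.cj_eq x (W.inR_facts.2.1 v w hv hw) (by rw [map_mul, (L.cj_spec x hv).2, (L.cj_spec x hw).2, map_mul]; group)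

theorem cj_zz (x : X) : L.cj x W.zz = W.zz :=
  L.cj_eq x W.zz_facts.2.2.2.2 (by rw [L.zc x]; group)

theorem cj_injOn (x : X) {v w : W} (hv : W.inR v) (hw : W.inR w) (h : L.cj x v = L.cj x w) : v = w := by
  have h1 := (L.cj_spec x hv).2
  rw [h, (L.cj_spec x hw).2] at h1
  exact (L.inj (mul_left_cancel (mul_right_cancel h1))).symm

theorem one_inR : W.inR (1 : W) := W.inR_facts.1

theorem cj_of_one (x : X) : L.cj x 1 = 1 := L.cj_eq x one_inR (by rw [map_one]; group)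

theorem exists_line (x : X) (i : Fin 6) : ∃ k : Fin 6, ∀ w : W, W.line i w → W.line k (L.cj x w) := by
  obtain ⟨hz, hR, hc, u, v, hu, hv, hu1, huz, hv1, hvz, huv, huvz⟩ := W.line_facts i
  have hsq : ∀ w : W, W.line i w → L.cj x w * L.cj x w = 1 := fun w hw => by
    rw [← L.cj_mul x (hR w hw).1 (hR w hw).1, (hR w hw).2, L.cj_of_one]
  have hcm : ∀ w w' : W, W.line i w → W.line i w' → L.cj x w * L.cj x w' = L.cj x w' * L.cj x w := by
    intro w w' hw hw'
    rw [← L.cj_mul x (hR w hw).1 (hR w' hw').1, hc w w' hw hw', L.cj_mul x (hR w' hw').1 (hR w hw).1]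
  have hne : ∀ w : W, W.line i w → w ≠ 1 → w ≠ W.zz → W.isPt (L.cj x w) := fun w hw h1 h2 => by
    have e1 : L.cj x w ≠ 1 := fun h => h1 (L.cj_injOn x (hR w hw).1 one_inR (h.trans (L.cj_of_one x).symm))
    have e2 : L.cj x w ≠ W.zz := fun h =>
      h2 (L.cj_injOn x (hR w hw).1 W.zz_facts.2.2.2.2 (h.trans (L.cj_zz x).symm))
    simp only [W.isPt, (L.cj_spec x (hR w hw).1).1, Bool.true_and, decide_eq_true_eq]
    exact ⟨hsq w hw, e1, e2⟩
  have hvzz : L.cj x u ≠ L.cj x v * W.zz := fun h => huvz (L.cj_injOn x (hR u hu).1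
    (W.inR_facts.2.1 _ _ (hR v hv).1 W.zz_facts.2.2.2.2)
    (by rw [h, L.cj_mul x (hR v hv).1 W.zz_facts.2.2.2.2, L.cj_zz]))
  obtain ⟨k, hk⟩ := W.line_span _ (hne u hu hu1 huz) _ (hne v hv hv1 hvz)
    ⟨hcm u v hu hv, fun h => huv (L.cj_injOn x (hR u hu).1 (hR v hv).1 h), hvzz⟩
  refine ⟨k, fun w hw => hk _ ?_⟩
  simp only [W.inCent, (L.cj_spec x (hR w hw).1).1, Bool.true_and, decide_eq_true_eq]
  exact ⟨hsq w hw, hcm w u hw hu, hcm w v hw hv⟩

/-- The image of a line. -/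
noncomputable def σf (x : X) (i : Fin 6) : Fin 6 := (L.exists_line x i).choose

theorem σf_spec (x : X) {i : Fin 6} {w : W} (hw : W.line i w) : W.line (L.σf x i) (L.cj x w) :=
  (L.exists_line x i).choose_spec w hw

theorem line_surj (x : X) {i k : Fin 6} (h : ∀ w : W, W.line i w → W.line k (L.cj x w)) {w : W} (hw : W.line k w) :
    W.line i (L.cj x⁻¹ w) := by
  classical
  set F := fun k => Finset.univ.filter fun w => W.line k w = true with hF
  have hc : ∀ i k : Fin 6, (F i).card = (F k).card := by decide +kernel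
  have hsub : (F i).image (L.cj x) ⊆ F k := fun v hv => by
    obtain ⟨u, hu, rfl⟩ := Finset.mem_image.mp hv
    exact Finset.mem_filter.mpr ⟨Finset.mem_univ _, h u (Finset.mem_filter.mp hu).2⟩
  have heq := Finset.eq_of_subset_of_card_le hsub (by
    rw [Finset.card_image_of_injOn fun a ha b hb e => L.cj_injOn x
      ((W.line_facts i).2.1 a (Finset.mem_filter.mp ha).2).1 ((W.line_facts i).2.1 b (Finset.mem_filter.mp hb).2).1 e]
    exact (hc k i).le)
  have hw' : w ∈ (F i).image (L.cj x) := heq ▸ Finset.mem_filter.mpr ⟨Finset.mem_univ _, hw⟩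
  obtain ⟨u, hu, rfl⟩ := Finset.mem_image.mp hw'
  have hu' : W.line i u := (Finset.mem_filter.mp hu).2
  have hR := ((W.line_facts i).2.1 u hu').1
  rwa [← L.cj_cj _ _ hR, inv_mul_cancel, L.cj_one hR]

theorem σf_eq (x : X) {i k : Fin 6} (h : ∀ w : W, W.line i w → W.line k (L.cj x w)) : L.σf x i = k := by
  refine (W.line_unique k _ fun w hw => ?_).symm
  have h1 := L.σf_spec x (L.line_surj x h hw)
  have hR := ((W.line_facts k).2.1 w hw).1
  rwa [← L.cj_cj _ _ hR, mul_inv_cancel, L.cj_one hR] at h1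

theorem σf_one (i : Fin 6) : L.σf 1 i = i :=
  L.σf_eq 1 fun w hw => by rwa [L.cj_one ((W.line_facts i).2.1 w hw).1]

theorem σf_mul (x y : X) (i : Fin 6) : L.σf (x * y) i = L.σf x (L.σf y i) :=
  L.σf_eq _ fun w hw => by
    rw [L.cj_cj x y ((W.line_facts i).2.1 w hw).1]
    exact L.σf_spec x (L.σf_spec y hw)

/-- The action on the lines. -/
noncomputable def σ : X →* Equiv.Perm (Fin 6) where
  toFun x := ⟨L.σf x, L.σf x⁻¹, fun i => by rw [← L.σf_mul, inv_mul_cancel, L.σf_one],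
    fun i => by rw [← L.σf_mul, mul_inv_cancel, L.σf_one]⟩
  map_one' := Equiv.ext L.σf_one
  map_mul' x y := Equiv.ext (L.σf_mul x y)

theorem σ_spec (x : X) {i : Fin 6} {w : W} (hw : W.line i w) : W.line (L.σ x i) (L.cj x w) := L.σf_spec x hw

theorem σ_eq (x : X) {i k : Fin 6} (h : ∀ w : W, W.line i w → W.line k (L.cj x w)) : L.σ x i = k := L.σf_eq x h

theorem meet_iff (x : X) {i k : Fin 6} (hik : i ≠ k) :
    ((L.σ x i).val < 3 ↔ (L.σ x k).val < 3) ↔ (i.val < 3 ↔ k.val < 3) := by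
  have key : ∀ (x : X) {i k : Fin 6}, (i ≠ k ∧ (i.val < 3 ↔ k.val < 3)) →
      (L.σ x i ≠ L.σ x k ∧ ((L.σ x i).val < 3 ↔ (L.σ x k).val < 3)) := fun x i k h => by
    refine (W.line_meet _ _).mp fun w h1 h2 => ?_
    have hR := ((W.line_facts _).2.1 w h1).1
    rcases (W.line_meet i k).mpr h (L.cj x⁻¹ w) (L.line_surj x (fun v hv => L.σ_spec x hv) h1)
      (L.line_surj x (fun v hv => L.σ_spec x hv) h2) with e | e
    · refine .inl ?_
      rw [← L.cj_one hR, ← mul_inv_cancel x, L.cj_cj _ _ hR, e, L.cj_of_one]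
    · refine .inr ?_
      rw [← L.cj_one hR, ← mul_inv_cancel x, L.cj_cj _ _ hR, e, L.cj_zz]
  refine ⟨fun h => ?_, fun h => (key x ⟨hik, h⟩).2⟩
  have := (key x⁻¹ ⟨(L.σ x).injective.ne hik, h⟩).2
  simpa [map_inv, Equiv.Perm.coe_inv] using this

theorem σ_ι_col (w : W) (j : Fin 3) : L.σ (L.ι w) (W.col j) = W.col j :=
  L.σ_eq _ fun x hx => by
    have hR := ((W.line_facts _).2.1 x hx).1
    rw [L.cj_eq _ hR (by rw [map_mul, map_mul, map_inv] : L.ι (w * x * w⁻¹) = L.ι w * L.ι x * (L.ι w)⁻¹)]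
    exact W.line_conj j w x hx

theorem σ_mm : L.σ (L.ι W.mm) = Equiv.swap (4 : Fin 6) 5 :=
  Equiv.ext fun i => L.σ_eq _ fun x hx => by
    have hR := ((W.line_facts _).2.1 x hx).1
    rw [L.cj_eq _ hR (by rw [map_mul, map_mul, map_inv] :
      L.ι (W.mm * x * W.mm⁻¹) = L.ι W.mm * L.ι x * (L.ι W.mm)⁻¹)]
    exact W.line_mm i x hx

/-- Columns go to columns. -/
theorem σ_col (x : X) (j : Fin 3) : (L.σ x (W.col j)).val < 3 := by
  haveI : Fact (Nat.Prime 2) := ⟨Nat.prime_two⟩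
  have hstep : ∀ (x : X) (i k : Fin 3), (L.σ x (W.col i)).val < 3 → (L.σ x (W.col k)).val < 3 := fun x i k h => by
    rcases eq_or_ne i k with rfl | hik
    · exact h
    exact ((L.meet_iff x (fun e => hik ((W.col_row i 0).2.2.1 k e))).mpr
      (iff_of_true (W.col_row i 0).1 (W.col_row k 0).1)).mp h
  let K : Subgroup X :=
    { carrier := {y | (L.σ y (W.col 0)).val < 3}
      one_mem' := by simp [(W.col_row 0 0).1]
      mul_mem' := fun {a b} ha hb => by
        show (L.σ (a * b) (W.col 0)).val < 3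
        rw [map_mul, Equiv.Perm.mul_apply]
        rcases W.line_index (L.σ b (W.col 0)) with ⟨i, hi⟩ | ⟨r, hr⟩
        · rw [hi]; exact hstep a 0 i ha
        · have := (W.col_row 0 r).2.1; rw [← hr] at this; exact absurd hb (Nat.not_lt.mpr this)
      inv_mem' := fun {a} ha => by
        show (L.σ a⁻¹ (W.col 0)).val < 3
        rcases W.line_index (L.σ a⁻¹ (W.col 0)) with ⟨i, hi⟩ | ⟨r, hr⟩
        · rw [hi]; exact (W.col_row i 0).1
        · exfalso
          have h1 : L.σ a (W.row r) = W.col 0 := by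
            rw [← hr, ← Equiv.Perm.mul_apply, ← map_mul, mul_inv_cancel, map_one, Equiv.Perm.one_apply]
          have hne : W.row r ≠ W.col 0 := fun e => by
            have := (W.col_row 0 r).2.1; rw [e] at this; exact absurd (W.col_row 0 0).1 (Nat.not_lt.mpr this)
          have h2 := (L.meet_iff a hne).mp (by rw [h1]; exact iff_of_true (W.col_row 0 0).1 ha)
          exact absurd (h2.mpr (W.col_row 0 0).1) (Nat.not_lt.mpr (W.col_row 0 r).2.1) }
  suffices hK : K = ⊤ by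
    exact hstep x 0 j (hK.symm ▸ Subgroup.mem_top x : x ∈ K)
  by_contra hK
  obtain ⟨a, -, ha⟩ := SetLike.exists_of_lt (lt_top_iff_ne_top.mpr hK)
  have hidx : K.index = 2 := Subgroup.index_eq_two_iff'.mpr ⟨a, fun b => by
    have hsw : ∀ c : X, c ∉ K → ∀ d : X, d ∉ K → c⁻¹ * d ∈ K := fun c hc d hd => by
      show (L.σ (c⁻¹ * d) (W.col 0)).val < 3
      rw [map_mul, Equiv.Perm.mul_apply]
      rcases W.line_index (L.σ c⁻¹ (L.σ d (W.col 0))) with ⟨i, hi⟩ | ⟨r, hr⟩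
      · rw [hi]; exact (W.col_row i 0).1
      · exfalso
        have h1 : L.σ c (W.row r) = L.σ d (W.col 0) := by
          rw [← hr, ← Equiv.Perm.mul_apply, ← map_mul, mul_inv_cancel, map_one, Equiv.Perm.one_apply]
        have hne : W.row r ≠ W.col 0 := fun e => by
          have := (W.col_row 0 r).2.1; rw [e] at this; exact absurd (W.col_row 0 0).1 (Nat.not_lt.mpr this)
        have h2 := (L.meet_iff c hne).mp (iff_of_false (by rw [h1]; exact hd) hc)
        exact absurd (h2.mpr (W.col_row 0 0).1) (Nat.not_lt.mpr (W.col_row 0 r).2.1)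
    by_cases hb : b ∈ K
    · exact .inr ⟨hb, fun h => ha (by have := mul_mem h (inv_mem hb); rwa [mul_inv_cancel_right] at this)⟩
    · refine .inl ⟨?_, hb⟩
      have := hsw a⁻¹ (fun h => ha (by simpa using inv_mem h)) b hb
      rwa [inv_inv] at this⟩
  obtain ⟨S, hS⟩ := L.sylow
  refine S.not_dvd_index (dvd_trans (dvd_of_eq hidx.symm)
    (Subgroup.index_dvd_of_le (H := (S : Subgroup X)) (K := K) fun y hy => ?_))
  obtain ⟨w, rfl⟩ : y ∈ L.ι.range := hS.symm ▸ hy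
  show (L.σ (L.ι w) (W.col 0)).val < 3
  rw [L.σ_ι_col]
  exact (W.col_row 0 0).1

/-- Rows go to rows. -/
theorem σ_row (x : X) (r : Fin 3) : 3 ≤ (L.σ x (W.row r)).val := by
  by_contra h
  rcases W.line_index (L.σ x (W.row r)) with ⟨j, hj⟩ | ⟨s, hs⟩
  · have h1 := L.σ_col x⁻¹ j
    rw [← hj, ← Equiv.Perm.mul_apply, ← map_mul, inv_mul_cancel, map_one, Equiv.Perm.one_apply] at h1
    exact absurd (W.col_row 0 r).2.1 (Nat.not_le.mpr h1)
  · rw [hs] at h; exact h (W.col_row 0 s).2.1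

theorem cj_pt (x : X) {j r s : Fin 3} (hj : L.σ x (W.col j) = W.col j) (hr : L.σ x (W.row r) = W.row s) :
    L.cj x (W.pt j r) = W.pt j s ∨ L.cj x (W.pt j r) = W.pt j s * W.zz := by
  obtain ⟨h1, h2, h3, h4, -⟩ := W.line_pt j r
  have e1 := L.σ_spec x h1
  have e2 := L.σ_spec x h2
  rw [hj] at e1; rw [hr] at e2
  have hR := ((W.line_facts _).2.1 _ h1).1
  rcases (W.line_pt j s).2.2.2.2 _ e1 e2 with e | e | e | e
  · exact absurd (L.cj_injOn x hR one_inR (e.trans (L.cj_of_one x).symm)) h3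
  · exact absurd (L.cj_injOn x hR W.zz_facts.2.2.2.2 (e.trans (L.cj_zz x).symm)) h4
  · exact .inl e
  · exact .inr e

/-- The kernel of the action on the lines. -/
theorem mem_R_of_σ {x : X} (h : L.σ x = 1) : ∃ w : W, W.inR w ∧ L.ι w = x := by
  have hpt : ∀ j r : Fin 3, L.cj x (W.pt j r) = W.pt j r ∨ L.cj x (W.pt j r) = W.pt j r * W.zz := fun j r =>
    L.cj_pt x (by rw [h, Equiv.Perm.one_apply]) (by rw [h, Equiv.Perm.one_apply])
  have hmul : ∀ v w : W, W.inR v → W.inR w → (L.cj x v = v ∨ L.cj x v = v * W.zz) →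
      (L.cj x w = w ∨ L.cj x w = w * W.zz) → (L.cj x (v * w) = v * w ∨ L.cj x (v * w) = v * w * W.zz) := by
    intro v w hv hw h1 h2
    rw [L.cj_mul x hv hw]
    rcases h1 with e1 | e1 <;> rcases h2 with e2 | e2 <;> rw [e1, e2]
    · exact .inl rfl
    · exact .inr (by rw [mul_assoc])
    · exact .inr (by rw [mul_assoc, ← W.zz_comm w, ← mul_assoc])
    · refine .inl ?_
      rw [mul_assoc v, ← mul_assoc W.zz w, ← W.zz_comm w, mul_assoc w, W.zz_facts.1, mul_one]
  have hall : ∀ w : W, W.inR w → (L.cj x w = w ∨ L.cj x w = w * W.zz) := fun w hw => by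
    have b1 : ∀ (c : Bool) (v : W), W.inR v → W.inR (if c then v else 1) := fun c v hv => by
      cases c <;> simp [hv, one_inR]
    have b2 : ∀ (c : Bool) (v : W), (L.cj x v = v ∨ L.cj x v = v * W.zz) →
        (L.cj x (if c then v else 1) = (if c then v else 1) ∨
          L.cj x (if c then v else 1) = (if c then v else 1) * W.zz) := fun c v hv => by
      cases c <;> simp [hv, L.cj_of_one x]
    have hm := W.inR_facts.2.1
    rw [W.R_gen w hw]
    have i1 : W.inR W.p1 := by decide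
    have i2 : W.inR W.p2 := by decide
    have i3 : W.inR W.g1 := by decide
    have i4 : W.inR W.g2 := by decide
    have iz := W.zz_facts.2.2.2.2
    refine hmul _ _ (hm _ _ (hm _ _ (hm _ _ (b1 _ _ i1) (b1 _ _ iz)) (b1 _ _ i2)) (b1 _ _ i3)) (b1 _ _ i4) ?_
      (b2 _ _ (hpt 1 1))
    refine hmul _ _ (hm _ _ (hm _ _ (b1 _ _ i1) (b1 _ _ iz)) (b1 _ _ i2)) (b1 _ _ i3) ?_ (b2 _ _ (hpt 0 1))
    refine hmul _ _ (hm _ _ (b1 _ _ i1) (b1 _ _ iz)) (b1 _ _ i2) ?_ (b2 _ _ (hpt 1 0))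
    exact hmul _ _ (b1 _ _ i1) (b1 _ _ iz) (b2 _ _ (hpt 0 0)) (b2 _ _ (.inl (L.cj_zz x)))
  have hQ : x ∈ pCore 2 X := L.mem_pCore_of_triv fun q hq => by
    obtain ⟨w, hw, rfl⟩ := (L.pCore_eq ▸ hq : q ∈ W.Rsub.map L.ι)
    rcases hall w hw with e | e
    · exact .inl ((L.cj_spec x hw).2.symm.trans (by rw [e]))
    · exact .inr ((L.cj_spec x hw).2.symm.trans (by rw [e, W.zz_comm w, map_mul]))
  exact (L.pCore_eq ▸ hQ : x ∈ W.Rsub.map L.ι)

/-- An element of order three moving the rows and fixing the columns. -/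
theorem exists_three : ∃ x : X, x ^ 3 = 1 ∧ x ≠ 1 ∧ (∀ j : Fin 3, L.σ x (W.col j) = W.col j) ∧
    ∀ r : Fin 3, L.σ x (W.row r) ≠ W.row r := by
  haveI : Fact (Nat.Prime 2) := ⟨Nat.prime_two⟩
  set τ := L.σ (L.ι W.mm) with hτ
  obtain ⟨h, hh⟩ : ∃ h : X, L.σ h * τ * (L.σ h)⁻¹ ≠ τ := by
    by_contra hall
    push Not at hall
    obtain ⟨S, hS⟩ := L.sylow
    have hmem : ∀ (g : X) (w : W), g * L.ι w * g⁻¹ ∈ L.ι.range := by
      intro g w
      have hR : ∀ v : W, W.inR v → g * L.ι v * g⁻¹ ∈ L.ι.range := fun v hv =>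
        ⟨_, (L.cj_spec g hv).2⟩
      by_cases hw : W.inR w
      · exact hR w hw
      have hm : g * L.ι W.mm * g⁻¹ ∈ L.ι.range := by
        obtain ⟨v, -, hv⟩ := L.mem_R_of_σ (x := g * L.ι W.mm * g⁻¹ * (L.ι W.mm)⁻¹) (by
          rw [map_mul, map_mul, map_mul, map_inv, map_inv, ← hτ, hall g, mul_inv_cancel])
        exact ⟨v * W.mm, by rw [map_mul, hv]; group⟩
      have h1 := hR _ (W.notR_gen W.mm w (by decide) (Bool.eq_false_iff.mpr hw))
      have := mul_mem h1 hm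
      rwa [show g * L.ι (w * W.mm⁻¹) * g⁻¹ * (g * L.ι W.mm * g⁻¹) = g * L.ι w * g⁻¹ by
        rw [map_mul, map_inv]; group] at this
    haveI : (L.ι.range).Normal := ⟨by rintro _ ⟨w, rfl⟩ g; exact hmem g w⟩
    have hp : IsPGroup 2 L.ι.range := hS ▸ S.isPGroup'
    obtain ⟨v, hv, e⟩ := (L.pCore_eq ▸ CfsgLib.le_pCore hp ⟨W.mm, rfl⟩ : L.ι W.mm ∈ W.Rsub.map L.ι)
    rw [L.inj e, SetLike.mem_coe, W.mem_Rsub] at hv
    exact absurd hv (by decide)
  set c := h * L.ι W.mm * h⁻¹ * L.ι W.mm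
  have hc : L.σ c = Equiv.swap (L.σ h 4) (L.σ h 5) * Equiv.swap (4 : Fin 6) 5 := by
    rw [map_mul, map_mul, map_mul, map_inv, L.σ_mm, Equiv.swap_apply_apply]
  have hτ' : τ = Equiv.swap (4 : Fin 6) 5 := L.σ_mm
  rcases W.swap_facts (L.σ h 4) (L.σ h 5) (L.σ_row h 1) (L.σ_row h 2)
    ((L.σ h).injective.ne (by decide)) with hid | ⟨hcol, hrow, hcube⟩
  · refine absurd ?_ hh
    have e : Equiv.swap (L.σ h 4) (L.σ h 5) * Equiv.swap (4 : Fin 6) 5 = 1 := Equiv.ext hid
    rw [hτ', ← Equiv.swap_apply_apply, mul_eq_one_iff_eq_inv.mp e, Equiv.swap_inv]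
  have hc3 : L.σ (c ^ 3) = 1 := by
    rw [map_pow, hc]
    refine Equiv.ext fun i => ?_
    rw [pow_succ, pow_two, Equiv.Perm.mul_apply, Equiv.Perm.mul_apply]
    exact hcube i
  obtain ⟨v, hv, hve⟩ := L.mem_R_of_σ hc3
  have h12 : (c ^ 4) ^ 3 = 1 := by
    rw [← pow_mul, show 4 * 3 = 3 * 4 by norm_num, pow_mul, ← hve, ← map_pow,
      show v ^ 4 = v * v * (v * v) by rw [pow_succ, pow_succ, pow_two, mul_assoc], W.R_pow v hv, map_one]
  have hσ : L.σ (c ^ 4) = L.σ c := by rw [pow_succ, map_mul, hc3, one_mul]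
  refine ⟨c ^ 4, h12, fun h1 => ?_, fun j => ?_, fun r => ?_⟩
  · have h2 := hrow (W.row 0) (W.col_row 0 0).2.1
    rw [← hc, ← hσ, h1, map_one] at h2
    exact h2 rfl
  · rw [hσ, hc]; exact hcol _ (W.col_row j 0).1
  · rw [hσ, hc]; exact hrow _ (W.col_row 0 r).2.1

/-- Only the centre of the extraspecial subgroup is fixed by that element. -/
theorem fix_eq {x : X} (hcol : ∀ j : Fin 3, L.σ x (W.col j) = W.col j) (hrow : ∀ r : Fin 3, L.σ x (W.row r) ≠ W.row r)
    {w : W} (hw : W.inR w) (hfix : x * L.ι w = L.ι w * x) : w = 1 ∨ w = W.zz := by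
  choose ρ hρ using fun r : Fin 3 => (W.line_index (L.σ x (W.row r))).resolve_left fun ⟨j, hj⟩ => by
    have := L.σ_row x r; rw [hj] at this
    exact absurd (W.col_row j 0).1 (Nat.not_lt.mpr this)
  have hne : ∀ r, ρ r ≠ r := fun r e => hrow r (by rw [hρ r, e])
  have hinj : ∀ r s, ρ r = ρ s → r = s := fun r s e =>
    (W.col_row 0 r).2.2.2 s ((L.σ x).injective (by rw [hρ r, hρ s, e]))
  have hρ' : ∀ r, ![ρ 0, ρ 1, ρ 2] r = ρ r := fun r => by fin_cases r <;> rfl
  refine W.pattern w hw (ρ 0) (ρ 1) (ρ 2) (hne 0) (hne 1) (hne 2) (fun e => absurd (hinj 0 1 e) (by decide))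
    (fun e => absurd (hinj 1 2 e) (by decide)) (fun e => absurd (hinj 0 2 e) (by decide)) fun j r => ?_
  rw [hρ' r]
  refine Bool.decide_congr ?_
  have hpR := ((W.line_facts _).2.1 _ (W.line_pt j r).1).1
  have hwfix : L.cj x w = w := L.cj_eq x hw (by rw [hfix]; group)
  constructor <;> intro h
  · have h1 := congrArg (L.cj x) h
    rw [L.cj_mul x hw hpR, L.cj_mul x hpR hw, hwfix] at h1
    rcases L.cj_pt x (hcol j) (hρ r) with e | e <;> rw [e] at h1
    · exact h1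
    · rw [mul_assoc, ← W.zz_comm w, ← mul_assoc, ← mul_assoc] at h1
      exact mul_right_cancel h1
  · refine (fun h1 => L.cj_injOn x (W.inR_facts.2.1 _ _ hw hpR) (W.inR_facts.2.1 _ _ hpR hw) h1) ?_
    rw [L.cj_mul x hw hpR, L.cj_mul x hpR hw, hwfix]
    rcases L.cj_pt x (hcol j) (hρ r) with e | e <;> rw [e]
    · exact h
    · rw [← mul_assoc, h, mul_assoc, W.zz_comm w, ← mul_assoc]

/-- Each operation is conjugate to the involution of its column in the commutator subgroup. -/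
theorem gg_pp (j : Fin 3) : ∃ x : X, x * L.ι (W.gg j) * x⁻¹ = L.ι (W.pp j) ∨
    x * L.ι (W.gg j) * x⁻¹ = L.ι (W.pp j * W.zz) := by
  obtain ⟨x, hx3, -, hcol, hrow⟩ := L.exists_three
  have hR : W.inR (W.pt j 1) := ((W.line_facts _).2.1 _ (W.line_pt j 1).1).1
  have go : ∀ y : X, L.σ y (W.col j) = W.col j → L.σ y (W.row 1) = W.row 0 →
      ∃ x : X, x * L.ι (W.gg j) * x⁻¹ = L.ι (W.pp j) ∨ x * L.ι (W.gg j) * x⁻¹ = L.ι (W.pp j * W.zz) := by
    intro y h1 h2
    refine ⟨y, ?_⟩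
    rcases L.cj_pt y h1 h2 with e | e
    · exact .inl ((L.cj_spec y hR).2.symm.trans (by rw [e]; rfl))
    · exact .inr ((L.cj_spec y hR).2.symm.trans (by rw [e]; rfl))
  rcases W.line_index (L.σ x (W.row 1)) with ⟨k, hk⟩ | ⟨r, hr⟩
  · exact absurd (hk ▸ L.σ_row x 1) (Nat.not_le.mpr (W.col_row k 0).1)
  have h3 : ∀ i, L.σ x (L.σ x (L.σ x i)) = i := fun i => by
    rw [← Equiv.Perm.mul_apply, ← Equiv.Perm.mul_apply, ← map_mul, ← map_mul,
      show x * x * x = x ^ 3 by rw [pow_succ, pow_two], hx3, map_one, Equiv.Perm.one_apply]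
  match r, hr with
  | 0, hr => exact go x (hcol j) hr
  | 1, hr => exact absurd hr (hrow 1)
  | 2, hr =>
    refine go (x * x) (by rw [map_mul, Equiv.Perm.mul_apply, hcol, hcol]) ?_
    rw [map_mul, Equiv.Perm.mul_apply, hr]
    rcases W.line_index (L.σ x (W.row 2)) with ⟨k, hk⟩ | ⟨s, hs⟩
    · exact absurd (hk ▸ L.σ_row x 2) (Nat.not_le.mpr (W.col_row k 0).1)
    match s, hs with
    | 0, hs => exact hs
    | 2, hs => exact absurd hs (hrow 2)
    | 1, hs =>
      have h4 := h3 (W.row 1)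
      rw [hr, hs, hr] at h4
      exact absurd ((W.col_row 0 2).2.2.2 1 h4) (by decide)

end Loc

end CfsgLib.A8Sylow
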