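import Cfsg.Agent.Lib.A8Sylow.Cent

/-!
The five points: without an involution of central type among those of the columns each centraliser has a fixed
element of central type.

Blueprint: `blueprint/S2918.md`, step 3.
-/

set_option autoImplicit false
set_option maxRecDepth 100000
set_option linter.style.haveILetI false
set_option linter.unusedSectionVars false

open Cfsg

namespace CfsgLib.A8Sylow

universe u

namespace W

/-- The determinant. -/
def det (x : W) : Bool := (x.b && x.c) ^^ (x.a && x.d)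

/-- The five points. -/
def om (d : Bool) (x : W) : Bool := decide (x = zz) || (inA x && x.c && (det x == d))

theorem mid_orbit : ∀ x : W, inA x → x.c = true → ∀ y : W, inA y → y.c = true → det x = det y →
    ∃ w : W, w * x * w⁻¹ = y := by decide +kernel

theorem inP_iff : ∀ x : W, inA x → inP x = !x.c := by decide +kernel

theorem om_pair : ∀ (j : Fin 3) (d : Bool), ∃ x y : W, om d x ∧ om d y ∧ x ≠ zz ∧ y = pp j * x ∧
    ∀ x' : W, om d x' → om d (pp j * x') → x' = x ∨ x' = y := by decide +kernel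

theorem om_facts : ∀ (d : Bool) (x : W), om d x → inA x ∧ x ≠ 1 := by decide +kernel

theorem mid_exists : ∀ d : Bool, ∃ x : W, inA x ∧ x.c = true ∧ det x = d := by decide +kernel

theorem P_mul : ∀ x y : W, inP x → inP y → inP (x * y) := by decide +kernel

end W

namespace Base

variable {G : Type u} [Group G] [Finite G] (B : Base G)

theorem zc_S {x : W} (h : B.ZC (B.ι x)) (c : W) : B.ZC (B.ι (c * x * c⁻¹)) := by
  rw [map_mul, map_mul, map_inv]
  exact h.conj _

theorem caseA_conj {f n : G} (hn : n ∈ Subgroup.normalizer (B.A : Set G)) (h : B.CaseA f) :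
    B.CaseA (n * f * n⁻¹) := by
  obtain ⟨a, ⟨haA, ha⟩, haz⟩ := h
  refine ⟨n * a * n⁻¹, ⟨(Subgroup.mem_normalizer_iff.mp hn a).mp haA, fun m hm hmo hmf => ?_⟩, haz.conj n⟩
  have h1 := ha (n⁻¹ * m * n) (mul_mem (mul_mem (inv_mem hn) hm) hn)
    (by rw [show n⁻¹ * m * n = n⁻¹ * m * n⁻¹⁻¹ by group, CfsgLib.ZStar.orderOf_conj]; exact hmo) (by
      calc n⁻¹ * m * n * f = n⁻¹ * (m * (n * f * n⁻¹)) * n := by group
        _ = f * (n⁻¹ * m * n) := by rw [hmf]; group)
  calc m * (n * a * n⁻¹) = n * (n⁻¹ * m * n * a) * n⁻¹ := by group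
    _ = n * a * n⁻¹ * m := by rw [h1]; group

/-- The points of central type in the subgroup of order sixteen. -/
theorem zc_om (hnone : ∀ j : Fin 3, ¬ B.ZC (B.ι (W.pp j)))
    (hout : ∀ w : W, W.outer w → ¬ B.ZC (B.ι w)) :
    ∃ d : Bool, ∀ w : W, W.inA w → (B.ZC (B.ι w) ↔ W.om d w) := by
  classical
  haveI : Fact (Nat.Prime 2) := ⟨Nat.prime_two⟩
  have hP : ∀ w : W, W.inP w → w ≠ W.zz → ¬ B.ZC (B.ι w) := by
    intro w hw hwz h
    rcases W.P_cases w hw with rfl | h1 | ⟨j, c, rfl⟩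
    · exact B.zc_ne_one h (map_one _)
    · exact hwz h1
    · refine hnone j ?_
      have := B.zc_S h c⁻¹
      rwa [show c⁻¹ * (c * W.pp j * c⁻¹) * c⁻¹⁻¹ = W.pp j by group] at this
  have hcl : ∀ x y : W, W.inA x → x.c = true → W.inA y → y.c = true → W.det x = W.det y →
      B.ZC (B.ι x) → B.ZC (B.ι y) := fun x y hx hxc hy hyc he h => by
    obtain ⟨w, rfl⟩ := W.mid_orbit x hx hxc y hy hyc he
    exact B.zc_S h w
  have hclass : ∀ w : W, W.inA w → B.ZC (B.ι w) → w = W.zz ∨ w.c = true := fun w hw h => by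
    by_contra hc
    push Not at hc
    exact hP w (by rw [W.inP_iff w hw]; simp [Bool.eq_false_iff.mpr hc.2]) hc.1 h
  have hzz : ∀ d, W.om d W.zz := fun d => by simp [W.om]
  by_cases hboth : ∀ d : Bool, ∃ x, W.inA x ∧ x.c = true ∧ W.det x = d ∧ B.ZC (B.ι x)
  · exfalso
    have hall : ∀ x, W.inA x → x.c = true → B.ZC (B.ι x) := fun x hx hxc => by
      obtain ⟨y, hy, hyc, hye, hyz⟩ := hboth (W.det x)
      exact hcl y x hy hyc hx hxc hye hyz
    -- the normaliser fixes the central involution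
    have hfix : ∀ n ∈ Subgroup.normalizer (B.A : Set G), n * B.z * n⁻¹ = B.z := by
      intro n hn
      have him : ∀ w : W, W.inP w → w ≠ 1 → w ≠ W.zz →
          ∃ v : W, W.inP v ∧ B.ι v = n * B.ι w * n⁻¹ := fun w hw hw1 hwz => by
        obtain ⟨v, hv, hve⟩ := B.mem_A.mp
          ((Subgroup.mem_normalizer_iff.mp hn _).mp (B.mem_A_iff.mpr (W.P_inA w hw)))
        refine ⟨v, ?_, hve⟩
        rw [W.inP_iff v hv, Bool.not_eq_true', Bool.eq_false_iff]
        intro hc
        exact B.not_zc_conj (hP w hw hwz) n (hve ▸ hall v hv hc)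
      have hp := W.pp_facts 0
      obtain ⟨v, hv, hve⟩ := him (W.pp 0) hp.1 hp.2.1 hp.2.2.1
      obtain ⟨v', hv', hve'⟩ := him (W.pp 0 * W.zz) (W.P_mul _ _ hp.1 W.zz_facts.2.2.2.1)
        (fun e => hp.2.2.1 (eq_inv_of_mul_eq_one_left e |>.trans (inv_eq_of_mul_eq_one_right W.zz_facts.1)))
        (fun e => hp.2.1 (mul_right_cancel (e.trans (one_mul _).symm)))
      have hvv : B.ι (v * v') = n * B.z * n⁻¹ := by
        rw [map_mul, hve, hve', map_mul,
          show n * B.ι (W.pp 0) * n⁻¹ * (n * (B.ι (W.pp 0) * B.ι W.zz) * n⁻¹) =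
            n * (B.ι (W.pp 0) * B.ι (W.pp 0)) * B.ι W.zz * n⁻¹ by group,
          B.sq_A (B.mem_A_iff.mpr (W.P_inA _ hp.1)), mul_one]
      by_contra hne
      refine hP (v * v') (W.P_mul v v' hv hv') (fun e => hne ?_) ⟨n, hvv.symm⟩
      rw [← hvv, e]
    obtain ⟨x, hx, hxc, -⟩ := W.mid_exists false
    obtain ⟨g, hg⟩ := hall x hx hxc
    obtain ⟨n, hn, -, hne⟩ := B.control (H := ⊤) le_top (g := g) (Subgroup.mem_top _) B.z_mem_A
      (by rw [hg]; exact B.mem_A_iff.mpr hx)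
    rw [hfix n hn, hg] at hne
    rw [← B.inj hne] at hxc
    exact absurd hxc (by decide)
  push Not at hboth
  obtain ⟨d0, hd0⟩ := hboth
  by_cases hone : ∃ x, W.inA x ∧ x.c = true ∧ B.ZC (B.ι x)
  · obtain ⟨x, hx, hxc, hxz⟩ := hone
    refine ⟨W.det x, fun w hw => ⟨fun h => ?_, fun h => ?_⟩⟩
    · rcases hclass w hw h with rfl | hwc
      · exact hzz _
      · have h1 : W.det x ≠ d0 := fun e => hd0 x hx hxc e hxz
        have h2 : W.det w ≠ d0 := fun e => hd0 w hw hwc e h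
        have h3 : W.det w = W.det x := by
          revert h1 h2
          cases W.det x <;> cases W.det w <;> cases d0 <;> simp
        simp [W.om, hw, hwc, h3]
    · simp only [W.om, Bool.or_eq_true, decide_eq_true_eq, Bool.and_eq_true, beq_iff_eq] at h
      rcases h with rfl | ⟨⟨hwA, hwc⟩, he⟩
      · exact ⟨1, by group⟩
      · exact hcl x w hx hxc hwA hwc he.symm hxz
  · -- the central involution would be isolated
    exfalso
    push Not at hone
    have hiso : IsIsolated B.z := CfsgLib.ZStar.isolated_of_sylow B.S B.orderOf_z (B.mem_S _) fun g hg => by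
      obtain ⟨y, hy⟩ := B.exists_eq hg
      have hyz : B.ZC (B.ι y) := ⟨g, hy.symm⟩
      by_cases hyA : W.inA y
      · rcases hclass y hyA hyz with rfl | hc
        · exact hy.symm
        · exact absurd hyz (hone y hyA hc)
      · refine absurd hyz (hout y ?_)
        simp [W.outer, B.sq_of_conj (x := W.zz) W.zz_facts.1 hy.symm, Bool.eq_false_iff.mpr hyA]
    have hcent : B.z ∈ Subgroup.center G := Subgroup.mem_center_iff.mpr fun g => by
      have h := CfsgLib.ZStar.inZStar B.orderOf_z hiso g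
      rw [show pPrimeCore 2 G = ⊥ from B.hO, Subgroup.mem_bot, mul_inv_eq_one] at h
      exact mul_inv_eq_iff_eq_mul.mp h
    haveI : (Subgroup.zpowers B.z).Normal := ⟨fun n hn g => by
      rw [Subgroup.mem_center_iff.mp (Subgroup.zpowers_le.mpr hcent hn) g, mul_inv_cancel_right]; exact hn⟩
    have := CfsgLib.le_pCore (N := Subgroup.zpowers B.z) (IsPGroup.of_card (n := 1)
      (by rw [Nat.card_zpowers, B.orderOf_z, pow_one]) : IsPGroup 2 _) (Subgroup.mem_zpowers B.z)
    rw [B.h2, Subgroup.mem_bot] at this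
    exact B.z_ne this

/-- Without an involution of central type in the columns every centraliser has a fixed element of central type. -/
theorem caseA_of_none_gen (hnone : ∀ j : Fin 3, ¬ B.ZC (B.ι (W.pp j)))
    (hout : ∀ w : W, W.outer w → ¬ B.ZC (B.ι w)) {f : G}
    (hrep : ∃ n ∈ Subgroup.normalizer (B.A : Set G), ∃ j : Fin 3, n * f * n⁻¹ = B.ι (W.pp j)) : B.CaseA f := by
  classical
  haveI : Fact (Nat.Prime 2) := ⟨Nat.prime_two⟩
  obtain ⟨d, hd⟩ := B.zc_om hnone hout
  obtain ⟨n, hn, j, e⟩ := hrep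
  suffices h : B.CaseA (B.ι (W.pp j)) by
    have := B.caseA_conj (inv_mem hn) h
    rwa [show n⁻¹ * B.ι (W.pp j) * n⁻¹⁻¹ = f by rw [← e]; group] at this
  obtain ⟨x, y, hx, hy, -, hyx, huniq⟩ := W.om_pair j d
  have hxA := (W.om_facts d x hx).1
  refine ⟨B.ι x, ⟨B.mem_A_iff.mpr hxA, fun m hm hmo hmf => ?_⟩, (hd x hxA).mpr hx⟩
  set b := B.ι (W.pp j)
  have hb : ∀ a : G, m * (b * a) * m⁻¹ = b * (m * a * m⁻¹) := fun a => by
    calc m * (b * a) * m⁻¹ = m * b * (a * m⁻¹) := by group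
      _ = b * (m * a * m⁻¹) := by rw [hmf]; group
  have hyA := (W.om_facts d y hy).1
  obtain ⟨v, hv, hve⟩ := B.mem_A.mp ((Subgroup.mem_normalizer_iff.mp hm _).mp (B.mem_A_iff.mpr hxA))
  have hyv : B.ι (W.pp j * v) = m * B.ι y * m⁻¹ := by rw [map_mul, hve, hyx, map_mul, hb]
  rcases huniq v ((hd v hv).mp (hve ▸ ((hd x hxA).mpr hx).conj m)) ((hd _ (W.inA_facts.2.1 _ _
      (W.P_inA _ (W.pp_facts j).1) hv)).mp (hyv ▸ ((hd y hyA).mpr hy).conj m)) with h1 | h1
  · rw [h1] at hve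
    exact mul_inv_eq_iff_eq_mul.mp hve.symm
  · rw [h1, hyx] at hve hyv
    have hback : m * B.ι (W.pp j * x) * m⁻¹ = B.ι x := by
      rw [← hyv, ← mul_assoc, W.inA_facts.2.2.1 _ (W.P_inA _ (W.pp_facts j).1), one_mul]
    have h2 : m * m * B.ι x = B.ι x * (m * m) := mul_inv_eq_iff_eq_mul.mp (by
      rw [show m * m * B.ι x * (m * m)⁻¹ = m * (m * B.ι x * m⁻¹) * m⁻¹ by group, ← hve]
      exact hback)
    obtain ⟨k, hk⟩ := hmo
    have h3 : m = (m * m) ^ (k + 1) := by
      rw [← pow_two, ← pow_mul, show 2 * (k + 1) = 2 * k + 1 + 1 by ring, pow_succ, ← hk, pow_orderOf_eq_one, one_mul]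
    rw [h3]
    exact ((show Commute (m * m) (B.ι x) from h2).pow_left (k + 1)).eq

theorem out_none (hF : B.Fused) (hnone : ∀ j : Fin 3, ¬ B.ZC (B.ι (W.pp j))) {w : W} (hw : W.outer w) :
    ¬ B.ZC (B.ι w) := fun h => by
  obtain ⟨j, c, rfl⟩ := W.outer_conj w hw
  obtain ⟨d, -, hde⟩ := B.gg_pp hF j
  have h1 : B.ZC (B.ι (W.gg j)) := by
    have := B.zc_S h c⁻¹
    rwa [show c⁻¹ * (c * W.gg j * c⁻¹) * c⁻¹⁻¹ = W.gg j by group] at this
  rcases hde with e | e
  · refine hnone j ?_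
    have := h1.conj d
    rwa [e] at this
  · obtain ⟨c', hc'⟩ := (W.pp_facts j).2.2.2.2.2
    refine hnone j ?_
    have := B.zc_S (e ▸ h1.conj d) c'⁻¹
    rwa [show c'⁻¹ * (W.pp j * W.zz) * c'⁻¹⁻¹ = W.pp j by rw [← hc']; group] at this

theorem caseA_of_none (hF : B.Fused) (hnone : ∀ j : Fin 3, ¬ B.ZC (B.ι (W.pp j))) {f : G} (hf : f ∈ B.A)
    (hf1 : f ≠ 1) (hz : ¬ B.ZC f) : B.CaseA f :=
  B.caseA_of_none_gen hnone (fun _ hw => B.out_none hF hnone hw) (B.exists_pp hF hf hf1 hz)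

/-- Some column is balanced. -/
theorem exists_good (hF : B.Fused) : ∃ k : Fin 3, B.Good k := by
  by_cases h : ∃ j : Fin 3, B.ZC (B.ι (W.pp j))
  · obtain ⟨j, hj⟩ := h
    refine ⟨j, fun v hv hv1 => bal_of_solvable (B.solvable_of_zc ?_)⟩
    obtain ⟨d, hd, hde⟩ := B.gg_pp hF j
    have hpz : B.ZC (B.ι (W.pp j * W.zz)) := by
      obtain ⟨e, he⟩ := (W.pp_facts j).2.2.2.2.2
      exact he ▸ B.zc_S hj e
    have hg : B.ZC (B.ι (W.gg j)) := by
      have h' : ∀ t : G, d * B.ι (W.gg j) * d⁻¹ = t → B.ZC t → B.ZC (B.ι (W.gg j)) := fun t e ht => by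
        have := ht.conj d⁻¹
        rwa [← e, show d⁻¹ * (d * B.ι (W.gg j) * d⁻¹) * d⁻¹⁻¹ = B.ι (W.gg j) by group] at this
      rcases hde with e | e
      · exact h' _ e hj
      · exact h' _ e hpz
    have key : ∀ (j : Fin 3) (v : W), W.inV j v → v = 1 ∨ v = W.zz ∨ v = W.pp j ∨ v = W.pp j * W.zz ∨
        ∃ c : W, c * W.gg j * c⁻¹ = v := by decide +kernel
    rcases key j v hv with rfl | rfl | rfl | rfl | ⟨c, rfl⟩
    · exact absurd rfl hv1
    · exact ⟨1, by group⟩
    · exact hj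
    · exact hpz
    · exact B.zc_S hg c
  push Not at h
  refine ⟨0, fun v hv hv1 => bal_of_solvable ?_⟩
  have hvv : v * v = 1 := ((W.inV_facts 0).2.2.1 v hv).1
  obtain ⟨m, -, hm⟩ := B.exists_rep hF (M := ⊤) le_top le_top hvv hv1
  set r := m * B.ι v * m⁻¹ with hr
  have hrs : Group.IsSolvable ↥(Subgroup.centralizer ({r} : Set G)) := by
    by_cases hz : B.ZC r
    · exact B.solvable_of_zc hz
    · have hr1 : r ≠ 1 := fun e => hv1 (B.ι_eq_one.mp (conj_eq_one_iff.mp e))
      obtain ⟨D0, hD⟩ := B.exists_half hF hm.mem_A hr1 hz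
      exact B.solvable_caseA hD (B.caseA_of_none hF h hm.mem_A hr1 hz)
  haveI := hrs
  exact Group.isSolvable_of_isSolvable_injective (f :=
    ({ toFun := fun x => ⟨m * x * m⁻¹, by
          have h' := Subgroup.mem_centralizer_singleton_iff.mp x.2
          rw [Subgroup.mem_centralizer_singleton_iff, hr]
          calc m * x * m⁻¹ * (m * B.ι v * m⁻¹) = m * ((x : G) * B.ι v) * m⁻¹ := by group
            _ = m * B.ι v * m⁻¹ * (m * x * m⁻¹) := by rw [h']; group⟩
       map_one' := Subtype.ext (by simp)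
       map_mul' := fun x y => Subtype.ext (by simp [mul_assoc]) } :
      ↥(Subgroup.centralizer ({B.ι v} : Set G)) →* ↥(Subgroup.centralizer ({r} : Set G))))
    fun x y e => Subtype.ext (mul_left_cancel (mul_right_cancel (congrArg Subtype.val e)))

end Base

end CfsgLib.A8Sylow
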