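import Cfsg.Agent.Lib.A8Sylow.Fusion
import Cfsg.Agent.Lib.A8Sylow.Perm
import Cfsg.Agent.Lib.CharTwoEarly
import Cfsg.Agent.Lib.PSolvable

/-!
The centraliser of the central involution modulo its core, in the fused case.

Blueprint: `blueprint/S2918.md`, step 2.
-/

set_option autoImplicit false
set_option maxRecDepth 100000
set_option linter.style.haveILetI false
set_option linter.unusedSectionVars false

open Cfsg

namespace CfsgLib.A8Sylow

open CfsgLib.CharTwoEarly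

universe u

namespace W

theorem inV_inA : ∀ j : Fin 3, (Finset.univ.filter fun x => (inV j x && inA x) = true).card = 4 := by decide +kernel

end W

section General

variable {G : Type u} [Group G] [Finite G]

/-- Two groups of order a power of two with the same image modulo an odd normalised subgroup are conjugate in it. -/
theorem exists_conj_odd {O P P' : Subgroup G} (hO : Odd (Nat.card O)) (hP : IsPGroup 2 P) (hP' : IsPGroup 2 P')
    (hn : P' ≤ Subgroup.normalizer (O : Set G)) (hle : P ≤ O ⊔ P') :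
    ∃ o ∈ O, ∀ p ∈ P, o * p * o⁻¹ ∈ P' := by
  haveI : Fact (Nat.Prime 2) := ⟨Nat.prime_two⟩
  set K := O ⊔ P' with hK
  let P'K := P'.subgroupOf K
  have hP'K : IsPGroup 2 P'K := hP'.comap_of_injective K.subtype K.subtype_injective
  obtain ⟨T', hT'⟩ := hP'K.exists_le_sylow
  obtain ⟨T, hT⟩ := (hP.comap_of_injective K.subtype K.subtype_injective).exists_le_sylow
  obtain ⟨k, hk⟩ := MulAction.exists_smul_eq K T T'
  have hset : ∀ x ∈ K, ∃ o ∈ O, ∃ p ∈ P', x = p * o := fun x hx => by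
    have hx' : x ∈ P' ⊔ O := sup_comm O P' ▸ hx
    rw [← SetLike.mem_coe, Subgroup.coe_mul_of_left_le_normalizer_right P' O hn] at hx'
    obtain ⟨p, hp, o, ho, rfl⟩ := hx'
    exact ⟨o, ho, p, hp, rfl⟩
  -- the Sylow subgroup over `P'` is `P'`
  have hT'le : ∀ t : K, t ∈ (T' : Subgroup K) → (t : G) ∈ P' := fun t ht => by
    obtain ⟨o, ho, p, hp, e⟩ := hset t t.2
    have hpK : p ∈ K := Subgroup.mem_sup_right hp
    have ho1 : (⟨p, hpK⟩ : K)⁻¹ * t ∈ (T' : Subgroup K) := mul_mem (inv_mem (hT' hp)) ht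
    obtain ⟨i, hi⟩ := T'.isPGroup' ⟨_, ho1⟩
    have hi' : o ^ 2 ^ i = 1 := by
      have h := congrArg (fun x : (T' : Subgroup K) => ((x : K) : G)) hi
      simpa [e] using h
    have : o = 1 := orderOf_eq_one_iff.mp (Nat.eq_one_of_dvd_coprimes ((Nat.coprime_two_left.mpr hO).pow_left i)
      (orderOf_dvd_of_pow_eq_one hi') (Subgroup.orderOf_dvd_natCard O ho))
    rw [e, this, mul_one]
    exact hp
  obtain ⟨o, ho, p, hp, e⟩ := hset k k.2
  refine ⟨o, ho, fun q hq => ?_⟩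
  have h1 : (⟨q, hle hq⟩ : K) ∈ (T : Subgroup K) := hT hq
  have h2 := hT'le _ (hk ▸ Subgroup.smul_mem_pointwise_smul _ (MulAut.conj k) _ h1 :
    k * ⟨q, hle hq⟩ * k⁻¹ ∈ (T' : Subgroup K))
  have h3 := mul_mem (mul_mem (inv_mem hp) h2) hp
  simp only [Subgroup.coe_mul, Subgroup.coe_inv, e] at h3
  rwa [show p⁻¹ * (p * o * q * (p * o)⁻¹) * p = o * q * o⁻¹ by group] at h3

end General

namespace Base

variable {G : Type u} [Group G] [Finite G] (B : Base G)

theorem mem_C {g : G} : g ∈ Subgroup.centralizer ({B.z} : Set G) ↔ g * B.z = B.z * g :=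
  Subgroup.mem_centralizer_singleton_iff

theorem comm_z (w : W) : B.ι w * B.z = B.z * B.ι w := B.z_comm_S (B.mem_S w)

/-- The local hypotheses hold in `C(z)` modulo its core. -/
noncomputable def loc (hF : B.Fused) :
    Loc (↥(Subgroup.centralizer ({B.z} : Set G)) ⧸ pPrimeCore 2 ↥(Subgroup.centralizer ({B.z} : Set G))) where
  ι := (QuotientGroup.mk' _).comp (B.ι.codRestrict _ fun w => B.mem_C.mpr (B.comm_z w))
  inj := (injective_iff_map_eq_one _).mpr fun w hw => by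
    haveI : Fact (Nat.Prime 2) := ⟨Nat.prime_two⟩
    obtain ⟨i, hi⟩ := (IsPGroup.of_card (p := 2) (G := W) (n := 6) W.card) w
    have h1 := (QuotientGroup.eq_one_iff _).mp hw
    refine B.ι_eq_one.mp (orderOf_eq_one_iff.mp (Nat.eq_one_of_dvd_coprimes (a := 2 ^ i)
      (b := Nat.card (pPrimeCore 2 ↥(Subgroup.centralizer ({B.z} : Set G)))) ?_
      (orderOf_dvd_of_pow_eq_one (by rw [← map_pow, hi, map_one])) ?_))
    · exact Nat.Coprime.pow_left i (CfsgLib.card_pPrimeCore_coprime 2).symm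
    · rw [show B.ι w = ((B.ι.codRestrict _ fun w => B.mem_C.mpr (B.comm_z w)) w : G) from rfl, Subgroup.orderOf_coe]
      exact Subgroup.orderOf_dvd_natCard _ h1
  sylow := by
    haveI : Fact (Nat.Prime 2) := ⟨Nat.prime_two⟩
    refine ⟨(B.S.subtype B.S_le_cent).mapSurjective (QuotientGroup.mk'_surjective _), ?_⟩
    rw [Sylow.coe_mapSurjective, MonoidHom.range_comp]
    congr 1
    ext ⟨x, hx⟩
    constructor
    · rintro ⟨w, hw⟩
      show x ∈ (B.S : Subgroup G)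
      rw [← show B.ι w = x from congrArg Subtype.val hw]
      exact B.mem_S w
    · intro h
      obtain ⟨w, hw⟩ := B.exists_eq (show x ∈ (B.S : Subgroup G) from h)
      exact ⟨w, Subtype.ext hw⟩
  zc x := by
    obtain ⟨c, rfl⟩ := QuotientGroup.mk'_surjective _ x
    rw [MonoidHom.comp_apply, ← map_mul, ← map_mul]
    exact congrArg _ (Subtype.ext (B.mem_C.mp c.2))
  hsol := by
    haveI : Group.IsSolvable ↥(Subgroup.centralizer ({B.z} : Set G)) := B.hsol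
    exact Group.isSolvable_of_surjective (QuotientGroup.mk'_surjective _)
  hO := CfsgLib.pPrimeCore_quotient_eq_bot 2
  fus j := by
    obtain ⟨h, hz, y, hy, -, -, e⟩ := B.fused_cent hF j
    refine ⟨QuotientGroup.mk' _ ⟨h, B.mem_C.mpr hz⟩, y, hy, ?_⟩
    rw [MonoidHom.comp_apply, MonoidHom.comp_apply, ← map_inv, ← map_mul, ← map_mul]
    exact congrArg _ (Subtype.ext e)

theorem loc_ι (hF : B.Fused) (w : W) :
    (B.loc hF).ι w = QuotientGroup.mk' _ ⟨B.ι w, B.mem_C.mpr (B.comm_z w)⟩ := rfl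

/-- Equalities modulo the core. -/
theorem mk_eq {a b : ↥(Subgroup.centralizer ({B.z} : Set G))}
    (h : QuotientGroup.mk' (pPrimeCore 2 ↥(Subgroup.centralizer ({B.z} : Set G))) a = QuotientGroup.mk' _ b) :
    (a : G) * (b : G)⁻¹ ∈ core B.z := by
  have h1 : a * b⁻¹ ∈ pPrimeCore 2 ↥(Subgroup.centralizer ({B.z} : Set G)) :=
    (QuotientGroup.eq_one_iff _).mp (show QuotientGroup.mk' _ (a * b⁻¹) = 1 by rw [map_mul, map_inv, h, mul_inv_cancel])
  exact ⟨_, h1, rfl⟩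

theorem cols_mod (hF : B.Fused) {c : G} (hc : c * B.z = B.z * c) (j : Fin 3) :
    ∃ i : Fin 3, ∀ v : W, W.inV j v → ∃ v' : W, W.inV i v' ∧
      (B.loc hF).cj (QuotientGroup.mk' _ ⟨c, B.mem_C.mpr hc⟩) v = v' ∧ c * B.ι v * c⁻¹ * (B.ι v')⁻¹ ∈ core B.z := by
  set L := B.loc hF
  set x := QuotientGroup.mk' (pPrimeCore 2 ↥(Subgroup.centralizer ({B.z} : Set G))) ⟨c, B.mem_C.mpr hc⟩
  obtain ⟨i, hi⟩ := (W.line_index (L.σ x (W.col j))).resolve_right fun ⟨r, hr⟩ =>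
    absurd (hr ▸ L.σ_col x j) (Nat.not_lt.mpr (W.col_row 0 r).2.1)
  refine ⟨i, fun v hv => ⟨_, ?_, rfl, ?_⟩⟩
  · have h := L.σ_spec x (by rw [W.line_col]; exact hv : W.line (W.col j) v)
    rwa [hi, W.line_col] at h
  · have h : QuotientGroup.mk' _ ⟨B.ι (L.cj x v), B.mem_C.mpr (B.comm_z _)⟩ =
        QuotientGroup.mk' (pPrimeCore 2 ↥(Subgroup.centralizer ({B.z} : Set G)))
          (⟨c, B.mem_C.mpr hc⟩ * ⟨B.ι v, B.mem_C.mpr (B.comm_z _)⟩ * ⟨c, B.mem_C.mpr hc⟩⁻¹) :=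
      (L.cj_spec x ((W.inV_facts j).2.2.1 v hv).2).2.trans (by simp only [map_mul, map_inv]; rfl)
    exact B.mk_eq h.symm

/-- No element of `C(z)` takes a column into the subgroup of order sixteen. -/
theorem parity (hF : B.Fused) {c : G} (hc : c * B.z = B.z * c) (j : Fin 3)
    (hA : ∀ v : W, W.inV j v → c * B.ι v * c⁻¹ ∈ B.A) : False := by
  classical
  set L := B.loc hF
  set x := QuotientGroup.mk' (pPrimeCore 2 ↥(Subgroup.centralizer ({B.z} : Set G))) ⟨c, B.mem_C.mpr hc⟩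
  obtain ⟨i, hi⟩ := B.cols_mod hF hc j
  have hsub : (Finset.univ.filter fun v => W.inV j v = true).image (L.cj x) ⊆
      Finset.univ.filter fun v => (W.inV i v && W.inA v) = true := fun y hy => by
    obtain ⟨v, hv, rfl⟩ := Finset.mem_image.mp hy
    have hv' : W.inV j v := (Finset.mem_filter.mp hv).2
    obtain ⟨v', hv'V, he, -⟩ := hi v hv'
    obtain ⟨a, ha, hae⟩ := B.mem_A.mp (hA v hv')
    refine Finset.mem_filter.mpr ⟨Finset.mem_univ _, Bool.and_eq_true_iff.mpr ⟨he ▸ hv'V, ?_⟩⟩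
    rw [L.cj_eq x ((W.inV_facts j).2.2.1 v hv').2 (v := a)]
    · exact ha
    have h : QuotientGroup.mk' _ ⟨B.ι a, B.mem_C.mpr (B.comm_z _)⟩ =
        QuotientGroup.mk' (pPrimeCore 2 ↥(Subgroup.centralizer ({B.z} : Set G)))
          (⟨c, B.mem_C.mpr hc⟩ * ⟨B.ι v, B.mem_C.mpr (B.comm_z _)⟩ * ⟨c, B.mem_C.mpr hc⟩⁻¹) :=
      congrArg _ (Subtype.ext hae)
    exact h.trans (by simp only [map_mul, map_inv]; rfl)
  have h := Finset.card_le_card hsub
  rw [Finset.card_image_of_injOn fun a ha b hb e => L.cj_injOn x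
    ((W.inV_facts j).2.2.1 a (Finset.mem_filter.mp ha).2).2 ((W.inV_facts j).2.2.1 b (Finset.mem_filter.mp hb).2).2 e,
    (W.inV_facts j).2.2.2.2, W.inV_inA i] at h
  omega

theorem core_conj {c x : G} (hc : c * B.z = B.z * c) (hx : x ∈ core B.z) : c * x * c⁻¹ ∈ core B.z :=
  conj_mem_core hc hx

theorem le_normalizer_core {P : Subgroup G} (hP : P ≤ Subgroup.centralizer ({B.z} : Set G)) :
    P ≤ Subgroup.normalizer (core B.z : Set G) := fun p hp => Subgroup.mem_normalizer_iff.mpr fun x =>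
  ⟨fun hx => B.core_conj (B.mem_C.mp (hP hp)) hx, fun hx => by
    have := B.core_conj (B.mem_C.mp (hP (inv_mem hp))) hx
    simpa [mul_assoc] using this⟩

/-- The columns are permuted up to the core. -/
theorem cols (hF : B.Fused) {c : G} (hc : c * B.z = B.z * c) (j : Fin 3) :
    ∃ i : Fin 3, ∃ o ∈ core B.z, ∀ v : W, W.inV j v → ∃ v' : W, W.inV i v' ∧ o * c * B.ι v * (o * c)⁻¹ = B.ι v' := by
  obtain ⟨i, hi⟩ := B.cols_mod hF hc j
  set P := ((W.Vsub j).map B.ι).map (MulAut.conj c).toMonoidHom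
  set P' := (W.Vsub i).map B.ι
  have h2 : ∀ k, IsPGroup 2 ((W.Vsub k).map B.ι) := fun k =>
    IsPGroup.of_card (n := 3) (by rw [Subgroup.card_map_of_injective B.inj, W.card_Vsub]; norm_num)
  obtain ⟨o, ho, hoP⟩ := exists_conj_odd (odd_core B.z) ((h2 j).map _ : IsPGroup 2 P) (h2 i)
    (B.le_normalizer_core (by rintro _ ⟨w, -, rfl⟩; exact B.mem_C.mpr (B.comm_z w))) (by
      rintro _ ⟨_, ⟨v, hv, rfl⟩, rfl⟩
      obtain ⟨v', hv', -, h⟩ := hi v hv
      show c * B.ι v * c⁻¹ ∈ core B.z ⊔ P'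
      rw [← inv_mul_cancel_right (c * B.ι v * c⁻¹) (B.ι v'), ← mul_inv_cancel_right (c * B.ι v * c⁻¹) (B.ι v')⁻¹]
      exact mul_mem (Subgroup.mem_sup_left (by simpa [mul_assoc] using h)) (Subgroup.mem_sup_right ⟨v', hv', rfl⟩))
  refine ⟨i, o, ho, fun v hv => ?_⟩
  obtain ⟨v', hv', e⟩ := hoP _ ⟨_, ⟨v, hv, rfl⟩, rfl⟩
  refine ⟨v', hv', e.trans ?_ |>.symm⟩
  simp [mul_assoc]

/-- Each operation is conjugate in `C(z)` to the involution of its column. -/
theorem gg_pp (hF : B.Fused) (j : Fin 3) : ∃ c : G, c * B.z = B.z * c ∧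
    (c * B.ι (W.gg j) * c⁻¹ = B.ι (W.pp j) ∨ c * B.ι (W.gg j) * c⁻¹ = B.ι (W.pp j * W.zz)) := by
  obtain ⟨x, hx⟩ := (B.loc hF).gg_pp j
  obtain ⟨⟨c, hc⟩, rfl⟩ := QuotientGroup.mk'_surjective _ x
  have hc' := B.mem_C.mp hc
  have key : ∀ t : W, t * t = 1 → (B.loc hF).ι t = QuotientGroup.mk' _ (⟨c, hc⟩ *
      ⟨B.ι (W.gg j), B.mem_C.mpr (B.comm_z _)⟩ * ⟨c, hc⟩⁻¹) → ∃ d : G, d * B.z = B.z * d ∧
      d * B.ι (W.gg j) * d⁻¹ = B.ι t := by
    intro t ht e
    have h := B.mk_eq (B.loc_ι hF t ▸ e).symm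
    simp only [Subgroup.coe_mul, Subgroup.coe_inv] at h
    have hz2 : ∀ u : W, u * u = 1 → IsPGroup 2 (Subgroup.zpowers (B.ι u)) := fun u hu => fun ⟨y, hy⟩ => by
      obtain ⟨n, rfl⟩ := Subgroup.mem_zpowers_iff.mp hy
      refine ⟨1, Subtype.ext ?_⟩
      show (B.ι u ^ n) ^ 2 ^ 1 = 1
      rw [pow_one, pow_two, ← zpow_add, ← two_mul, zpow_mul, zpow_two, ← map_mul, hu, map_one, one_zpow]
    obtain ⟨o, ho, hoP⟩ := exists_conj_odd (odd_core B.z)
      ((hz2 _ (W.gg_sq j).1).map (MulAut.conj c).toMonoidHom) (hz2 t ht)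
      (B.le_normalizer_core (Subgroup.zpowers_le.mpr (B.mem_C.mpr (B.comm_z t)))) (by
        rw [MonoidHom.map_zpowers, Subgroup.zpowers_le]
        show c * B.ι (W.gg j) * c⁻¹ ∈ _
        rw [← inv_mul_cancel_right (c * B.ι (W.gg j) * c⁻¹) (B.ι t)]
        exact mul_mem (Subgroup.mem_sup_left h) (Subgroup.mem_sup_right (Subgroup.mem_zpowers _)))
    refine ⟨o * c, ?_, ?_⟩
    · rw [← B.mem_C]; exact mul_mem (core_le B.z ho) hc
    obtain ⟨n, hn⟩ := Subgroup.mem_zpowers_iff.mp (hoP _ ⟨_, Subgroup.mem_zpowers _, rfl⟩)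
    have hn' : B.ι t ^ n = o * c * B.ι (W.gg j) * (o * c)⁻¹ := by rw [hn]; simp [mul_assoc]
    rcases Int.even_or_odd n with ⟨k, rfl⟩ | ⟨k, rfl⟩
    · exfalso
      rw [← two_mul, zpow_mul, zpow_two, ← map_mul, ht, map_one, one_zpow, eq_comm, conj_eq_one_iff] at hn'
      exact (W.gg_sq j).2.1 (B.ι_eq_one.mp hn')
    · rw [← hn', zpow_add, zpow_mul, zpow_two, ← map_mul, ht, map_one, one_zpow, one_mul, zpow_one]
  have hp : ∀ j : Fin 3, W.pp j * W.pp j = 1 ∧ W.pp j * W.zz * (W.pp j * W.zz) = 1 := by decide +kernel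
  rw [B.loc_ι hF (W.gg j), ← map_inv, ← map_mul, ← map_mul] at hx
  rcases hx with e | e
  · obtain ⟨d, hd, hde⟩ := key _ (hp j).1 e.symm
    exact ⟨d, hd, .inl hde⟩
  · obtain ⟨d, hd, hde⟩ := key _ (hp j).2 e.symm
    exact ⟨d, hd, .inr hde⟩

end Base

end CfsgLib.A8Sylow
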