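import Cfsg.Agent.Lib.A8Sylow.Weave

/-!
Representatives of the involutions, in the fused case.

Blueprint: `blueprint/S2918.md`, step 3.
-/

set_option autoImplicit false
set_option maxRecDepth 100000
set_option linter.unusedSectionVars false

open Cfsg

namespace CfsgLib.A8Sylow

universe u

namespace W

theorem P_inA : ∀ x : W, inP x → inA x := by decide +kernel

theorem R_outer : ∀ x : W, inR x → inA x = false → x * x = 1 → outer x := by decide +kernel

theorem R_A : ∀ x : W, inR x → inA x → inP x := by decide +kernel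

end W

namespace Base

variable {G : Type u} [Group G] [Finite G] (B : Base G)

/-- Representatives: the central involution and the three involutions of the columns. -/
def Rep (t : G) : Prop := t = B.z ∨ ∃ j : Fin 3, t = B.ι (W.pp j)

theorem Rep.mem_A {B : Base G} {t : G} (h : B.Rep t) : t ∈ B.A := by
  rcases h with rfl | ⟨j, rfl⟩
  · exact B.z_mem_A
  · exact B.mem_A_iff.mpr (W.P_inA _ (W.pp_facts j).1)

theorem S_le_of {M : Subgroup G} (hC : Subgroup.centralizer ({B.z} : Set G) ≤ M) (w : W) : B.ι w ∈ M :=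
  hC (B.S_le_cent (B.mem_S w))

theorem rep_R (hF : B.Fused) {M : Subgroup G} (hC : Subgroup.centralizer ({B.z} : Set G) ≤ M) {x : W}
    (hR : W.inR x) (hx : x * x = 1) (hx1 : x ≠ 1) : ∃ m ∈ M, B.Rep (m * B.ι x * m⁻¹) := by
  have hP : ∀ y : W, W.inP y → y ≠ 1 → ∃ m ∈ M, B.Rep (m * B.ι y * m⁻¹) := fun y hy hy1 => by
    rcases W.P_cases y hy with h | h | ⟨j, c, hc⟩
    · exact absurd h hy1
    · exact ⟨1, one_mem _, .inl (by rw [h]; group)⟩
    · refine ⟨(B.ι c)⁻¹, inv_mem (B.S_le_of hC c), .inr ⟨j, ?_⟩⟩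
      rw [← hc, map_mul, map_mul, map_inv]; group
  by_cases hA : W.inA x
  · exact hP x (W.R_A x hR hA) hx1
  obtain ⟨j, c, hc⟩ := W.outer_conj x (W.R_outer x hR (Bool.eq_false_iff.mpr hA) hx)
  obtain ⟨d, hd, hde⟩ := B.gg_pp hF j
  have key : ∀ y : W, d * B.ι (W.gg j) * d⁻¹ = B.ι y → d * (B.ι c)⁻¹ * B.ι x * (d * (B.ι c)⁻¹)⁻¹ = B.ι y :=
    fun y hy => by rw [← hy, ← hc, map_mul, map_mul, map_inv]; group
  have hdM : d * (B.ι c)⁻¹ ∈ M := mul_mem (hC (B.mem_C.mpr hd)) (inv_mem (B.S_le_of hC c))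
  rcases hde with h | h
  · exact ⟨_, hdM, .inr ⟨j, key _ h⟩⟩
  · obtain ⟨e, he⟩ := (W.pp_facts j).2.2.2.2.2
    refine ⟨(B.ι e)⁻¹ * (d * (B.ι c)⁻¹), mul_mem (inv_mem (B.S_le_of hC e)) hdM, .inr ⟨j, ?_⟩⟩
    rw [show (B.ι e)⁻¹ * (d * (B.ι c)⁻¹) * B.ι x * ((B.ι e)⁻¹ * (d * (B.ι c)⁻¹))⁻¹ =
      (B.ι e)⁻¹ * (d * (B.ι c)⁻¹ * B.ι x * (d * (B.ι c)⁻¹)⁻¹) * B.ι e by group, key _ h, ← he, map_mul, map_mul, map_inv]
    group

/-- Every involution of the Sylow subgroup is conjugate, in a subgroup containing `C(z)` and `N(A)`, to a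
representative. -/
theorem exists_rep (hF : B.Fused) {M : Subgroup G} (hC : Subgroup.centralizer ({B.z} : Set G) ≤ M)
    (hN : Subgroup.normalizer (B.A : Set G) ≤ M) {x : W} (hx : x * x = 1) (hx1 : x ≠ 1) :
    ∃ m ∈ M, B.Rep (m * B.ι x * m⁻¹) := by
  by_cases hR : W.inR x
  · exact B.rep_R hF hC hR hx hx1
  have hA : W.inA x := by
    by_contra hA
    exact hR ((W.cw_outer x (by simp [W.outer, hx, Bool.eq_false_iff.mpr hA])).2.1)
  have hP : W.inP x = false := by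
    rw [W.inR_facts.2.2.2 x, Bool.eq_false_iff.mpr hR, Bool.and_false]
  obtain ⟨h, y, hy, hy1, e, -⟩ := B.fuse_mid hA hP
  obtain ⟨m, -, hm⟩ := B.rep_R hF (M := ⊤) le_top hy (B.sq_of_conj hx e) hy1
  obtain ⟨n, hn, -, hne⟩ := B.control (H := ⊤) le_top (g := m * h) (Subgroup.mem_top _) (B.mem_A_iff.mpr hA) (by
    rw [show m * h * B.ι x * (m * h)⁻¹ = m * (h * B.ι x * h⁻¹) * m⁻¹ by group, e]
    exact hm.mem_A)
  refine ⟨n, hN hn, ?_⟩
  rw [hne, show m * h * B.ι x * (m * h)⁻¹ = m * (h * B.ι x * h⁻¹) * m⁻¹ by group, e]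
  exact hm

/-- Conjugate to the central involution. -/
def ZC (a : G) : Prop := ∃ g : G, g * B.z * g⁻¹ = a

theorem ZC.conj {B : Base G} {a : G} (h : B.ZC a) (g : G) : B.ZC (g * a * g⁻¹) := by
  obtain ⟨k, rfl⟩ := h
  exact ⟨g * k, by group⟩

theorem not_zc_conj {a : G} (h : ¬ B.ZC a) (g : G) : ¬ B.ZC (g * a * g⁻¹) := fun h' => h (by
  have := h'.conj g⁻¹
  simpa [mul_assoc] using this)

/-- An element of the subgroup of order sixteen not of central type is conjugate in its normaliser to an involution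
of a column. -/
theorem exists_pp (hF : B.Fused) {a : G} (ha : a ∈ B.A) (ha1 : a ≠ 1) (hz : ¬ B.ZC a) :
    ∃ n ∈ Subgroup.normalizer (B.A : Set G), ∃ j : Fin 3, n * a * n⁻¹ = B.ι (W.pp j) := by
  obtain ⟨w, hw, rfl⟩ := B.mem_A.mp ha
  obtain ⟨m, -, hm⟩ := B.exists_rep hF (M := ⊤) le_top le_top (W.inA_facts.2.2.1 w hw)
    (fun h => ha1 (by rw [h, map_one]))
  obtain ⟨n, hn, -, hne⟩ := B.control (H := ⊤) le_top (g := m) (Subgroup.mem_top _) ha hm.mem_A
  rcases hm with h | ⟨j, h⟩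
  · exact absurd ⟨m⁻¹, by rw [← h]; group⟩ hz
  · exact ⟨n, hn, j, hne.trans h⟩

end Base

end CfsgLib.A8Sylow
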