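import Cfsg.Agent.Lib.A8Sylow.Shift
import Cfsg.Agent.Lib.U43Type.Tables

/-!
The extraspecial subgroup as a product of two quaternion groups, and the codes of `SL₂(3)`.

Blueprint: `blueprint/S2918.md`, step 5.
-/

set_option autoImplicit false
set_option maxRecDepth 100000
set_option synthInstance.maxSize 10000
set_option synthInstance.maxHeartbeats 1000000
set_option linter.style.haveILetI false

namespace CfsgLib.A8Sylow

namespace W

/-- A quaternion generator. -/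
def qa : W := ⟨false, false, false, true, true, false⟩

/-- A quaternion generator. -/
def qb : W := ⟨true, false, false, false, true, true⟩

/-- A central power. -/
def zp (n : ℕ) : W := if n = 0 then 1 else zz

/-- A generator up to sign. -/
def sg (e : Bool) (q : W) : W := if e then q * zz else q

/-- The quaternion with index `q`. -/
def qel (i j : W) (q : ℕ) : W := if q = 0 then 1 else if q = 1 then i else if q = 2 then j else i * j

/-- The rotation of the indices. -/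
def rotq (c q : ℕ) : ℕ := if q = 0 then 0 else (q - 1 + c) % 3 + 1

/-- The part of a code in the first quaternion group. -/
def part (i j : W) (x : ℕ) : W := zp (x / 12) * qel i j (x % 4)

theorem code_mul : ∀ ei ej : Bool, ∀ x < 24, ∀ y < 24,
    CfsgU43Type.smul x y < 24 ∧
      CfsgU43Type.smul x y / 4 % 3 = (x / 4 % 3 + y / 4 % 3) % 3 ∧
      part (sg ei qa) (sg ej qb) x * (zp (y / 12) * qel (sg ei qa) (sg ej qb) (rotq (x / 4 % 3) (y % 4))) =
        part (sg ei qa) (sg ej qb) (CfsgU43Type.smul x y) := by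
  decide +kernel

theorem rotq_facts : ∀ q < 4, rotq 1 q < 4 ∧ rotq 1 (rotq 1 q) = rotq 2 q ∧ rotq 0 q = q ∧
    rotq 1 (rotq 2 q) = q ∧ rotq 2 q < 4 := by decide +kernel

theorem sign_cases : (∀ v : W, v = qb ∨ v = qb * zz → ∃ e, v = sg e qb) ∧
    (∀ ei ej : Bool, inR (sg ei qa) ∧ inR (sg ej qb) ∧
      sg ej qb * (sg ei qa * sg ej qb) = sg ei qa) := by decide +kernel

theorem shift_facts : (shW 2 1 qa = qb ∨ shW 2 1 qa = qb * zz) ∧
    (shW 2 1 qb = qa * qb ∨ shW 2 1 qb = qa * qb * zz) ∧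
    (shW 2 1 (mm * qa * mm) = mm * qa * mm ∨ shW 2 1 (mm * qa * mm) = mm * qa * mm * zz) ∧
    (shW 2 1 (mm * qb * mm) = mm * qb * mm ∨ shW 2 1 (mm * qb * mm) = mm * qb * mm * zz) ∧
    inR qa ∧ inR qb ∧ inR (mm * qa * mm) ∧ inR (mm * qb * mm) ∧ mm * mm = 1 ∧ mm * zz * mm = zz := by
  decide +kernel

theorem flip_mul : ∀ ej : Bool, sg (!ej) qb = sg ej qb * zz ∧
    sg true qa * (sg ej qb * zz) = qa * sg ej qb ∧ sg false qa * sg ej qb = qa * sg ej qb ∧
    sg true qa = qa * zz ∧ sg false qa = qa := by decide +kernel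

theorem qel_facts : ∀ ei ej : Bool, ∀ q < 4, inR (qel (sg ei qa) (sg ej qb) q) ∧
    inR (mm * qel (sg ei qa) (sg ej qb) q * mm) ∧
    (∀ q' < 4, qel (sg ei qa) (sg ej qb) q * (mm * qel (sg ei qa) (sg ej qb) q' * mm) =
      mm * qel (sg ei qa) (sg ej qb) q' * mm * qel (sg ei qa) (sg ej qb) q) ∧
    ∃ ca cb cz : Bool, mm * qel (sg ei qa) (sg ej qb) q * mm =
      (if ca then mm * qa * mm else 1) * (if cb then mm * qb * mm else 1) * (if cz then zz else 1) := by
  decide +kernel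

theorem qel_center : ∀ ei ej : Bool, ∀ v : W, inR v →
    (∀ q < 4, v * qel (sg ei qa) (sg ej qb) q = qel (sg ei qa) (sg ej qb) q * v ∧
      v * (mm * qel (sg ei qa) (sg ej qb) q * mm) = mm * qel (sg ei qa) (sg ej qb) q * mm * v) →
    v = 1 ∨ v = zz := by decide +kernel

theorem qel_gen : ∀ ei ej : Bool, ∀ v : W, inR v → ∃ q1 < 4, ∃ q2 < 4, ∃ s < 2,
    v = qel (sg ei qa) (sg ej qb) q1 * (mm * (zp s * qel (sg ei qa) (sg ej qb) q2) * mm) := by
  decide +kernel

theorem qel_inj : ∀ ei ej : Bool, ∀ q1 < 4, ∀ q2 < 4, ∀ s < 2, ∀ q1' < 4, ∀ q2' < 4, ∀ s' < 2,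
    qel (sg ei qa) (sg ej qb) q1 * (mm * (zp s * qel (sg ei qa) (sg ej qb) q2) * mm) =
      qel (sg ei qa) (sg ej qb) q1' * (mm * (zp s' * qel (sg ei qa) (sg ej qb) q2') * mm) →
    q1 = q1' ∧ q2 = q2' ∧ s = s' := by decide +kernel

/-- The shift as a function. -/
def spf (a b : Fin 3) (i : Fin 6) : Fin 6 :=
  if h : i.val < 3 then col (⟨i.val, h⟩ + b) else row (⟨i.val - 3, by omega⟩ + a)

theorem spf_inv : ∀ a b : Fin 3, ∀ i : Fin 6, spf (-a) (-b) (spf a b i) = i ∧ spf a b (spf (-a) (-b) i) = i := by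
  decide +kernel

/-- The shift as a permutation of the lines. -/
def sp (a b : Fin 3) : Equiv.Perm (Fin 6) :=
  ⟨spf a b, spf (-a) (-b), fun i => (spf_inv a b i).1, fun i => (spf_inv a b i).2⟩

theorem sp_col_row : ∀ a b j r : Fin 3, sp a b (col j) = col (j + b) ∧ sp a b (row r) = row (r + a) := by
  decide +kernel

/-- The image of the normal form in the lines. -/
def dperm (c1 c2 r : ℕ) : Equiv.Perm (Fin 6) := sp 2 1 ^ c1 * sp 1 1 ^ c2 * Equiv.swap (4 : Fin 6) 5 ^ r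

theorem sp_facts : Equiv.swap (4 : Fin 6) 5 * sp 2 1 * Equiv.swap (4 : Fin 6) 5 = sp 1 1 ∧
    sp 2 1 * sp 1 1 = sp 1 1 * sp 2 1 := by decide +kernel

theorem dperm_inj : ∀ c1 < 3, ∀ c2 < 3, ∀ r < 2, ∀ c1' < 3, ∀ c2' < 3, ∀ r' < 2,
    dperm c1 c2 r = dperm c1' c2' r' → c1 = c1' ∧ c2 = c2' ∧ r = r' := by decide +kernel

theorem dperm_surj : ∀ (b : Fin 3) (f : Fin 3 → Fin 3), (∀ i k, f i = f k → i = k) →
    ∃ c1 < 3, ∃ c2 < 3, ∃ r < 2, ∀ j : Fin 3,
      dperm c1 c2 r (col j) = col (j + b) ∧ dperm c1 c2 r (row j) = row (f j) := by decide +kernel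

end W

end CfsgLib.A8Sylow
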