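import Cfsg.Agent.Lib.A8Sylow.Facts

/-!
Subgroups of the model.

Blueprint: `blueprint/S2918.md`.
-/

set_option autoImplicit false
set_option maxRecDepth 100000

namespace CfsgLib.A8Sylow

namespace W

/-- Membership in the subgroup generated by the matrices and one operation. -/
def inQ (j : Fin 3) (x : W) : Bool := inA x || inA (x * gg j)

/-- Membership in the elementary abelian group of the column. -/
def inV (j : Fin 3) (x : W) : Bool :=
  decide (x = 1 ∨ x = zz ∨ x = pp j ∨ x = pp j * zz ∨ x = gg j ∨ x = gg j * zz ∨ x = gg j * pp j ∨ x = gg j * (pp j * zz))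

theorem inQ_facts : ∀ j : Fin 3, inQ j 1 ∧ (∀ x y : W, inQ j x → inQ j y → inQ j (x * y)) ∧
    (∀ x : W, inA x → inQ j x) ∧ inQ j (gg j) ∧ (Finset.univ.filter fun x => inQ j x = true).card = 32 := by
  decide +kernel

theorem inV_facts : ∀ j : Fin 3, inV j 1 ∧ (∀ x y : W, inV j x → inV j y → inV j (x * y)) ∧
    (∀ x : W, inV j x → x * x = 1 ∧ inR x) ∧ (∀ x y : W, inV j x → inV j y → x * y = y * x) ∧
    (Finset.univ.filter fun x => inV j x = true).card = 8 := by
  decide +kernel

/-- A predicate closed under products gives a subgroup. -/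
def mkSub (p : W → Bool) (h1 : p 1) (hm : ∀ x y : W, p x → p y → p (x * y)) : Subgroup W where
  carrier := {x | p x}
  one_mem' := h1
  mul_mem' := fun {a b} => hm a b
  inv_mem' := fun {a} ha => by
    have hpow : ∀ n : ℕ, p (a ^ n) := fun n => by
      induction n with
      | zero => simpa using h1
      | succ n ih => rw [pow_succ]; exact hm _ _ ih ha
    have h := hpow (orderOf a - 1)
    rwa [pow_sub a (orderOf_pos a), pow_one, pow_orderOf_eq_one, one_mul] at h

/-- The elementary abelian subgroup of order sixteen. -/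
def Asub : Subgroup W := mkSub inA inA_facts.1 inA_facts.2.1

/-- The extraspecial subgroup. -/
def Rsub : Subgroup W := mkSub inR inR_facts.1 inR_facts.2.1

/-- The subgroup of index two containing one operation. -/
def Qsub (j : Fin 3) : Subgroup W := mkSub (inQ j) (inQ_facts j).1 (inQ_facts j).2.1

/-- The column. -/
def Vsub (j : Fin 3) : Subgroup W := mkSub (inV j) (inV_facts j).1 (inV_facts j).2.1

theorem mem_Asub {x : W} : x ∈ Asub ↔ inA x := Iff.rfl

theorem mem_Rsub {x : W} : x ∈ Rsub ↔ inR x := Iff.rfl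

theorem mem_Qsub {j : Fin 3} {x : W} : x ∈ Qsub j ↔ inQ j x := Iff.rfl

theorem mem_Vsub {j : Fin 3} {x : W} : x ∈ Vsub j ↔ inV j x := Iff.rfl

theorem card_sub (p : W → Bool) (H : Subgroup W) (hH : ∀ x, x ∈ H ↔ p x) :
    Nat.card H = (Finset.univ.filter fun x => p x = true).card := by
  rw [← Nat.card_eq_finsetCard]
  exact Nat.card_congr (Equiv.subtypeEquivRight fun x => by simp [hH x])

theorem card_Asub : Nat.card Asub = 16 := (card_sub inA _ fun _ => Iff.rfl).trans card_parts.1

theorem card_Rsub : Nat.card Rsub = 32 := (card_sub inR _ fun _ => Iff.rfl).trans card_parts.2.1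

theorem card_Qsub (j : Fin 3) : Nat.card (Qsub j) = 32 :=
  (card_sub (inQ j) _ fun _ => Iff.rfl).trans (inQ_facts j).2.2.2.2

theorem card_Vsub (j : Fin 3) : Nat.card (Vsub j) = 8 :=
  (card_sub (inV j) _ fun _ => Iff.rfl).trans (inV_facts j).2.2.2.2

/-- An injective endomorphism preserves the elementary abelian subgroup of order sixteen. -/
theorem image_inA {f : W → W} (hf : Function.Injective f) (hmul : ∀ x y : W, f (x * y) = f x * f y) (a : W)
    (ha : inA a) : inA (f a) := by
  by_contra hv
  have h1 : f 1 = 1 := by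
    have h := hmul 1 1
    rw [mul_one] at h
    exact left_eq_mul.mp h
  have ho : outer (f a) := by
    simp [outer, ← hmul, inA_facts.2.2.1 a ha, h1, Bool.eq_false_iff.mpr hv]
  refine absurd (few_outer _ ho) (Nat.not_lt.mpr ?_)
  rw [← card_parts.1, ← Finset.card_image_of_injective _ hf]
  refine Finset.card_le_card fun y hy => ?_
  obtain ⟨x, hx, rfl⟩ := Finset.mem_image.mp hy
  have hx' : inA x := (Finset.mem_filter.mp hx).2
  exact Finset.mem_filter.mpr ⟨Finset.mem_univ _, by rw [← hmul, inA_facts.2.2.1 x hx', h1],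
    by rw [← hmul, ← hmul, inA_comm x a hx' ha]⟩

end W

end CfsgLib.A8Sylow
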