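import Cfsg.Agent.Lib.Basic
import Cfsg.Agent.Lib.A8Sylow.Sub

/-!
The hypotheses, the elementary abelian subgroup of order sixteen and extremal elements.

Blueprint: `blueprint/S2918.md`.
-/

set_option autoImplicit false
set_option linter.style.haveILetI false
set_option linter.unusedSectionVars false

open Cfsg

namespace CfsgLib.A8Sylow

universe u

variable {G : Type u} [Group G]

/-- The hypotheses. -/
structure Base (G : Type u) [Group G] where
  /-- the embedding of the model -/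
  ι : W →* G
  inj : Function.Injective ι
  /-- the Sylow subgroup -/
  S : Sylow 2 G
  range_eq : ι.range = (S : Subgroup G)
  hO : oddCore G = ⊥
  h2 : pCore 2 G = ⊥
  noIdx : ∀ M : Subgroup G, M.Normal → M.index ≠ 2
  hsol : IsSolvable ↥(Subgroup.centralizer ({ι W.zz} : Set G))

namespace Base

variable [Finite G] (B : Base G)

/-- The central involution. -/
abbrev z : G := B.ι W.zz

/-- The elementary abelian subgroup of order sixteen. -/
def A : Subgroup G := W.Asub.map B.ι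

theorem mem_S (w : W) : B.ι w ∈ (B.S : Subgroup G) := B.range_eq ▸ ⟨w, rfl⟩

theorem exists_eq {g : G} (h : g ∈ (B.S : Subgroup G)) : ∃ w, B.ι w = g :=
  (B.range_eq.symm ▸ h : g ∈ B.ι.range)

theorem ι_eq_one {w : W} : B.ι w = 1 ↔ w = 1 := by rw [← map_one B.ι]; exact B.inj.eq_iff

theorem mem_A {g : G} : g ∈ B.A ↔ ∃ w, W.inA w ∧ B.ι w = g := Iff.rfl

theorem mem_A_iff {w : W} : B.ι w ∈ B.A ↔ W.inA w :=
  ⟨fun ⟨v, hv, e⟩ => B.inj e ▸ hv, fun h => ⟨w, h, rfl⟩⟩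

theorem A_le_S : B.A ≤ (B.S : Subgroup G) := fun _ ⟨w, _, e⟩ => e ▸ B.mem_S w

theorem card_A : Nat.card B.A = 16 := by
  rw [A, Subgroup.card_map_of_injective B.inj, W.card_Asub]

theorem z_mem_A : B.z ∈ B.A := B.mem_A_iff.mpr W.zz_facts.2.2.1

theorem comm_A {a b : G} (ha : a ∈ B.A) (hb : b ∈ B.A) : a * b = b * a := by
  obtain ⟨v, hv, rfl⟩ := ha
  obtain ⟨w, hw, rfl⟩ := hb
  rw [← map_mul, ← map_mul, W.inA_comm v w hv hw]

theorem sq_A {a : G} (ha : a ∈ B.A) : a * a = 1 := by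
  obtain ⟨v, hv, rfl⟩ := ha
  rw [← map_mul, W.inA_facts.2.2.1 v hv, map_one]

theorem z_sq : B.z * B.z = 1 := B.sq_A B.z_mem_A

theorem z_ne : B.z ≠ 1 := fun h => W.zz_facts.2.1 (B.ι_eq_one.mp h)

theorem orderOf_z : orderOf B.z = 2 := orderOf_eq_prime (by rw [pow_two]; exact B.z_sq) B.z_ne

theorem z_comm_S {g : G} (h : g ∈ (B.S : Subgroup G)) : g * B.z = B.z * g := by
  obtain ⟨w, rfl⟩ := B.exists_eq h
  rw [← map_mul, ← map_mul, W.zz_comm w]

theorem isPGroup_A : IsPGroup 2 B.A :=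
  IsPGroup.of_card (n := 4) (by rw [B.card_A]; norm_num)

/-- A two-group is conjugate into the Sylow subgroup. -/
theorem exists_conj_S {P : Subgroup G} (hP : IsPGroup 2 P) :
    ∃ g : G, ∀ x ∈ P, g * x * g⁻¹ ∈ (B.S : Subgroup G) := by
  haveI : Fact (Nat.Prime 2) := ⟨Nat.prime_two⟩
  obtain ⟨T, hT⟩ := hP.exists_le_sylow
  obtain ⟨g, hg⟩ := MulAction.exists_smul_eq G T B.S
  refine ⟨g, fun x hx => ?_⟩
  rw [← hg]
  exact Subgroup.smul_mem_pointwise_smul x (MulAut.conj g) _ (hT hx)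

/-- The subgroup of order sixteen is the only conjugate of itself in the Sylow subgroup. -/
theorem mem_normalizer_of_conj_mem {g : G} (hg : ∀ a ∈ B.A, g * a * g⁻¹ ∈ (B.S : Subgroup G)) :
    g ∈ Subgroup.normalizer (B.A : Set G) := by
  classical
  choose f hf using fun w : {w : W // W.inA w} => B.exists_eq (hg _ (B.mem_A_iff.mpr w.2))
  have hfi : Function.Injective f := fun v w e => by
    have := hf v
    rw [e, hf w] at this
    exact Subtype.ext (B.inj (mul_left_cancel (mul_right_cancel this))).symm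
  have hmul : ∀ v w, f v * f w = f w * f v ∧ f v * f v = 1 := fun v w => by
    constructor <;> refine B.inj ?_
    · rw [map_mul, map_mul, hf, hf]
      have e := B.comm_A (B.mem_A_iff.mpr v.2) (B.mem_A_iff.mpr w.2)
      calc g * B.ι v * g⁻¹ * (g * B.ι w * g⁻¹) = g * (B.ι v * B.ι w) * g⁻¹ := by group
        _ = g * B.ι w * g⁻¹ * (g * B.ι v * g⁻¹) := by rw [e]; group
    · rw [map_mul, map_one, hf]
      calc g * B.ι v * g⁻¹ * (g * B.ι v * g⁻¹) = g * (B.ι v * B.ι v) * g⁻¹ := by group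
        _ = 1 := by rw [B.sq_A (B.mem_A_iff.mpr v.2)]; group
  have hin : ∀ v, W.inA (f v) := fun v => by
    by_contra hv
    have ho : W.outer (f v) := by simp [W.outer, (hmul v v).2, Bool.eq_false_iff.mpr hv]
    refine absurd (W.few_outer _ ho) (Nat.not_lt.mpr ?_)
    have h16 : Fintype.card {w : W // W.inA w} = 16 := by
      rw [Fintype.card_subtype, W.card_parts.1]
    rw [← h16, ← Finset.card_univ, ← Finset.card_image_of_injective _ hfi]
    refine Finset.card_le_card fun y hy => ?_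
    obtain ⟨w, -, rfl⟩ := Finset.mem_image.mp hy
    exact Finset.mem_filter.mpr ⟨Finset.mem_univ _, (hmul w w).2, (hmul w v).1⟩
  have hle : B.A.map (MulAut.conj g).toMonoidHom ≤ B.A := by
    rintro _ ⟨_, ⟨w, hw, rfl⟩, rfl⟩
    show g * B.ι w * g⁻¹ ∈ B.A
    rw [← hf ⟨w, hw⟩]
    exact B.mem_A_iff.mpr (hin ⟨w, hw⟩)
  have he : B.A.map (MulAut.conj g).toMonoidHom = B.A :=
    Subgroup.eq_of_le_of_card_ge hle (by
      rw [Subgroup.card_map_of_injective (MulAut.conj g).injective])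
  refine Subgroup.mem_normalizer_iff.mpr fun x => ⟨fun hx => he ▸ ⟨x, hx, rfl⟩, fun hx => ?_⟩
  rw [← he] at hx
  obtain ⟨y, hy, e⟩ := hx
  have : y = x := mul_left_cancel (mul_right_cancel (show g * y * g⁻¹ = g * x * g⁻¹ from e))
  exact this ▸ hy

/-- In a two-group containing the subgroup of order sixteen it is the only conjugate of itself. -/
theorem mem_normalizer_of_le {P : Subgroup G} (hP : IsPGroup 2 P) (hA : B.A ≤ P) {g : G}
    (hg : ∀ a ∈ B.A, g * a * g⁻¹ ∈ P) : g ∈ Subgroup.normalizer (B.A : Set G) := by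
  obtain ⟨k, hk⟩ := B.exists_conj_S hP
  have h1 : k ∈ Subgroup.normalizer (B.A : Set G) := B.mem_normalizer_of_conj_mem fun a ha => hk a (hA ha)
  have h2 : k * g ∈ Subgroup.normalizer (B.A : Set G) := B.mem_normalizer_of_conj_mem fun a ha => by
    have := hk _ (hg a ha)
    rwa [show k * g * a * (k * g)⁻¹ = k * (g * a * g⁻¹) * k⁻¹ by group]
  have := mul_mem (inv_mem h1) h2
  rwa [inv_mul_cancel_left] at this

/-- The normaliser controls the fusion in the subgroup of order sixteen. -/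
theorem control {H : Subgroup G} (hA : B.A ≤ H) {g a : G} (hgH : g ∈ H) (ha : a ∈ B.A)
    (hb : g * a * g⁻¹ ∈ B.A) :
    ∃ n ∈ Subgroup.normalizer (B.A : Set G), n ∈ H ∧ n * a * n⁻¹ = g * a * g⁻¹ := by
  haveI : Fact (Nat.Prime 2) := ⟨Nat.prime_two⟩
  set b := g * a * g⁻¹ with hbdef
  set C := Subgroup.centralizer ({b} : Set G) ⊓ H
  have h1 : B.A ≤ C := fun x hx => ⟨Subgroup.mem_centralizer_singleton_iff.mpr (B.comm_A hx hb), hA hx⟩
  have h2 : B.A.map (MulAut.conj g).toMonoidHom ≤ C := by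
    rintro _ ⟨x, hx, rfl⟩
    refine Subgroup.mem_inf.mpr ⟨Subgroup.mem_centralizer_singleton_iff.mpr ?_, mul_mem (mul_mem hgH (hA hx)) (inv_mem hgH)⟩
    show g * x * g⁻¹ * (g * a * g⁻¹) = g * a * g⁻¹ * (g * x * g⁻¹)
    calc g * x * g⁻¹ * (g * a * g⁻¹) = g * (x * a) * g⁻¹ := by group
      _ = g * a * g⁻¹ * (g * x * g⁻¹) := by rw [B.comm_A hx ha]; group
  obtain ⟨T, hT⟩ := (B.isPGroup_A.comap_of_injective C.subtype C.subtype_injective).exists_le_sylow
  obtain ⟨T', hT'⟩ :=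
    ((B.isPGroup_A.map (MulAut.conj g).toMonoidHom).comap_of_injective C.subtype C.subtype_injective).exists_le_sylow
  obtain ⟨c, hc⟩ := MulAction.exists_smul_eq C T' T
  have hn : (c : G) * g ∈ Subgroup.normalizer (B.A : Set G) := by
    refine B.mem_normalizer_of_le (P := (T : Subgroup C).map C.subtype) (T.isPGroup'.map _)
      (fun x hx => ⟨⟨x, h1 hx⟩, hT hx, rfl⟩) fun x hx => ?_
    have hx' : (⟨g * x * g⁻¹, h2 ⟨x, hx, rfl⟩⟩ : C) ∈ (T' : Subgroup C) := hT' ⟨x, hx, rfl⟩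
    refine ⟨c * ⟨g * x * g⁻¹, h2 ⟨x, hx, rfl⟩⟩ * c⁻¹, hc ▸ Subgroup.smul_mem_pointwise_smul _ (MulAut.conj c) _ hx',
      ?_⟩
    simp [mul_assoc]
  refine ⟨c * g, hn, mul_mem c.2.2 hgH, ?_⟩
  have hcb : (c : G) * b = b * c := Subgroup.mem_centralizer_singleton_iff.mp c.2.1
  calc (c : G) * g * a * ((c : G) * g)⁻¹ = (c : G) * b * (c : G)⁻¹ := by rw [hbdef]; group
    _ = b := by rw [hcb]; group

/-- An extremal element of `H`. -/
def Ext (H : Subgroup G) (y : W) : Prop :=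
  ∀ Q : Subgroup G, IsPGroup 2 Q → Q ≤ H → (∀ q ∈ Q, q * B.ι y = B.ι y * q) →
    ∃ c ∈ H, c * B.ι y = B.ι y * c ∧ ∀ q ∈ Q, c * q * c⁻¹ ∈ (B.S : Subgroup G)

/-- Every element of order two has an extremal conjugate. -/
theorem exists_ext {H : Subgroup G} (hS : (B.S : Subgroup G) ≤ H) {x : G} (hx : x * x = 1) (hxH : x ∈ H) :
    ∃ h ∈ H, ∃ y : W, h * x * h⁻¹ = B.ι y ∧ B.Ext H y := by
  haveI : Fact (Nat.Prime 2) := ⟨Nat.prime_two⟩
  set C := Subgroup.centralizer ({x} : Set G) ⊓ H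
  have hxC : x ∈ C := ⟨Subgroup.mem_centralizer_singleton_iff.mpr rfl, hxH⟩
  let T : Sylow 2 C := default
  -- the element lies in every Sylow subgroup of its centraliser
  have hxT : (⟨x, hxC⟩ : C) ∈ (T : Subgroup C) := by
    have hc : Subgroup.zpowers (⟨x, hxC⟩ : C) ≤ Subgroup.center C := by
      refine Subgroup.zpowers_le.mpr (Subgroup.mem_center_iff.mpr fun c => Subtype.ext ?_)
      exact Subgroup.mem_centralizer_singleton_iff.mp c.2.1
    haveI : (Subgroup.zpowers (⟨x, hxC⟩ : C)).Normal :=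
      ⟨fun n hn g => by rw [Subgroup.mem_center_iff.mp (hc hn) g, mul_inv_cancel_right]; exact hn⟩
    have hz : IsPGroup 2 (Subgroup.zpowers (⟨x, hxC⟩ : C)) := fun ⟨w, hw⟩ => by
      obtain ⟨i, rfl⟩ := Subgroup.mem_zpowers_iff.mp hw
      refine ⟨1, Subtype.ext ?_⟩
      show ((⟨x, hxC⟩ : C) ^ i) ^ 2 ^ 1 = 1
      rw [pow_one, pow_two, ← zpow_add, ← two_mul, zpow_mul, zpow_two, show (⟨x, hxC⟩ : C) * ⟨x, hxC⟩ = 1 from
        Subtype.ext hx, one_zpow]
    have := T.3 (hz.to_sup_of_normal_left T.isPGroup') le_sup_right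
    exact this.le (Subgroup.mem_sup_left (Subgroup.mem_zpowers _))
  let SH : Sylow 2 H := B.S.subtype hS
  obtain ⟨T₁, hT₁⟩ :=
    (((T.isPGroup'.map C.subtype).comap_of_injective H.subtype H.subtype_injective)).exists_le_sylow
  obtain ⟨k, hk⟩ := MulAction.exists_smul_eq H T₁ SH
  have hkS : ∀ c : C, c ∈ (T : Subgroup C) → (k : G) * c * (k : G)⁻¹ ∈ (B.S : Subgroup G) := fun c hc => by
    have h1 : (⟨c, c.2.2⟩ : H) ∈ (T₁ : Subgroup H) := hT₁ ⟨c, hc, rfl⟩
    have h2 : k * ⟨c, c.2.2⟩ * k⁻¹ ∈ (SH : Subgroup H) :=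
      hk ▸ Subgroup.smul_mem_pointwise_smul _ (MulAut.conj k) _ h1
    exact h2
  obtain ⟨y, hy⟩ := B.exists_eq (hkS _ hxT)
  refine ⟨k, k.2, y, hy.symm, fun Q hQ hQH hQy => ?_⟩
  set f := (MulAut.conj (k : G)⁻¹).toMonoidHom
  have hQC : Q.map f ≤ C := by
    rintro _ ⟨q, hq, rfl⟩
    refine Subgroup.mem_inf.mpr ⟨Subgroup.mem_centralizer_singleton_iff.mpr ?_, ?_⟩
    · show (k : G)⁻¹ * q * (k : G)⁻¹⁻¹ * x = x * ((k : G)⁻¹ * q * (k : G)⁻¹⁻¹)
      have h := hQy q hq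
      rw [hy] at h
      calc (k : G)⁻¹ * q * (k : G)⁻¹⁻¹ * x = (k : G)⁻¹ * (q * ((k : G) * x * (k : G)⁻¹)) * k := by group
        _ = x * ((k : G)⁻¹ * q * (k : G)⁻¹⁻¹) := by rw [h]; group
    · exact mul_mem (mul_mem (inv_mem k.2) (hQH hq)) (inv_mem (inv_mem k.2))
  obtain ⟨T₂, hT₂⟩ := ((hQ.map f).comap_of_injective C.subtype C.subtype_injective).exists_le_sylow
  obtain ⟨c, hc⟩ := MulAction.exists_smul_eq C T₂ T
  refine ⟨(k : G) * c * (k : G)⁻¹, mul_mem (mul_mem k.2 c.2.2) (inv_mem k.2), ?_, fun q hq => ?_⟩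
  · have hcx : (c : G) * x = x * c := Subgroup.mem_centralizer_singleton_iff.mp c.2.1
    rw [hy]
    calc (k : G) * c * (k : G)⁻¹ * ((k : G) * x * (k : G)⁻¹) = (k : G) * ((c : G) * x) * (k : G)⁻¹ := by group
      _ = (k : G) * x * (k : G)⁻¹ * ((k : G) * c * (k : G)⁻¹) := by rw [hcx]; group
  · have h1 : (⟨f q, hQC ⟨q, hq, rfl⟩⟩ : C) ∈ (T₂ : Subgroup C) := hT₂ ⟨q, hq, rfl⟩
    have h2 := hkS _ (hc ▸ Subgroup.smul_mem_pointwise_smul _ (MulAut.conj c) _ h1 :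
      c * ⟨f q, hQC ⟨q, hq, rfl⟩⟩ * c⁻¹ ∈ (T : Subgroup C))
    convert h2 using 1
    simp [f, mul_assoc]

/-- The centraliser in the Sylow subgroup of a conjugate of an extremal element. -/
theorem Ext.image {B : Base G} {H : Subgroup G} (hS : (B.S : Subgroup G) ≤ H) {y : W} (hy : B.Ext H y) {x : W}
    (hxy : ∃ h ∈ H, h * B.ι x * h⁻¹ = B.ι y) :
    ∃ h ∈ H, h * B.ι x * h⁻¹ = B.ι y ∧ ∀ u : W, u * x = x * u →
      ∃ v : W, h * B.ι u * h⁻¹ = B.ι v ∧ v * y = y * v := by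
  haveI : Fact (Nat.Prime 2) := ⟨Nat.prime_two⟩
  obtain ⟨h, hh, e⟩ := hxy
  set f := ((MulAut.conj h).toMonoidHom.comp B.ι) with hf
  set Q := (Subgroup.centralizer ({x} : Set W)).map f
  have hfu : ∀ u : W, u * x = x * u → f u * B.ι y = B.ι y * f u := fun u hu => by
    have h' : B.ι u * B.ι x = B.ι x * B.ι u := by rw [← map_mul, ← map_mul, hu]
    show h * B.ι u * h⁻¹ * B.ι y = B.ι y * (h * B.ι u * h⁻¹)
    rw [← e]
    calc h * B.ι u * h⁻¹ * (h * B.ι x * h⁻¹) = h * (B.ι u * B.ι x) * h⁻¹ := by group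
      _ = h * B.ι x * h⁻¹ * (h * B.ι u * h⁻¹) := by rw [h']; group
  obtain ⟨c, hc, hcy, hcS⟩ := hy Q ((IsPGroup.of_card (n := 6) W.card).to_subgroup _ |>.map f) (by
      rintro _ ⟨u, -, rfl⟩
      exact mul_mem (mul_mem hh (hS (B.mem_S u))) (inv_mem hh)) (by
      rintro _ ⟨u, hu, rfl⟩
      exact hfu u (Subgroup.mem_centralizer_singleton_iff.mp hu))
  refine ⟨c * h, mul_mem hc hh, ?_, fun u hu => ?_⟩
  · calc c * h * B.ι x * (c * h)⁻¹ = c * (h * B.ι x * h⁻¹) * c⁻¹ := by group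
      _ = B.ι y := by rw [e, hcy]; group
  · obtain ⟨v, hv⟩ := B.exists_eq (hcS (f u) ⟨u, Subgroup.mem_centralizer_singleton_iff.mpr hu, rfl⟩)
    refine ⟨v, by rw [hv]; simp [f, mul_assoc], B.inj ?_⟩
    rw [map_mul, map_mul, hv]
    have h1 := hfu u hu
    calc c * f u * c⁻¹ * B.ι y = c * f u * (c⁻¹ * (B.ι y * c)) * c⁻¹ := by group
      _ = c * (f u * B.ι y) * c⁻¹ := by rw [← hcy]; group
      _ = c * B.ι y * f u * c⁻¹ := by rw [h1]; group
      _ = B.ι y * (c * f u * c⁻¹) := by rw [hcy]; group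

/-- If the class meets the subgroup of order sixteen, so does every extremal element. -/
theorem Ext.mem_A {B : Base G} {H : Subgroup G} (hS : (B.S : Subgroup G) ≤ H) {y : W} (hy : B.Ext H y) {x : W}
    (hx : W.inA x) (hxy : ∃ h ∈ H, h * B.ι x * h⁻¹ = B.ι y) : W.inA y := by
  obtain ⟨h, -, e, hu⟩ := hy.image hS hxy
  have hn : h ∈ Subgroup.normalizer (B.A : Set G) := B.mem_normalizer_of_conj_mem fun a ha => by
    obtain ⟨u, hu', rfl⟩ := B.mem_A.mp ha
    obtain ⟨v, hv, -⟩ := hu u (W.inA_comm u x hu' hx)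
    rw [hv]
    exact B.mem_S v
  exact B.mem_A_iff.mp (e ▸ (Subgroup.mem_normalizer_iff.mp hn _).mp (B.mem_A_iff.mpr hx))

end Base

end CfsgLib.A8Sylow
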