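import Cfsg.Agent.Lib.A8Sylow.Core

/-!
The centraliser of the central involution, and the shifts of the grid induced by it.

Blueprint: `blueprint/S2918.md`, steps 2 and 5.
-/

set_option autoImplicit false
set_option maxRecDepth 100000
set_option linter.style.haveILetI false
set_option linter.unusedSectionVars false

open Cfsg

namespace CfsgLib.A8Sylow

open CfsgLib.L34Sylow (oddC)

universe u

namespace W

/-- The point moved by a shift. -/
def shpt (a b j r : Fin 3) : W := pt (j + b) (r + a)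

/-- The image of an element of the extraspecial subgroup under a shift, up to the centre. -/
def shW (a b : Fin 3) (w : W) : W :=
  (if w.a then shpt a b 0 0 else 1) * (if w.b then zz else 1) * (if w.d then shpt a b 1 0 else 1) *
    (if w.s then shpt a b 0 1 else 1) * (if w.t then shpt a b 1 1 else 1)

theorem R_line : ∀ (i : Fin 6) (w x : W), inR w → line i x → line i (w * x * w⁻¹) := by decide +kernel

theorem shpt_R : ∀ a b j r : Fin 3, inR (shpt a b j r) := by decide +kernel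

theorem notR_mm : ∀ w : W, inR w = false → inR (w * mm) := by decide +kernel

theorem cube_shift : ∀ f : Fin 3 → Fin 3, f (f (f 0)) = 0 ∧ f (f (f 1)) = 1 ∧ f (f (f 2)) = 2 →
    ∃ b : Fin 3, ∀ j, f j = j + b := by decide +kernel

theorem perm_six : ∀ f : Fin 3 → Fin 3, (∀ i k, f i = f k → i = k) →
    (f (f (f (f (f (f 0))))) = 0 ∧ f (f (f (f (f (f 1))))) = 1 ∧ f (f (f (f (f (f 2))))) = 2) := by decide +kernel

theorem affine : ∀ f : Fin 3 → Fin 3, (∀ i k, f i = f k → i = k) →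
    ∃ a : Fin 3, (∀ r, f r = r + a) ∨ ∀ r, f r = a - r := by decide +kernel

theorem solve_shift : ∀ a0 aw bw a b : Fin 3, a0 ≠ 0 → bw ≠ 0 →
    ∃ p q : Fin 3, p * bw = b ∧ p * aw + q * a0 = a := by decide +kernel

end W

namespace Base

variable {G : Type u} [Group G] [Finite G] (B : Base G)

theorem oddCore_C (hF : B.Fused) : oddCore ↥(Subgroup.centralizer ({B.z} : Set G)) = ⊥ :=
  (Subgroup.map_eq_bot_iff_of_injective _ (Subgroup.subtype_injective _)).mp (B.core_z_eq_bot hF)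

/-- The local hypotheses hold in `C(z)`. -/
noncomputable def locC (hF : B.Fused) : Loc ↥(Subgroup.centralizer ({B.z} : Set G)) where
  ι := B.ι.codRestrict _ fun w => B.mem_C.mpr (B.comm_z w)
  inj v w h := B.inj (congrArg Subtype.val h)
  sylow := by
    refine ⟨B.S.subtype B.S_le_cent, ?_⟩
    ext ⟨x, hx⟩
    constructor
    · rintro ⟨w, hw⟩
      show x ∈ (B.S : Subgroup G)
      rw [← show B.ι w = x from congrArg Subtype.val hw]
      exact B.mem_S w
    · intro h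
      obtain ⟨w, hw⟩ := B.exists_eq (show x ∈ (B.S : Subgroup G) from h)
      exact ⟨w, Subtype.ext hw⟩
  zc x := Subtype.ext (B.mem_C.mp x.2)
  hsol := B.hsol
  hO := B.oddCore_C hF
  fus j := by
    obtain ⟨h, hz, y, hy, -, -, e⟩ := B.fused_cent hF j
    exact ⟨⟨h, B.mem_C.mpr hz⟩, y, hy, Subtype.ext e⟩

theorem locC_ι (hF : B.Fused) (w : W) : ((B.locC hF).ι w : G) = B.ι w := rfl

end Base

namespace Loc

variable {X : Type u} [Group X] [Finite X] (L : Loc X)

theorem mem_range_pCore {x : X} : x ∈ pCore 2 X ↔ ∃ w : W, W.inR w ∧ L.ι w = x := by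
  rw [L.pCore_eq]
  exact Iff.rfl

theorem σ_R {x : X} (hx : x ∈ pCore 2 X) : L.σ x = 1 := by
  obtain ⟨w, hw, rfl⟩ := L.mem_range_pCore.mp hx
  refine Equiv.ext fun i => L.σ_eq _ fun v hv => ?_
  have hR := ((W.line_facts _).2.1 v hv).1
  rw [L.cj_eq _ hR (by rw [map_mul, map_mul, map_inv] : L.ι (w * v * w⁻¹) = L.ι w * L.ι v * (L.ι w)⁻¹)]
  exact W.R_line i w v hw hv

theorem ker_σ : L.σ.ker = pCore 2 X :=
  le_antisymm (fun _ hx => L.mem_range_pCore.mpr (L.mem_R_of_σ hx)) fun _ hx => L.σ_R hx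

theorem exists_col_map (x : X) : ∃ f : Fin 3 → Fin 3, ∀ j, L.σ x (W.col j) = W.col (f j) := by
  choose f hf using fun j => (W.line_index (L.σ x (W.col j))).resolve_right fun ⟨r, hr⟩ =>
    absurd (hr ▸ L.σ_col x j) (Nat.not_lt.mpr (W.col_row 0 r).2.1)
  exact ⟨f, hf⟩

theorem exists_row_map (x : X) : ∃ f : Fin 3 → Fin 3, ∀ r, L.σ x (W.row r) = W.row (f r) := by
  choose f hf using fun r => (W.line_index (L.σ x (W.row r))).resolve_left fun ⟨j, hj⟩ =>
    absurd (hj ▸ L.σ_row x r) (Nat.not_le.mpr (W.col_row j 0).1)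
  exact ⟨f, hf⟩

/-- An element of odd order shifts. -/
theorem shift_of_odd {x : X} (hx : Odd (orderOf x)) :
    ∃ a b : Fin 3, (∀ j, L.σ x (W.col j) = W.col (j + b)) ∧ ∀ r, L.σ x (W.row r) = W.row (r + a) := by
  have hcube : ∀ i, L.σ (x ^ 6) i = i → L.σ (x ^ 3) i = i := fun i h => by
    have h1 : L.σ (x ^ 6) ∈ MulAction.stabilizer (Equiv.Perm (Fin 6)) i := h
    obtain ⟨m, hm⟩ := hx
    have e : L.σ (x ^ 3) = L.σ (x ^ 6) ^ (m + 1) := by
      rw [← map_pow, ← pow_mul, show 6 * (m + 1) = (2 * m + 1) * 3 + 3 by ring, pow_add, pow_mul, ← hm,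
        pow_orderOf_eq_one, one_pow, one_mul]
    rw [e]
    exact MulAction.mem_stabilizer_iff.mp (pow_mem h1 _)
  have key : ∀ (ln : Fin 3 → Fin 6) (f : Fin 3 → Fin 3), (∀ j k, ln j = ln k → j = k) →
      (∀ j, L.σ x (ln j) = ln (f j)) → ∃ b, ∀ j, f j = j + b := by
    intro ln f hl hf
    have hfi : ∀ i k, f i = f k → i = k := fun i k e => hl i k ((L.σ x).injective (by rw [hf, hf, e]))
    have h6 := W.perm_six f hfi
    have h3 : ∀ j, f (f (f j)) = j := fun j => by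
      refine hl _ _ ?_
      have e3 : ∀ i, L.σ (x ^ 3) i = L.σ x (L.σ x (L.σ x i)) := fun i => by
        rw [pow_succ, pow_two, map_mul, map_mul, Equiv.Perm.mul_apply, Equiv.Perm.mul_apply]
      have e6 : L.σ (x ^ 6) (ln j) = ln (f (f (f (f (f (f j)))))) := by
        rw [show x ^ 6 = x ^ 3 * x ^ 3 from pow_add x 3 3, map_mul, Equiv.Perm.mul_apply, e3, e3, hf, hf, hf, hf,
          hf, hf]
      have hj6 : f (f (f (f (f (f j))))) = j := by
        fin_cases j
        exacts [h6.1, h6.2.1, h6.2.2]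
      rw [hj6] at e6
      have := hcube _ e6
      rwa [e3, hf, hf, hf] at this
    exact W.cube_shift f ⟨h3 0, h3 1, h3 2⟩
  obtain ⟨f, hf⟩ := L.exists_col_map x
  obtain ⟨g, hg⟩ := L.exists_row_map x
  obtain ⟨b, hb⟩ := key W.col f (fun j k => (W.col_row j 0).2.2.1 k) hf
  obtain ⟨a, ha⟩ := key W.row g (fun r s => (W.col_row 0 r).2.2.2 s) hg
  exact ⟨a, b, fun j => hb j ▸ hf j, fun r => ha r ▸ hg r⟩

/-- A two-element fixes the columns. -/
theorem two_col {u : X} {k : ℕ} (hk : orderOf u = 2 ^ k) (j : Fin 3) : L.σ u (W.col j) = W.col j := by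
  haveI : Fact (Nat.Prime 2) := ⟨Nat.prime_two⟩
  obtain ⟨S, hS⟩ := L.sylow
  have hu2 : IsPGroup 2 (Subgroup.zpowers u) := IsPGroup.of_card (n := k) (by rw [Nat.card_zpowers, hk])
  obtain ⟨T, hT⟩ := hu2.exists_le_sylow
  obtain ⟨d, hd⟩ := MulAction.exists_smul_eq X T S
  have h1 : d * u * d⁻¹ ∈ L.ι.range := by
    rw [hS, ← hd]
    exact Subgroup.smul_mem_pointwise_smul _ (MulAut.conj d) _ (hT (Subgroup.mem_zpowers u))
  obtain ⟨v, hv⟩ := h1
  obtain ⟨f, hf⟩ := L.exists_col_map d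
  have h := L.σ_ι_col v (f j)
  rw [hv, map_mul, map_mul, map_inv, Equiv.Perm.mul_apply, Equiv.Perm.mul_apply, Equiv.Perm.inv_def,
    (L.σ d).symm_apply_eq.mpr (hf j).symm, ← hf j] at h
  exact (L.σ d).injective h

/-- Every element shifts the columns as its part of odd order. -/
theorem col_shift (x : X) : ∃ b : Fin 3, ∀ j, L.σ x (W.col j) = W.col (j + b) := by
  obtain ⟨u, -, w, -, ⟨k, hk⟩, hw, e⟩ := CfsgLib.U34Char.exists_parts x
  obtain ⟨a, b, hb, -⟩ := L.shift_of_odd hw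
  exact ⟨b, fun j => by rw [e, map_mul, Equiv.Perm.mul_apply, hb, L.two_col hk]⟩

/-- An element of the shift. -/
theorem exists_shift (hcol : ∃ (x : X) (j : Fin 3), L.σ x (W.col j) ≠ W.col j) (a b : Fin 3) :
    ∃ x : X, x ^ 3 = 1 ∧ (∀ j, L.σ x (W.col j) = W.col (j + b)) ∧ ∀ r, L.σ x (W.row r) = W.row (r + a) := by
  obtain ⟨x, j0, hj0⟩ := hcol
  obtain ⟨x0, hx3, -, hcol0, hrow0⟩ := L.exists_three
  have hodd0 : Odd (orderOf x0) := Odd.of_dvd_nat (by decide) (orderOf_dvd_of_pow_eq_one hx3)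
  obtain ⟨a0, b0, hb0, ha0⟩ := L.shift_of_odd hodd0
  have ha0' : a0 ≠ 0 := fun h => hrow0 0 (by rw [ha0 0, h, add_zero])
  have hb0' : b0 = 0 := by
    have h := (hb0 0).symm.trans (hcol0 0)
    rw [zero_add] at h
    exact (W.col_row b0 0).2.2.1 0 h
  obtain ⟨u, -, w, -, ⟨k, hk⟩, hw, e⟩ := CfsgLib.U34Char.exists_parts x
  obtain ⟨aw, bw, hbw, haw⟩ := L.shift_of_odd hw
  have hbw' : bw ≠ 0 := fun h => hj0 (by
    rw [e, map_mul, Equiv.Perm.mul_apply, hbw, h, add_zero, L.two_col hk])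
  obtain ⟨p, q, hp, hq⟩ := W.solve_shift a0 aw bw a b ha0' hbw'
  have hiter : ∀ (y : X) (ln : Fin 3 → Fin 6) (c : Fin 3), (∀ j, L.σ y (ln j) = ln (j + c)) →
      ∀ n j : Fin 3, L.σ (y ^ n.val) (ln j) = ln (j + n * c) := by
    intro y ln c hy n j
    have e2 : ∀ c : Fin 3, c + c = 2 * c := by decide
    fin_cases n
    · show L.σ (y ^ 0) (ln j) = ln (j + 0 * c)
      rw [pow_zero, map_one, Equiv.Perm.one_apply, zero_mul, add_zero]
    · show L.σ (y ^ 1) (ln j) = ln (j + 1 * c)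
      rw [pow_one, hy, one_mul]
    · show L.σ (y ^ 2) (ln j) = ln (j + 2 * c)
      rw [pow_two, map_mul, Equiv.Perm.mul_apply, hy, hy, add_assoc, e2]
  set y := w ^ p.val * x0 ^ q.val
  have hyc : ∀ j, L.σ y (W.col j) = W.col (j + b) := fun j => by
    rw [map_mul, Equiv.Perm.mul_apply, hiter x0 W.col b0 hb0, hiter w W.col bw hbw, hb0', mul_zero, add_zero, hp]
  have hyr : ∀ r, L.σ y (W.row r) = W.row (r + a) := fun r => by
    rw [map_mul, Equiv.Perm.mul_apply, hiter x0 W.row a0 ha0, hiter w W.row aw haw, add_assoc,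
      add_comm (q * a0), hq]
  have hfix : ∀ c j : Fin 3, j + c + c + c = j := by decide
  have h3 : L.σ (y ^ 3) = 1 := by
    refine Equiv.ext fun i => ?_
    rw [pow_succ, pow_two, map_mul, map_mul, Equiv.Perm.mul_apply, Equiv.Perm.mul_apply, Equiv.Perm.one_apply]
    rcases W.line_index i with ⟨j, rfl⟩ | ⟨r, rfl⟩
    · rw [hyc, hyc, hyc, hfix]
    · rw [hyr, hyr, hyr, hfix]
  obtain ⟨v, hv, hve⟩ := L.mem_R_of_σ h3
  refine ⟨y ^ 4, ?_, ?_, ?_⟩
  · rw [← pow_mul, show 4 * 3 = 3 * 4 by norm_num, pow_mul, ← hve, ← map_pow,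
      show v ^ 4 = v * v * (v * v) by rw [pow_succ, pow_succ, pow_two, mul_assoc], W.R_pow v hv, map_one]
  · intro j; rw [show L.σ (y ^ 4) = L.σ y by rw [pow_succ, map_mul, h3, one_mul]]; exact hyc j
  · intro r; rw [show L.σ (y ^ 4) = L.σ y by rw [pow_succ, map_mul, h3, one_mul]]; exact hyr r

/-- The image of an element under a shift, up to the centre. -/
theorem cj_shift {x : X} {a b : Fin 3} (hc : ∀ j, L.σ x (W.col j) = W.col (j + b))
    (hr : ∀ r, L.σ x (W.row r) = W.row (r + a)) {w : W} (hw : W.inR w) :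
    L.cj x w = W.shW a b w ∨ L.cj x w = W.shW a b w * W.zz := by
  have hm := W.inR_facts.2.1
  have hpt : ∀ j r : Fin 3, L.cj x (W.pt j r) = W.shpt a b j r ∨ L.cj x (W.pt j r) = W.shpt a b j r * W.zz := by
    intro j r
    obtain ⟨h1, h2, h3, h4, -⟩ := W.line_pt j r
    have e1 := L.σ_spec x h1
    have e2 := L.σ_spec x h2
    rw [hc] at e1; rw [hr] at e2
    have hR := ((W.line_facts _).2.1 _ h1).1
    rcases (W.line_pt (j + b) (r + a)).2.2.2.2 _ e1 e2 with e | e | e | e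
    · exact absurd (L.cj_injOn x hR one_inR (e.trans (L.cj_of_one x).symm)) h3
    · exact absurd (L.cj_injOn x hR W.zz_facts.2.2.2.2 (e.trans (L.cj_zz x).symm)) h4
    · exact .inl e
    · exact .inr e
  have hmul : ∀ v v' w w' : W, W.inR v → W.inR w → (L.cj x v = v' ∨ L.cj x v = v' * W.zz) →
      (L.cj x w = w' ∨ L.cj x w = w' * W.zz) →
      (L.cj x (v * w) = v' * w' ∨ L.cj x (v * w) = v' * w' * W.zz) := by
    intro v v' w w' hv hw h1 h2
    rw [L.cj_mul x hv hw]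
    rcases h1 with e1 | e1 <;> rcases h2 with e2 | e2 <;> rw [e1, e2]
    · exact .inl rfl
    · exact .inr (by rw [mul_assoc])
    · exact .inr (by rw [mul_assoc, ← W.zz_comm w', ← mul_assoc])
    · refine .inl ?_
      rw [mul_assoc v', ← mul_assoc W.zz w', ← W.zz_comm w', mul_assoc w', W.zz_facts.1, mul_one]
  have b1 : ∀ (c : Bool) (v : W), W.inR v → W.inR (if c then v else 1) := fun c v hv => by
    cases c <;> simp [hv, one_inR]
  have b2 : ∀ (c : Bool) (v v' : W), (L.cj x v = v' ∨ L.cj x v = v' * W.zz) →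
      (L.cj x (if c then v else 1) = (if c then v' else 1) ∨
        L.cj x (if c then v else 1) = (if c then v' else 1) * W.zz) := fun c v v' hv => by
    cases c <;> simp [hv, L.cj_of_one x]
  have i1 : W.inR W.p1 := by decide
  have i2 : W.inR W.p2 := by decide
  have i3 : W.inR W.g1 := by decide
  have i4 : W.inR W.g2 := by decide
  have iz := W.zz_facts.2.2.2.2
  suffices key : ∀ u : W, u = w →
      (L.cj x u = W.shW a b w ∨ L.cj x u = W.shW a b w * W.zz) from key w rfl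
  intro u hu
  rw [hu.trans (W.R_gen w hw)]
  refine hmul _ _ _ _ (hm _ _ (hm _ _ (hm _ _ (b1 _ _ i1) (b1 _ _ iz)) (b1 _ _ i2)) (b1 _ _ i3)) (b1 _ _ i4) ?_
    (b2 _ _ _ (hpt 1 1))
  refine hmul _ _ _ _ (hm _ _ (hm _ _ (b1 _ _ i1) (b1 _ _ iz)) (b1 _ _ i2)) (b1 _ _ i3) ?_ (b2 _ _ _ (hpt 0 1))
  refine hmul _ _ _ _ (hm _ _ (b1 _ _ i1) (b1 _ _ iz)) (b1 _ _ i2) ?_ (b2 _ _ _ (hpt 1 0))
  exact hmul _ _ _ _ (b1 _ _ i1) (b1 _ _ iz) (b2 _ _ _ (hpt 0 0)) (b2 _ _ _ (.inl (L.cj_zz x)))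

end Loc

end CfsgLib.A8Sylow
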