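import Cfsg.Agent.Lib.A8Sylow.SL23
import Cfsg.Agent.Lib.PSp43.Symp

/-!
Some element moves a column: the symplectic group.

Blueprint: `blueprint/S2918.md`, step 5.
-/

set_option autoImplicit false
set_option maxRecDepth 100000
set_option linter.style.haveILetI false
set_option linter.unusedSectionVars false

open Cfsg
open CfsgU43Type (smul kc)

namespace CfsgLib.A8Sylow

universe u

namespace Loc

variable {X : Type u} [Group X] [Finite X] (L : Loc X)

theorem ι_sq {w : W} (h : w * w = 1) : L.ι w * L.ι w = 1 := by rw [← map_mul, h, map_one]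

theorem σ_eq_sp {x : X} {a b : Fin 3} (hc : ∀ j, L.σ x (W.col j) = W.col (j + b))
    (hr : ∀ r, L.σ x (W.row r) = W.row (r + a)) : L.σ x = W.sp a b := by
  refine Equiv.ext fun i => ?_
  rcases W.line_index i with ⟨j, rfl⟩ | ⟨r, rfl⟩
  · rw [hc, (W.sp_col_row a b j 0).1]
  · rw [hr, (W.sp_col_row a b 0 r).2]

theorem cj_mulzz (x : X) {w : W} (hw : W.inR w) : L.cj x (w * W.zz) = L.cj x w * W.zz := by
  rw [L.cj_mul x hw W.zz_facts.2.2.2.2, L.cj_zz]

/-- The data of the two quaternion groups: an element of order three cycling the first and centralising the second. -/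
theorem exists_omega (hcol : ∃ (x : X) (j : Fin 3), L.σ x (W.col j) ≠ W.col j) :
    ∃ (ω : X) (ei ej : Bool), ω ^ 3 = 1 ∧ L.σ ω = W.sp 2 1 ∧
      (∀ q < 4, ω * L.ι (W.qel (W.sg ei W.qa) (W.sg ej W.qb) q) =
        L.ι (W.qel (W.sg ei W.qa) (W.sg ej W.qb) (W.rotq 1 q)) * ω) ∧
      ∀ q < 4, Commute ω (L.ι (W.mm * W.qel (W.sg ei W.qa) (W.sg ej W.qb) q * W.mm)) := by
  obtain ⟨ω, hω, hc, hr⟩ := L.exists_shift hcol 2 1
  obtain ⟨f1, f2, f3, f4, ra, rb, rA, rB, -, -⟩ := W.shift_facts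
  -- exact centralisation of the second factor
  have hfix : ∀ w : W, W.inR w → (L.cj ω w = w ∨ L.cj ω w = w * W.zz) → L.cj ω w = w := by
    intro w hw h
    refine h.resolve_right fun e => ?_
    have h2 : L.cj (ω * ω) w = w := by
      rw [L.cj_cj ω ω hw, e, L.cj_mulzz ω hw, e, mul_assoc, W.zz_facts.1, mul_one]
    have h3 : L.cj (ω * (ω * ω)) w = w * W.zz := by rw [L.cj_cj ω _ hw, h2, e]
    rw [show ω * (ω * ω) = 1 by rw [← mul_assoc, ← pow_two, ← pow_succ, hω], L.cj_one hw] at h3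
    exact W.zz_facts.2.1 (mul_left_cancel (h3.symm.trans (mul_one w).symm))
  have hpick : ∀ (w s t : W), W.inR w → W.shW 2 1 w = s → (s = t ∨ s = t * W.zz) →
      (L.cj ω w = t ∨ L.cj ω w = t * W.zz) := by
    intro w s t hw hs ht
    rcases L.cj_shift hc hr hw with e | e <;> rw [e, hs] <;> rcases ht with rfl | rfl
    · exact .inl rfl
    · exact .inr rfl
    · exact .inr rfl
    · exact .inl (by rw [mul_assoc, W.zz_facts.1, mul_one])
  have hA := hfix _ rA (hpick _ _ _ rA rfl f3)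
  have hB := hfix _ rB (hpick _ _ _ rB rfl f4)
  -- the signs
  obtain ⟨e0, he0⟩ := W.sign_cases.1 _ (hpick _ _ _ ra rfl f1)
  have hj := hpick _ _ _ rb rfl f2
  obtain ⟨hm1, hm2, hm3, hm4, hm5⟩ := W.flip_mul e0
  obtain ⟨ei, ej, hi1, hj1⟩ : ∃ ei ej : Bool, L.cj ω (W.sg ei W.qa) = W.sg ej W.qb ∧
      L.cj ω (W.sg ej W.qb) = W.sg ei W.qa * W.sg ej W.qb := by
    have hje : L.cj ω (W.sg e0 W.qb) = W.qa * W.sg e0 W.qb ∨
        L.cj ω (W.sg e0 W.qb) = W.qa * W.sg e0 W.qb * W.zz := by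
      cases e0
      · exact hj
      · show L.cj ω (W.qb * W.zz) = W.qa * (W.qb * W.zz) ∨ L.cj ω (W.qb * W.zz) = W.qa * (W.qb * W.zz) * W.zz
        rw [L.cj_mulzz ω rb]
        rcases hj with e | e
        · exact .inl (by rw [e, mul_assoc])
        · exact .inr (by rw [e]; simp only [mul_assoc])
    rcases hje with e | e
    · exact ⟨false, e0, by rw [hm5]; exact he0, by rw [e, hm3]⟩
    · refine ⟨true, !e0, by rw [hm4, L.cj_mulzz ω ra, he0, hm1], ?_⟩
      rw [hm1, L.cj_mulzz ω (W.sign_cases.2 false e0).2.1, e, hm2, mul_assoc, W.zz_facts.1, mul_one]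
  obtain ⟨ri, rj, hjk⟩ := W.sign_cases.2 ei ej
  refine ⟨ω, ei, ej, hω, L.σ_eq_sp hc hr, fun q hq => ?_, fun q hq => ?_⟩
  · have hR : ∀ v : W, W.inR v → ω * L.ι v = L.ι (L.cj ω v) * ω := fun v hv => by
      rw [(L.cj_spec ω hv).2]; group
    interval_cases q
    · simp [W.qel, W.rotq]
    · show ω * L.ι (W.sg ei W.qa) = L.ι (W.sg ej W.qb) * ω
      rw [hR _ ri, hi1]
    · show ω * L.ι (W.sg ej W.qb) = L.ι (W.sg ei W.qa * W.sg ej W.qb) * ω
      rw [hR _ rj, hj1]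
    · show ω * L.ι (W.sg ei W.qa * W.sg ej W.qb) = L.ι (W.sg ei W.qa) * ω
      rw [hR _ (W.inR_facts.2.1 _ _ ri rj), L.cj_mul ω ri rj, hi1, hj1, hjk]
  · have hcm : ∀ v : W, W.inR v → L.cj ω v = v → Commute ω (L.ι v) := fun v hv e => by
      have := (L.cj_spec ω hv).2
      rw [e] at this
      exact (mul_inv_eq_iff_eq_mul.mp this.symm)
    obtain ⟨-, -, -, ca, cb, cz, e⟩ := W.qel_facts ei ej q hq
    rw [e, map_mul, map_mul]
    have h1 : Commute ω (1 : X) := Commute.one_right ω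
    refine ((?_ : Commute ω _).mul_right ?_).mul_right ?_
    · cases ca
      · simp
      · exact hcm _ rA hA
    · cases cb
      · simp
      · exact hcm _ rB hB
    · cases cz
      · simp
      · exact hcm _ W.zz_facts.2.2.2.2 (L.cj_zz ω)

/-- **The coordinates of the centraliser.** -/
theorem exists_code (hcol : ∃ (x : X) (j : Fin 3), L.σ x (W.col j) ≠ W.col j) :
    ∃ φ : ℕ → X, (∀ x < 576, ∀ y < 576, φ (CfsgPSp43.mmul x y) = φ x * φ y) ∧
      (∀ x < 576, ∀ y < 576, φ x = φ y → x = y) ∧ (∀ c : X, ∃ x < 576, φ x = c) ∧ φ 24 = L.ι W.zz := by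
  classical
  obtain ⟨ω, ei, ej, hω, hσω, hrot, hfix⟩ := L.exists_omega hcol
  set I := W.sg ei W.qa
  set J := W.sg ej W.qb
  set τ := L.ι W.mm with hτdef
  have hτ : τ * τ = 1 := L.ι_sq W.shift_facts.2.2.2.2.2.2.2.2.1
  have hττ : τ⁻¹ = τ := inv_eq_of_mul_eq_one_right hτ
  have hz : ∀ x : X, Commute x (L.ι W.zz) := fun x => L.zc x
  have hzp : ∀ (x : X) (n : ℕ), Commute x (L.ι (W.zp n)) := fun x n => by
    unfold W.zp
    split_ifs
    · rw [map_one]; exact Commute.one_right x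
    · exact hz x
  set ω2 := τ * ω * τ with hω2
  have hpow2 : ∀ c : ℕ, τ * ω ^ c * τ = ω2 ^ c := fun c => by
    have := conj_pow (a := τ) (b := ω) (i := c)
    rw [hττ] at this
    exact this.symm
  have hmm : ∀ v : W, τ * L.ι v * τ = L.ι (W.mm * v * W.mm) := fun v => by rw [map_mul, map_mul]
  -- commutation between the factors
  have hqq : ∀ q < 4, ∀ q' < 4, Commute (L.ι (W.qel I J q)) (L.ι (W.mm * W.qel I J q' * W.mm)) := fun q hq q' hq' => by
    show _ * _ = _ * _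
    rw [← map_mul, ← map_mul, (W.qel_facts ei ej q hq).2.2.1 q' hq']
  have hflip : ∀ {a b : X}, Commute a b → Commute (τ * a * τ) (τ * b * τ) := fun {a b} h => by
    show τ * a * τ * (τ * b * τ) = τ * b * τ * (τ * a * τ)
    calc τ * a * τ * (τ * b * τ) = τ * a * (τ * τ) * b * τ := by group
      _ = τ * (a * b) * τ := by rw [hτ]; group
      _ = τ * (b * a) * τ := by rw [h.eq]
      _ = τ * b * (τ * τ) * a * τ := by rw [hτ]; group
      _ = τ * b * τ * (τ * a * τ) := by group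
  have hback : ∀ v : W, τ * L.ι (W.mm * v * W.mm) * τ = L.ι v := fun v => by
    rw [map_mul, map_mul, ← hτdef]
    calc τ * (τ * L.ι v * τ) * τ = τ * τ * L.ι v * (τ * τ) := by group
      _ = L.ι v := by rw [hτ, one_mul, mul_one]
  have hfix2 : ∀ q < 4, Commute ω2 (L.ι (W.qel I J q)) := fun q hq => by
    have := hflip (hfix q hq)
    rwa [hback] at this
  have hσω2 : L.σ ω2 = W.sp 1 1 := by
    rw [hω2, map_mul, map_mul, hσω, L.σ_mm, W.sp_facts.1]
  -- the two elements of order three commute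
  have hωω : Commute ω ω2 := by
    have hωinv : ω⁻¹ = ω ^ 2 := inv_eq_of_mul_eq_one_right (by rw [← pow_succ', hω])
    set c := ω * ω2 * ω⁻¹ * ω2⁻¹ with hcdef
    have hσc : L.σ c = 1 := by
      rw [hcdef, map_mul, map_mul, map_mul, map_inv, map_inv, hσω, hσω2, W.sp_facts.2]
      group
    obtain ⟨v, hv, hve⟩ := L.mem_R_of_σ hσc
    have hgen : ∀ q < 4, Commute c (L.ι (W.qel I J q)) ∧ Commute c (L.ι (W.mm * W.qel I J q * W.mm)) := by
      intro q hq
      obtain ⟨hq1, -, -, hq2, hq3⟩ := W.rotq_facts q hq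
      have hrot' : ω * L.ι (W.qel I J (W.rotq 2 q)) = L.ι (W.qel I J q) * ω := by
        rw [hrot _ hq3, hq2]
      refine ⟨?_, ?_⟩
      · have e1 := (hfix2 q hq).inv_left.eq
        have e2 : ω⁻¹ * L.ι (W.qel I J q) = L.ι (W.qel I J (W.rotq 2 q)) * ω⁻¹ := by
          rw [inv_mul_eq_iff_eq_mul, ← mul_assoc, hrot', mul_inv_cancel_right]
        have e3 := (hfix2 _ hq3).eq
        show c * _ = _ * c
        rw [hcdef]
        calc ω * ω2 * ω⁻¹ * ω2⁻¹ * L.ι (W.qel I J q)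
            = ω * ω2 * (ω⁻¹ * L.ι (W.qel I J q)) * ω2⁻¹ := by rw [mul_assoc _ ω2⁻¹, e1]; group
          _ = ω * (ω2 * L.ι (W.qel I J (W.rotq 2 q))) * ω⁻¹ * ω2⁻¹ := by rw [e2]; group
          _ = ω * L.ι (W.qel I J (W.rotq 2 q)) * ω2 * ω⁻¹ * ω2⁻¹ := by rw [e3]; group
          _ = L.ι (W.qel I J q) * (ω * ω2 * ω⁻¹ * ω2⁻¹) := by rw [hrot']; group
      · have hQ : ∀ p < 4, ω2 * L.ι (W.mm * W.qel I J p * W.mm) = L.ι (W.mm * W.qel I J (W.rotq 1 p) * W.mm) * ω2 := by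
          intro p hp
          rw [← hmm, ← hmm, hω2]
          calc τ * ω * τ * (τ * L.ι (W.qel I J p) * τ) = τ * ω * (τ * τ) * L.ι (W.qel I J p) * τ := by group
            _ = τ * (ω * L.ι (W.qel I J p)) * τ := by rw [hτ]; group
            _ = τ * L.ι (W.qel I J (W.rotq 1 p)) * (τ * τ) * ω * τ := by rw [hrot p hp, hτ]; group
            _ = τ * L.ι (W.qel I J (W.rotq 1 p)) * τ * (τ * ω * τ) := by group
        have e4 := hQ _ hq3
        rw [hq2] at e4
        have e1 : ω2⁻¹ * L.ι (W.mm * W.qel I J q * W.mm) = L.ι (W.mm * W.qel I J (W.rotq 2 q) * W.mm) * ω2⁻¹ := by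
          rw [inv_mul_eq_iff_eq_mul, ← mul_assoc, e4, mul_inv_cancel_right]
        have e2 := (hfix _ hq3).inv_left.eq
        have e3 := (hfix q hq).eq
        show c * _ = _ * c
        rw [hcdef]
        calc ω * ω2 * ω⁻¹ * ω2⁻¹ * L.ι (W.mm * W.qel I J q * W.mm)
            = ω * ω2 * (ω⁻¹ * L.ι (W.mm * W.qel I J (W.rotq 2 q) * W.mm)) * ω2⁻¹ := by
              rw [mul_assoc _ ω2⁻¹, e1]; group
          _ = ω * (ω2 * L.ι (W.mm * W.qel I J (W.rotq 2 q) * W.mm)) * ω⁻¹ * ω2⁻¹ := by rw [e2]; group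
          _ = ω * L.ι (W.mm * W.qel I J q * W.mm) * ω2 * ω⁻¹ * ω2⁻¹ := by rw [e4]; group
          _ = L.ι (W.mm * W.qel I J q * W.mm) * (ω * ω2 * ω⁻¹ * ω2⁻¹) := by rw [e3]; group
    rcases W.qel_center ei ej v hv fun q hq => ⟨L.inj (by
        rw [map_mul L.ι v, map_mul L.ι _ v, hve]; exact (hgen q hq).1.eq), L.inj (by
        rw [map_mul L.ι v, map_mul L.ι _ v, hve]; exact (hgen q hq).2.eq)⟩ with rfl | rfl
    · rw [map_one] at hve
      exact mul_inv_eq_iff_eq_mul.mp (mul_inv_eq_one.mp hve.symm)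
    · exfalso
      have h1 : ω * ω2 * ω⁻¹ = L.ι W.zz * ω2 := by rw [hve, hcdef]; group
      have h2 : (ω * ω2 * ω⁻¹) ^ 3 = 1 := by
        rw [conj_pow, ← hpow2, hω, mul_one, hτ, mul_one, mul_inv_cancel]
      rw [h1, (hz ω2).symm.mul_pow, ← hpow2, hω, mul_one, hτ, mul_one, pow_succ, pow_two,
        L.ι_sq W.zz_facts.1, one_mul] at h2
      exact W.zz_facts.2.1 (L.inj (h2.trans (map_one _).symm))
  -- the codes
  let f : ℕ → X := fun x => L.ι (W.part I J x) * ω ^ (x / 4 % 3)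
  let g : ℕ → X := fun x => τ * f x * τ
  have hfmul : ∀ x < 24, ∀ y < 24, f x * f y = f (smul x y) := by
    intro x hx y hy
    obtain ⟨-, hc, hp⟩ := W.code_mul ei ej x hx y hy
    have hq : y % 4 < 4 := Nat.mod_lt _ (by norm_num)
    obtain ⟨hq1, hq11, hq0, -, -⟩ := W.rotq_facts _ hq
    have hmove : ω ^ (x / 4 % 3) * L.ι (W.part I J y) =
        L.ι (W.zp (y / 12) * W.qel I J (W.rotq (x / 4 % 3) (y % 4))) * ω ^ (x / 4 % 3) := by
      have h1 : ω ^ (x / 4 % 3) * L.ι (W.qel I J (y % 4)) =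
          L.ι (W.qel I J (W.rotq (x / 4 % 3) (y % 4))) * ω ^ (x / 4 % 3) := by
        have h3 : x / 4 % 3 < 3 := Nat.mod_lt _ (by norm_num)
        interval_cases (x / 4 % 3)
        · rw [pow_zero, hq0, one_mul, mul_one]
        · rw [pow_one]; exact hrot _ hq
        · rw [pow_two, mul_assoc, hrot _ hq, ← mul_assoc, hrot _ hq1, hq11, mul_assoc]
      rw [W.part, map_mul, ← mul_assoc, ((hzp _ _).eq), mul_assoc, h1, map_mul, mul_assoc]
    show L.ι (W.part I J x) * ω ^ (x / 4 % 3) * (L.ι (W.part I J y) * ω ^ (y / 4 % 3)) =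
      L.ι (W.part I J (smul x y)) * ω ^ (smul x y / 4 % 3)
    rw [← hp, hc, map_mul (f := L.ι)]
    calc _ = L.ι (W.part I J x) * (ω ^ (x / 4 % 3) * L.ι (W.part I J y)) * ω ^ (y / 4 % 3) := by group
      _ = L.ι (W.part I J x) * L.ι (W.zp (y / 12) * W.qel I J (W.rotq (x / 4 % 3) (y % 4))) *
          (ω ^ (x / 4 % 3) * ω ^ (y / 4 % 3)) := by rw [hmove]; group
      _ = _ := by rw [← pow_add, pow_eq_pow_mod _ hω]
  have hgmul : ∀ x < 24, ∀ y < 24, g x * g y = g (smul x y) := fun x hx y hy => by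
    show τ * f x * τ * (τ * f y * τ) = τ * f (smul x y) * τ
    rw [← hfmul x hx y hy]
    calc τ * f x * τ * (τ * f y * τ) = τ * f x * (τ * τ) * f y * τ := by group
      _ = τ * (f x * f y) * τ := by rw [hτ]; group
  have hgnf : ∀ x, g x = L.ι (W.mm * (W.zp (x / 12) * W.qel I J (x % 4)) * W.mm) * ω2 ^ (x / 4 % 3) := fun x => by
    show τ * (L.ι (W.part I J x) * ω ^ (x / 4 % 3)) * τ = _
    rw [← hmm, ← hpow2]
    calc τ * (L.ι (W.part I J x) * ω ^ (x / 4 % 3)) * τ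
        = τ * L.ι (W.part I J x) * 1 * ω ^ (x / 4 % 3) * τ := by group
      _ = τ * L.ι (W.part I J x) * τ * (τ * ω ^ (x / 4 % 3) * τ) := by rw [← hτ]; group
  have hsplit : ∀ (n : ℕ) (q : ℕ), L.ι (W.mm * (W.zp n * W.qel I J q) * W.mm) =
      τ * L.ι (W.zp n) * τ * L.ι (W.mm * W.qel I J q * W.mm) := fun n q => by
    rw [← hmm, ← hmm, map_mul]
    calc τ * (L.ι (W.zp n) * L.ι (W.qel I J q)) * τ = τ * L.ι (W.zp n) * 1 * L.ι (W.qel I J q) * τ := by group
      _ = τ * L.ι (W.zp n) * τ * (τ * L.ι (W.qel I J q) * τ) := by rw [← hτ]; group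
  have hzmm : ∀ (x : X) (n : ℕ), Commute x (τ * L.ι (W.zp n) * τ) := fun x n => by
    have : τ * L.ι (W.zp n) * τ = L.ι (W.zp n) := by rw [(hzp τ n).eq, mul_assoc, hτ, mul_one]
    rw [this]; exact hzp x n
  have hcomm : ∀ a, a < 24 → ∀ b, b < 24 → Commute (f a) (g b) := by
    intro a ha b hb
    have hqa : a % 4 < 4 := Nat.mod_lt _ (by norm_num)
    have hqb : b % 4 < 4 := Nat.mod_lt _ (by norm_num)
    rw [hgnf, hsplit]
    show Commute (L.ι (W.part I J a) * ω ^ (a / 4 % 3)) _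
    rw [W.part, map_mul]
    refine Commute.mul_left (Commute.mul_left ((hzp _ _).symm) ?_) ?_
    · exact ((hzmm _ _).mul_right (hqq _ hqa _ hqb)).mul_right ((hfix2 _ hqa).symm.pow_right _)
    · exact ((hzmm _ _).mul_right ((hfix _ hqb).pow_left _)).mul_right (hωω.pow_pow _ _)
  have hf12 : f 12 = L.ι W.zz := by
    show L.ι (W.part I J 12) * ω ^ 0 = _
    simp [W.part, W.zp, W.qel]
  have hg12 : g 12 = L.ι W.zz := by
    show τ * f 12 * τ = _
    rw [hf12, (hz τ).eq, mul_assoc, hτ, mul_one]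
  have hkc : ∀ a < 24, ∀ b < 24, f (kc a b / 24) * g (kc a b % 24) = f a * g b := by
    intro a ha b hb
    have key : ∀ a < 24, ∀ b < 24, (a < 12 → kc a b / 24 = a ∧ kc a b % 24 = b) ∧
        (¬ a < 12 → kc a b / 24 = a - 12 ∧ kc a b % 24 = smul 12 b ∧ smul 12 (a - 12) = a) := by decide +kernel
    obtain ⟨k1, k2⟩ := key a ha b hb
    by_cases h : a < 12
    · rw [(k1 h).1, (k1 h).2]
    · obtain ⟨e1, e2, e3⟩ := k2 h
      rw [e1, e2, ← hgmul 12 (by norm_num) b hb, hg12]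
      conv_rhs => rw [← e3, ← hfmul 12 (by norm_num) (a - 12) (by omega), hf12]
      rw [← mul_assoc, (hz (f (a - 12))).eq, mul_assoc]
  let F : ℕ → X := fun k => f (k / 24) * g (k % 24)
  let φ : ℕ → X := fun n => F (n / 2) * τ ^ (n % 2)
  have hFswap : ∀ k < 288, τ * F k * τ = F (CfsgPSp43.swp k) := by
    intro k hk
    show _ = f (kc (k % 24) (k / 24) / 24) * g (kc (k % 24) (k / 24) % 24)
    rw [hkc _ (Nat.mod_lt _ (by norm_num)) _ (by omega)]
    have hgg : τ * g (k % 24) * τ = f (k % 24) := by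
      show τ * (τ * f _ * τ) * τ = _
      calc τ * (τ * f (k % 24) * τ) * τ = τ * τ * f (k % 24) * (τ * τ) := by group
        _ = f (k % 24) := by rw [hτ, one_mul, mul_one]
    calc τ * F k * τ = τ * f (k / 24) * 1 * g (k % 24) * τ := by simp only [F]; group
      _ = g (k / 24) * (τ * g (k % 24) * τ) := by rw [← hτ]; simp only [g]; group
      _ = f (k % 24) * g (k / 24) := by rw [hgg, (hcomm _ (Nat.mod_lt _ (by norm_num)) _ (by omega)).eq]
  have hswp_lt : ∀ k < 288, CfsgPSp43.swp k < 288 := by decide +kernel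
  have hsmul_lt : ∀ a < 24, ∀ b < 24, smul a b < 24 := fun a ha b hb => (W.code_mul ei ej a ha b hb).1
  have hFmul : ∀ k < 288, ∀ l < 288, F k * F l = F (CfsgU43Type.kmul k l) := by
    intro k hk l hl
    show f (k / 24) * g (k % 24) * (f (l / 24) * g (l % 24)) =
      f (kc (smul (k / 24) (l / 24)) (smul (k % 24) (l % 24)) / 24) *
        g (kc (smul (k / 24) (l / 24)) (smul (k % 24) (l % 24)) % 24)
    have h1 : k % 24 < 24 := Nat.mod_lt _ (by norm_num)
    have h2 : l % 24 < 24 := Nat.mod_lt _ (by norm_num)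
    rw [hkc _ (hsmul_lt _ (by omega) _ (by omega)) _ (hsmul_lt _ h1 _ h2), ← hfmul _ (by omega) _ (by omega),
      ← hgmul _ h1 _ h2]
    calc _ = f (k / 24) * (g (k % 24) * f (l / 24)) * g (l % 24) := by group
      _ = f (k / 24) * (f (l / 24) * g (k % 24)) * g (l % 24) := by
        rw [(hcomm _ (by omega) _ h1).eq]
      _ = _ := by group
  have hmul : ∀ x < 576, ∀ y < 576, φ (CfsgPSp43.mmul x y) = φ x * φ y := by
    intro x hx y hy
    have key : ∀ (K : ℕ) (r s : ℕ), r < 2 → s < 2 →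
        F ((2 * K + (r + s) % 2) / 2) * τ ^ ((2 * K + (r + s) % 2) % 2) = F K * (τ ^ r * τ ^ s) := by
      intro K r s hr hs
      rw [show (2 * K + (r + s) % 2) / 2 = K by omega, show (2 * K + (r + s) % 2) % 2 = (r + s) % 2 by omega,
        ← pow_add, ← pow_eq_pow_mod _ (by rw [pow_two]; exact hτ : τ ^ 2 = 1)]
    show F (_ / 2) * τ ^ (_ % 2) = F (x / 2) * τ ^ (x % 2) * (F (y / 2) * τ ^ (y % 2))
    rw [CfsgPSp43.mmul, key _ _ _ (Nat.mod_lt _ (by norm_num)) (Nat.mod_lt _ (by norm_num))]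
    rcases Nat.mod_two_eq_zero_or_one x with hr | hr <;> rw [hr]
    · rw [show CfsgPSp43.sact 0 (y / 2) = y / 2 from rfl, ← hFmul _ (by omega) _ (by omega), pow_zero, one_mul,
        mul_one, mul_assoc]
    · rw [show CfsgPSp43.sact 1 (y / 2) = CfsgPSp43.swp (y / 2) from rfl,
        ← hFmul _ (by omega) _ (hswp_lt _ (by omega)), ← hFswap _ (by omega), pow_one]
      calc _ = F (x / 2) * τ * F (y / 2) * (τ * τ) * τ ^ (y % 2) := by group
        _ = _ := by rw [hτ]; group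
  have hnf : ∀ n < 576, φ n = L.ι (W.qel I J (n / 2 / 24 % 4) * (W.mm * (W.zp (n / 2 % 24 / 12) *
      W.qel I J (n / 2 % 24 % 4)) * W.mm)) * (ω ^ (n / 2 / 24 / 4 % 3) * ω2 ^ (n / 2 % 24 / 4 % 3) * τ ^ (n % 2)) := by
    intro n hn
    show f (n / 2 / 24) * g (n / 2 % 24) * τ ^ (n % 2) = _
    rw [hgnf]
    show L.ι (W.part I J (n / 2 / 24)) * ω ^ (n / 2 / 24 / 4 % 3) * _ * _ = _
    rw [W.part, show n / 2 / 24 / 12 = 0 by omega, show W.zp 0 = 1 from rfl, one_mul,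
      map_mul L.ι (W.qel I J (n / 2 / 24 % 4)), hsplit]
    have hc : Commute (ω ^ (n / 2 / 24 / 4 % 3)) (τ * L.ι (W.zp (n / 2 % 24 / 12)) * τ *
        L.ι (W.mm * W.qel I J (n / 2 % 24 % 4) * W.mm)) :=
      (hzmm _ _).mul_right ((hfix _ (Nat.mod_lt _ (by norm_num))).pow_left _)
    calc _ = L.ι (W.qel I J (n / 2 / 24 % 4)) * (ω ^ (n / 2 / 24 / 4 % 3) * (τ * L.ι (W.zp (n / 2 % 24 / 12)) * τ *
          L.ι (W.mm * W.qel I J (n / 2 % 24 % 4) * W.mm))) * ω2 ^ (n / 2 % 24 / 4 % 3) * τ ^ (n % 2) := by group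
      _ = _ := by rw [hc.eq]; group
  have hσD : ∀ c1 c2 r, L.σ (ω ^ c1 * ω2 ^ c2 * τ ^ r) = W.dperm c1 c2 r := fun c1 c2 r => by
    rw [map_mul, map_mul, map_pow, map_pow, map_pow, hσω, hσω2, L.σ_mm]; rfl
  have hRσ : ∀ v : W, W.inR v → L.σ (L.ι v) = 1 := fun v hv => L.σ_R (L.mem_range_pCore.mpr ⟨v, hv, rfl⟩)
  have hPR : ∀ a < 4, ∀ b < 4, ∀ s : ℕ, W.inR (W.qel I J a * (W.mm * (W.zp s * W.qel I J b) * W.mm)) := by
    intro a ha b hb s
    refine W.inR_facts.2.1 _ _ (W.qel_facts ei ej a ha).1 ?_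
    have hb' := (W.qel_facts ei ej b hb).2.1
    have hz' : W.mm * W.zz * W.mm = W.zz := W.shift_facts.2.2.2.2.2.2.2.2.2
    have hm : W.mm * W.mm = 1 := W.shift_facts.2.2.2.2.2.2.2.2.1
    unfold W.zp
    split_ifs
    · rwa [one_mul]
    · rw [show W.mm * (W.zz * W.qel I J b) * W.mm = W.mm * W.zz * W.mm * (W.mm * W.qel I J b * W.mm) by
        calc W.mm * (W.zz * W.qel I J b) * W.mm = W.mm * W.zz * 1 * W.qel I J b * W.mm := by group
          _ = _ := by rw [← hm]; group, hz']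
      exact W.inR_facts.2.1 _ _ W.zz_facts.2.2.2.2 hb'
  refine ⟨φ, hmul, ?_, ?_, ?_⟩
  · intro x hx y hy e
    rw [hnf x hx, hnf y hy] at e
    have hs := congrArg L.σ e
    have hPn : ∀ n (D : X), L.σ (L.ι (W.qel I J (n / 2 / 24 % 4) * (W.mm * (W.zp (n / 2 % 24 / 12) *
        W.qel I J (n / 2 % 24 % 4)) * W.mm)) * D) = L.σ D := fun n D => by
      rw [map_mul L.σ, hRσ _ (hPR _ (Nat.mod_lt _ (by norm_num)) _ (Nat.mod_lt _ (by norm_num)) _), one_mul]
    rw [hPn, hPn, hσD, hσD] at hs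
    obtain ⟨e1, e2, e3⟩ := W.dperm_inj _ (Nat.mod_lt _ (by norm_num)) _ (Nat.mod_lt _ (by norm_num)) _
      (Nat.mod_lt _ (by norm_num)) _ (Nat.mod_lt _ (by norm_num)) _ (Nat.mod_lt _ (by norm_num)) _
      (Nat.mod_lt _ (by norm_num)) hs
    rw [e1, e2, e3] at e
    obtain ⟨q1, q2, q3⟩ := W.qel_inj ei ej _ (Nat.mod_lt _ (by norm_num)) _ (Nat.mod_lt _ (by norm_num)) _ (by omega) _
      (Nat.mod_lt _ (by norm_num)) _ (Nat.mod_lt _ (by norm_num)) _ (by omega) (L.inj (mul_right_cancel e))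
    omega
  · intro c
    obtain ⟨b, hb⟩ := L.col_shift c
    obtain ⟨r, hr⟩ := L.exists_row_map c
    obtain ⟨c1, hc1, c2, hc2, s, hs, hd⟩ := W.dperm_surj b r fun i k e =>
      (W.col_row 0 i).2.2.2 k ((L.σ c).injective (by rw [hr, hr, e]))
    set D := ω ^ c1 * ω2 ^ c2 * τ ^ s with hD
    have hσ : L.σ (c * D⁻¹) = 1 := by
      rw [map_mul, map_inv, hσD, mul_inv_eq_one]
      refine Equiv.ext fun i => ?_
      rcases W.line_index i with ⟨j, rfl⟩ | ⟨k, rfl⟩
      · rw [hb, (hd j).1]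
      · rw [hr, (hd k).2]
    obtain ⟨v, hv, hve⟩ := L.mem_R_of_σ hσ
    obtain ⟨q1, hq1, q2, hq2, t, ht, hvt⟩ := W.qel_gen ei ej v hv
    refine ⟨2 * (24 * (4 * c1 + q1) + (12 * t + 4 * c2 + q2)) + s, by omega, ?_⟩
    rw [hnf _ (by omega)]
    have a1 : (2 * (24 * (4 * c1 + q1) + (12 * t + 4 * c2 + q2)) + s) / 2 =
        24 * (4 * c1 + q1) + (12 * t + 4 * c2 + q2) := by omega
    rw [a1, show (24 * (4 * c1 + q1) + (12 * t + 4 * c2 + q2)) / 24 = 4 * c1 + q1 by omega,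
      show (24 * (4 * c1 + q1) + (12 * t + 4 * c2 + q2)) % 24 = 12 * t + 4 * c2 + q2 by omega,
      show (4 * c1 + q1) % 4 = q1 by omega, show (4 * c1 + q1) / 4 % 3 = c1 by omega,
      show (12 * t + 4 * c2 + q2) / 12 = t by omega, show (12 * t + 4 * c2 + q2) % 4 = q2 by omega,
      show (12 * t + 4 * c2 + q2) / 4 % 3 = c2 by omega,
      show (2 * (24 * (4 * c1 + q1) + (12 * t + 4 * c2 + q2)) + s) % 2 = s by omega, ← hvt, hve, ← hD,
      inv_mul_cancel_right]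
  · show f 0 * g 12 * τ ^ 0 = _
    rw [hg12]
    simp [f, W.part, W.zp, W.qel]

end Loc

namespace Base

variable {G : Type u} [Group G] [Finite G] (B : Base G)

/-- **The symplectic case.** -/
theorem symp_case (hF : B.Fused)
    (hcol : ∃ (x : ↥(Subgroup.centralizer ({B.z} : Set G))) (j : Fin 3), (B.locC hF).σ x (W.col j) ≠ W.col j) :
    ∃ (F : Type) (_ : Field F) (_ : Fintype F), Fintype.card F = 3 ∧ Nonempty (G ≃* Cfsg.PSp 2 F) := by
  classical
  haveI : Fact (Nat.Prime 3) := ⟨Nat.prime_three⟩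
  refine ⟨ZMod 3, inferInstance, inferInstance, ZMod.card 3, ?_⟩
  obtain ⟨φ, hmul, hinj, hsurj, hz⟩ := (B.locC hF).exists_code hcol
  have D : CfsgPSp43.Dat B.z (fun n => (φ n : G)) :=
    { mul := fun x hx y hy => by rw [hmul x hx y hy]; rfl
      inj := fun x hx y hy e => hinj x hx y hy (Subtype.ext e)
      cent := fun c => by
        rw [← B.mem_C]
        constructor
        · intro hc
          obtain ⟨x, hx, e⟩ := hsurj ⟨c, hc⟩
          exact ⟨x, hx, congrArg Subtype.val e⟩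
        · rintro ⟨x, -, rfl⟩
          exact (φ x).2
      zc := congrArg Subtype.val hz
      noIdx := fun H h => B.noIdx H (Subgroup.normal_of_index_eq_two h) h }
  haveI : IsSimpleGroup (Cfsg.PSp 2 (ZMod 3)) :=
    CfsgLib.SympSimple.simple (le_refl 2) fun _ => by rw [ZMod.card 3]
  obtain ⟨ψ₁, o₁, K⟩ := CfsgPSp43.exists_cfg D
  obtain ⟨ψ₂, o₂, K'⟩ := CfsgPSp43.exists_cfg (CfsgPSp43.dat0 (F := ZMod 3) (ZMod.card 3))
  exact CfsgPSp43.iso K K' (CfsgPSp43.card_PS (ZMod.card 3))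

end Base

end CfsgLib.A8Sylow
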