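import Cfsg.Agent.Lib.A8Sylow.Balance
import Cfsg.Agent.Lib.A8Sylow.Quot
import Cfsg.Agent.Lib.L34Sylow.Weak

/-!
The subgroup generated by the cores and its normaliser, in the fused case.

Blueprint: `blueprint/S2918.md`, step 3.
-/

set_option autoImplicit false
set_option maxRecDepth 100000
set_option linter.style.haveILetI false
set_option linter.unusedSectionVars false

open Cfsg

namespace CfsgLib.A8Sylow

open CfsgLib.L34Sylow (oddC oddC_le oddC_comm oddC_conj oddC_normal odd_oddC Wf oddC_le_Wf Wf_le Wf_spec le_oddC)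

universe u

namespace W

theorem card_Wsub : ∀ k : Fin 3, (Finset.univ.filter fun x => (inV k x && inA x) = true).card = 4 ∧
    (inV k zz ∧ inV k (pp k)) := by decide +kernel

theorem inV_pp : ∀ (k : Fin 3) (x : W), inV k x → inA x →
    x = 1 ∨ x = zz ∨ x = pp k ∨ x = pp k * zz := by decide +kernel

end W

namespace Base

variable {G : Type u} [Group G] [Finite G] (B : Base G)

/-- The four-group in the column and the subgroup of order sixteen. -/
def U (k : Fin 3) : Subgroup G := (W.Vsub k ⊓ W.Asub).map B.ι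

/-- The column in the group. -/
def V (k : Fin 3) : Subgroup G := (W.Vsub k).map B.ι

/-- Balance holds along the column. -/
def Good (k : Fin 3) : Prop := ∀ v : W, W.inV k v → v ≠ 1 → Bal (B.ι v)

theorem mem_U {k : Fin 3} {g : G} : g ∈ B.U k ↔ ∃ w, (W.inV k w ∧ W.inA w) ∧ B.ι w = g := Iff.rfl

theorem U_le_A (k : Fin 3) : B.U k ≤ B.A := Subgroup.map_mono inf_le_right

theorem card_U (k : Fin 3) : Nat.card (B.U k) = 4 := by
  rw [U, Subgroup.card_map_of_injective B.inj,
    W.card_sub (fun x => W.inV k x && W.inA x) _ fun x => (Bool.and_eq_true_iff (x := W.inV k x)).symm]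
  exact (W.card_Wsub k).1

theorem z_mem_U (k : Fin 3) : B.z ∈ B.U k := ⟨_, ⟨(W.card_Wsub k).2.1, W.zz_facts.2.2.1⟩, rfl⟩

theorem isEA_V (k : Fin 3) : IsElementaryAbelian 2 (B.V k) := by
  refine ⟨⟨⟨?_⟩⟩, ?_⟩
  · rintro ⟨_, v, hv, rfl⟩ ⟨_, w, hw, rfl⟩
    refine Subtype.ext ?_
    show B.ι v * B.ι w = B.ι w * B.ι v
    rw [← map_mul, ← map_mul, (W.inV_facts k).2.2.2.1 v w hv hw]
  · rintro _ ⟨v, hv, rfl⟩
    rw [pow_two, ← map_mul, ((W.inV_facts k).2.2.1 v hv).1, map_one]

theorem U_le_V (k : Fin 3) : B.U k ≤ B.V k := Subgroup.map_mono inf_le_left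

theorem card_V (k : Fin 3) : Nat.card (B.V k) = 8 := by
  rw [V, Subgroup.card_map_of_injective B.inj, W.card_Vsub]

theorem core_le {k : Fin 3} (hk : B.Good k) {v : G} (hv : v * v = 1) (hvU : ∀ u ∈ B.U k, u * v = v * u) :
    oddC v ≤ Wf (B.U k) :=
  oddC_le_Wf_four (fun _ ha _ hb => B.comm_A (B.U_le_A k ha) (B.U_le_A k hb)) (fun _ hu => B.sq_A (B.U_le_A k hu))
    (B.card_U k) (by rintro _ ⟨w, hw, rfl⟩ h1; exact hk w hw.1 fun e => h1 (by rw [e, map_one])) hv hvU

theorem core_le_A {k : Fin 3} (hk : B.Good k) {a : G} (ha : a ∈ B.A) : oddC a ≤ Wf (B.U k) :=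
  B.core_le hk (B.sq_A ha) fun _ hu => B.comm_A (B.U_le_A k hu) ha

theorem core_z_le {k : Fin 3} : oddC B.z ≤ Wf (B.U k) := oddC_le_Wf (B.z_mem_U k) B.z_ne

theorem odd_W {k : Fin 3} (hk : B.Good k) : Odd (Nat.card (Wf (B.U k))) := by
  refine (Wf_spec (B.isEA_V k) (B.card_V k).ge ?_).of_dvd_nat (Subgroup.card_dvd_of_le ?_)
  · rintro a ha ha1 _ ⟨w, hw, rfl⟩ hb1 r hr hrb
    refine hk w hw (fun e => hb1 (by rw [e, map_one])) a ?_ ?_ r hr hrb
    · rw [← pow_two]; exact (B.isEA_V k).2 a ha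
    · exact congrArg Subtype.val ((B.isEA_V k).1.is_comm.comm ⟨a, ha⟩ ⟨_, Subgroup.mem_map_of_mem _ hw⟩)
  · exact Wf_le fun a ha ha1 => oddC_le_Wf (B.U_le_V k ha) ha1

/-- The normaliser of the subgroup of order sixteen normalises the subgroup generated by the cores. -/
theorem normalizer_le {k : Fin 3} (hk : B.Good k) :
    Subgroup.normalizer (B.A : Set G) ≤ Subgroup.normalizer (Wf (B.U k) : Set G) := by
  intro n hn
  refine CfsgLib.L34Sylow.mem_normalizer_of_forall fun x hx => ?_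
  have h : Wf (B.U k) ≤ (Wf (B.U k)).comap (MulAut.conj n).toMonoidHom := Wf_le fun a ha _ r hr =>
    B.core_le_A hk ((Subgroup.mem_normalizer_iff.mp hn a).mp (B.U_le_A k ha)) (oddC_conj hr)
  exact h hx

/-- The centraliser of the central involution normalises it. -/
theorem cent_z_le (hF : B.Fused) {k : Fin 3} (hk : B.Good k) :
    Subgroup.centralizer ({B.z} : Set G) ≤ Subgroup.normalizer (Wf (B.U k) : Set G) := by
  intro c hc
  refine CfsgLib.L34Sylow.mem_normalizer_of_forall fun x hx => ?_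
  obtain ⟨i, o, ho, hoi⟩ := B.cols hF (B.mem_C.mp hc) k
  have hoW : o ∈ Wf (B.U k) := B.core_z_le ho
  set f := (MulAut.conj (o * c)).toMonoidHom
  have h : Wf (B.U k) ≤ (Wf (B.U k)).comap f := Wf_le fun a ha _ r hr => by
    obtain ⟨w, ⟨hwV, hwA⟩, rfl⟩ := ha
    obtain ⟨v, hv, e⟩ := hoi w hwV
    have hr' : f r ∈ oddC (B.ι v) := by
      rw [← e]; exact oddC_conj hr
    have hGi : B.Good i := by
      classical
      choose g hg using fun u : {u : W // W.inV k u} => hoi u u.2
      let g' : {u : W // W.inV k u} → {u : W // W.inV i u} := fun u => ⟨g u, (hg u).1⟩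
      have hinj : Function.Injective g' := fun u v e => by
        have h1 := (hg u).2
        rw [show g u = g v from congrArg Subtype.val e, ← (hg v).2] at h1
        exact Subtype.ext (B.inj (mul_left_cancel (mul_right_cancel h1)))
      have hsurj : Function.Surjective g' := ((Fintype.bijective_iff_injective_and_card g').mpr ⟨hinj, by
        rw [Fintype.card_subtype, Fintype.card_subtype, (W.inV_facts k).2.2.2.2, (W.inV_facts i).2.2.2.2]⟩).2
      intro t ht ht1
      obtain ⟨u, hu⟩ := hsurj ⟨t, ht⟩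
      have e1 := (hg u).2
      rw [show g u = t from congrArg Subtype.val hu] at e1
      rw [← e1]
      refine (hk u u.2 fun h1 => ht1 (B.ι_eq_one.mp ?_)).conj _
      rw [← e1, h1, map_one]; group
    have hle : Wf (B.U i) ≤ Wf (B.U k) := Wf_le fun u hu _ => B.core_le_A hk (B.U_le_A i hu)
    refine hle (B.core_le hGi ?_ ?_ hr')
    · rw [← map_mul, ((W.inV_facts i).2.2.1 v hv).1, map_one]
    · rintro _ ⟨u, hu, rfl⟩
      rw [← map_mul, ← map_mul, (W.inV_facts i).2.2.2.1 u v hu.1 hv]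
  have h1 : o * c * x * (o * c)⁻¹ ∈ Wf (B.U k) := h hx
  have := mul_mem (mul_mem (inv_mem hoW) h1) hoW
  rwa [show o⁻¹ * (o * c * x * (o * c)⁻¹) * o = c * x * c⁻¹ by group] at this

/-- The centraliser of a conjugate of the central involution in the subgroup of order sixteen normalises it. -/
theorem cent_conj_le (hF : B.Fused) {k : Fin 3} (hk : B.Good k) {a g : G} (ha : a ∈ B.A) (hg : g * B.z * g⁻¹ = a) :
    Subgroup.centralizer ({a} : Set G) ≤ Subgroup.normalizer (Wf (B.U k) : Set G) := by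
  obtain ⟨n, hn, -, hne⟩ := B.control (H := ⊤) le_top (g := g) (Subgroup.mem_top _) B.z_mem_A (by rw [hg]; exact ha)
  rw [hg] at hne
  intro c hc
  have hnM := B.normalizer_le hk hn
  have h1 : n⁻¹ * c * n⁻¹⁻¹ ∈ Subgroup.centralizer ({B.z} : Set G) := by
    rw [Subgroup.mem_centralizer_singleton_iff] at hc ⊢
    rw [← hne] at hc
    calc n⁻¹ * c * n⁻¹⁻¹ * B.z = n⁻¹ * (c * (n * B.z * n⁻¹)) * n := by group
      _ = B.z * (n⁻¹ * c * n⁻¹⁻¹) := by rw [hc]; group
  have := mul_mem (mul_mem hnM (B.cent_z_le hF hk h1)) (inv_mem hnM)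
  simpa [mul_assoc] using this

/-- Fixed points of such an element lie in its core. -/
theorem inf_le_core (hF : B.Fused) {k : Fin 3} (hk : B.Good k) {a g : G} (ha : a ∈ B.A) (hg : g * B.z * g⁻¹ = a) :
    Wf (B.U k) ⊓ Subgroup.centralizer ({a} : Set G) ≤ oddC a := by
  refine le_oddC inf_le_right ((B.odd_W hk).of_dvd_nat (Subgroup.card_dvd_of_le inf_le_left)) fun c hc r hr => ?_
  exact Subgroup.mem_inf.mpr ⟨(Subgroup.mem_normalizer_iff.mp (B.cent_conj_le hF hk ha hg hc) r).mp hr.1,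
    mul_mem (mul_mem hc hr.2) (inv_mem hc)⟩

end Base

end CfsgLib.A8Sylow
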